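import Mathlib

set_option autoImplicit false

namespace Cfsg.Agent.Lib.helper21

open Subgroup MulAction

/-- If `P` is a Sylow `p`-subgroup of `G` contained in a subgroup `N`, then every `p`-subgroup
`H` of `N` is conjugate by an element of `N` into `P`. -/
theorem exists_conj_le_sylow_of_le {G : Type*} [Group G] [Finite G] {p : ℕ} [Fact p.Prime]
    (P : Sylow p G) (N : Subgroup G) (hPN : (P : Subgroup G) ≤ N) (H : Subgroup G)
    (hH : IsPGroup p H) (hHN : H ≤ N) :
    ∃ x ∈ N, ∀ y ∈ H, x⁻¹ * y * x ∈ (P : Subgroup G) := by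
  have hH' : IsPGroup p (H.subgroupOf N) := hH.comap_subtype
  obtain ⟨S, hS⟩ := hH'.exists_le_sylow
  obtain ⟨n, hn⟩ := exists_smul_eq N (P.subtype hPN) S
  refine ⟨n.1, n.2, fun y hy => ?_⟩
  have h1 : (⟨y, hHN hy⟩ : N) ∈ (S : Subgroup N) := hS (by rw [mem_subgroupOf]; exact hy)
  rw [← hn, Sylow.coe_subgroup_smul, Subgroup.mem_pointwise_smul_iff_inv_smul_mem,
    Sylow.coe_subtype, mem_subgroupOf] at h1
  simpa [MulAut.smul_def, MulAut.conj_inv_apply] using h1

end Cfsg.Agent.Lib.helper21
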