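import Mathlib
import Cfsg.Agent.Lib.helper21.SylowConj

set_option autoImplicit false

/-!
# Frattini-type lemmas for a Sylow subgroup of a normal subgroup

`M` is a normal subgroup of the finite group `G`, `P` a Sylow `p`-subgroup of `M`, viewed in `G`
as `P.map M.subtype`, and `N = N_G(P)`.
-/

namespace Cfsg.Agent.Lib.helper21

open Subgroup

variable {G : Type*} [Group G]

/-- In a finite group, an element conjugating a subgroup into itself normalizes it. -/
theorem mem_normalizer_of_conj_mem_fin21 [Finite G] (H : Subgroup G) (g : G)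
    (h : ∀ x ∈ H, g * x * g⁻¹ ∈ H) : g ∈ normalizer (H : Set G) := by
  rw [mem_set_normalizer_iff]
  intro n
  refine ⟨h n, fun hn => ?_⟩
  let f : H → H := fun x => ⟨g * x * g⁻¹, h x x.2⟩
  have hf : Function.Injective f := by
    intro a b hab
    have h1 := congrArg Subtype.val hab
    simp only [f] at h1
    exact Subtype.ext (by simpa using h1)
  obtain ⟨a, ha⟩ := (Finite.injective_iff_surjective.mp hf) ⟨g * n * g⁻¹, hn⟩
  have h1 := congrArg Subtype.val ha
  simp only [f] at h1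
  have hna : (a : G) = n := by simpa using h1
  rw [← hna]
  exact a.2

/-- A cyclic group generated by an element of `p`-power order is a `p`-group. -/
theorem isPGroup_zpowers_of_pow_eq_one {p : ℕ} (v : G) (j : ℕ) (hv : v ^ p ^ j = 1) :
    IsPGroup p (zpowers v) := by
  intro g
  obtain ⟨z, hz⟩ := mem_zpowers_iff.mp g.2
  refine ⟨j, Subtype.ext ?_⟩
  rw [Subgroup.coe_pow, Subgroup.coe_one, ← hz, ← zpow_natCast, ← zpow_mul, mul_comm, zpow_mul,
    zpow_natCast, hv, one_zpow]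

/-- A conjugate of an element of a Sylow `p`-subgroup `P` of a normal subgroup `M` which lies in
`N_G(P)` lies in `P`. -/
theorem conj_mem_sylow_of_mem_normalizer [Finite G] {p : ℕ} [Fact p.Prime] (M : Subgroup G)
    [hM : M.Normal] (P : Sylow p M) (u : G) (hu : u ∈ (P : Subgroup M).map M.subtype) (x : G)
    (hx : x⁻¹ * u * x ∈ normalizer (((P : Subgroup M).map M.subtype : Subgroup G) : Set G)) :
    x⁻¹ * u * x ∈ (P : Subgroup M).map M.subtype := by
  obtain ⟨u', hu', rfl⟩ := hu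
  have hvM : x⁻¹ * (u' : G) * x ∈ M := by
    have := hM.conj_mem (u' : G) u'.2 x⁻¹
    simpa using this
  obtain ⟨j, hj⟩ := P.isPGroup' ⟨u', hu'⟩
  have hj' : (u' : G) ^ p ^ j = 1 := by
    have h1 := congrArg (fun t : (P : Subgroup M) => ((t : M) : G)) hj
    simpa using h1
  have hvj : (⟨x⁻¹ * (u' : G) * x, hvM⟩ : M) ^ p ^ j = 1 := by
    apply Subtype.ext
    rw [Subgroup.coe_pow, Subgroup.coe_one]
    show (x⁻¹ * (u' : G) * x) ^ p ^ j = 1
    rw [show x⁻¹ * (u' : G) * x = MulAut.conj x⁻¹ (u' : G) by simp,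
      ← map_pow, hj', map_one]
  have hQ : IsPGroup p (zpowers (⟨x⁻¹ * (u' : G) * x, hvM⟩ : M)) :=
    isPGroup_zpowers_of_pow_eq_one _ j hvj
  have hnorm : (⟨x⁻¹ * (u' : G) * x, hvM⟩ : M) ∈ normalizer ((P : Subgroup M) : Set M) := by
    rw [mem_set_normalizer_iff]
    intro h
    have h1 := (mem_set_normalizer_iff.mp hx) (h : G)
    have e1 : (h : G) ∈ (((P : Subgroup M).map M.subtype : Subgroup G) : Set G) ↔
        h ∈ ((P : Subgroup M) : Set M) := by
      constructor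
      · rintro ⟨w, hw, hwe⟩
        have : w = h := Subtype.ext hwe
        rw [← this]; exact hw
      · intro hh
        exact ⟨h, hh, rfl⟩
    have e2 : x⁻¹ * (u' : G) * x * (h : G) * (x⁻¹ * (u' : G) * x)⁻¹ ∈
        (((P : Subgroup M).map M.subtype : Subgroup G) : Set G) ↔
        (⟨x⁻¹ * (u' : G) * x, hvM⟩ : M) * h * (⟨x⁻¹ * (u' : G) * x, hvM⟩ : M)⁻¹ ∈
          ((P : Subgroup M) : Set M) := by
      constructor
      · rintro ⟨w, hw, hwe⟩
        have : w = (⟨x⁻¹ * (u' : G) * x, hvM⟩ : M) * h * (⟨x⁻¹ * (u' : G) * x, hvM⟩ : M)⁻¹ :=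
          Subtype.ext hwe
        rw [← this]; exact hw
      · intro hh
        exact ⟨_, hh, rfl⟩
    rw [← e1, ← e2]
    exact h1
  have hinf := hQ.inf_normalizer_sylow P
  have hvP : (⟨x⁻¹ * (u' : G) * x, hvM⟩ : M) ∈
      zpowers (⟨x⁻¹ * (u' : G) * x, hvM⟩ : M) ⊓ (P : Subgroup M) := by
    rw [← hinf]
    exact ⟨mem_zpowers _, hnorm⟩
  exact ⟨_, hvP.2, rfl⟩

/-- Frattini-type argument: a normal subgroup `L` of `G` with `L ∩ N_G(P) ≤ K` and `L ∩ M ≤ K`
is contained in `K`. -/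
theorem le_of_inf_normalizer_sylow_le [Finite G] {p : ℕ} [Fact p.Prime] (M : Subgroup G)
    [hM : M.Normal] (P : Sylow p M) (K L : Subgroup G) [hL : L.Normal]
    (hLN : L ⊓ normalizer (((P : Subgroup M).map M.subtype : Subgroup G) : Set G) ≤ K)
    (hLM : L ⊓ M ≤ K) : L ≤ K := by
  intro x hx
  have hP₀M : (P : Subgroup M).map M.subtype ≤ M := map_subtype_le _
  have hQY : ((P : Subgroup M).map M.subtype).map (MulAut.conj x).toMonoidHom ≤
      (L ⊓ M) ⊔ (P : Subgroup M).map M.subtype := by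
    rintro _ ⟨u, hu, rfl⟩
    have h1 : x * u * x⁻¹ * u⁻¹ ∈ L ⊓ M := by
      refine ⟨?_, ?_⟩
      · have h2 := hL.conj_mem x⁻¹ (L.inv_mem hx) u
        have h3 := L.mul_mem hx h2
        simpa [mul_assoc] using h3
      · have h2 := hM.conj_mem u (hP₀M hu) x
        exact M.mul_mem h2 (M.inv_mem (hP₀M hu))
    have h4 : (MulAut.conj x).toMonoidHom u = (x * u * x⁻¹ * u⁻¹) * u := by
      simp [MulAut.conj_apply]
    rw [h4]
    exact Subgroup.mul_mem _ (mem_sup_left h1) (mem_sup_right hu)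
  have hQp : IsPGroup p (((P : Subgroup M).map M.subtype).map (MulAut.conj x).toMonoidHom) :=
    (P.isPGroup'.map M.subtype).map _
  obtain ⟨y, hyY, hy⟩ := exists_conj_le_sylow_of_le P
    (((L ⊓ M) ⊔ (P : Subgroup M).map M.subtype).subgroupOf M)
    (fun u hu => mem_subgroupOf.mpr (mem_sup_right (mem_map_of_mem _ hu)))
    ((((P : Subgroup M).map M.subtype).map (MulAut.conj x).toMonoidHom).subgroupOf M)
    hQp.comap_subtype (fun z hz => mem_subgroupOf.mpr (hQY (mem_subgroupOf.mp hz)))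
  have hyY' : (y : G) ∈ (((L ⊓ M) ⊔ (P : Subgroup M).map M.subtype : Subgroup G) : Set G) :=
    mem_subgroupOf.mp hyY
  rw [Subgroup.normal_mul] at hyY'
  obtain ⟨l, hl, u, hu, hlu⟩ := Set.mem_mul.mp hyY'
  -- `l⁻¹ * x` normalizes `P`
  have hnorm : l⁻¹ * x ∈ normalizer (((P : Subgroup M).map M.subtype : Subgroup G) : Set G) := by
    apply mem_normalizer_of_conj_mem_fin21
    intro w hw
    have hzQ : x * w * x⁻¹ ∈
        ((P : Subgroup M).map M.subtype).map (MulAut.conj x).toMonoidHom :=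
      ⟨w, hw, by simp [MulAut.conj_apply]⟩
    have hzM : x * w * x⁻¹ ∈ M := hM.conj_mem w (hP₀M hw) x
    have h5 := hy ⟨x * w * x⁻¹, hzM⟩ (mem_subgroupOf.mpr hzQ)
    have h6 : ((y⁻¹ * ⟨x * w * x⁻¹, hzM⟩ * y : M) : G) ∈ (P : Subgroup M).map M.subtype :=
      mem_map_of_mem _ h5
    have h7 : ((y⁻¹ * ⟨x * w * x⁻¹, hzM⟩ * y : M) : G) = u⁻¹ * (l⁻¹ * x * w * (l⁻¹ * x)⁻¹) * u := by
      simp only [Subgroup.coe_mul, Subgroup.coe_inv, ← hlu]
      group
    rw [h7] at h6
    have h8 := Subgroup.mul_mem _ (Subgroup.mul_mem _ hu h6) (Subgroup.inv_mem _ hu)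
    have h9 : u * (u⁻¹ * (l⁻¹ * x * w * (l⁻¹ * x)⁻¹) * u) * u⁻¹ = l⁻¹ * x * w * (l⁻¹ * x)⁻¹ := by
      group
    rw [h9] at h8
    exact h8
  have hlL : l ∈ L := hl.1
  have h10 : l⁻¹ * x ∈ K := hLN ⟨L.mul_mem (L.inv_mem hlL) hx, hnorm⟩
  have h11 : l ∈ K := hLM hl
  have h12 := K.mul_mem h11 h10
  simpa using h12

end Cfsg.Agent.Lib.helper21
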