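import Mathlib
import Cfsg.Prelude.Def_Characters
import Cfsg.Prelude.Def_Blocks
import Cfsg.Agent.Lib.helper4.Induction
import Cfsg.Agent.Lib.helper4.CharDecomp
import Cfsg.Agent.Lib.helper4.Burnside2
import Cfsg.Agent.Lib.helper4.Regular
import Cfsg.Agent.Lib.helper82.CharQuot
import Cfsg.Agent.Lib.helper21.SylowCosets
import Cfsg.Agent.S0198

set_option autoImplicit false

/-!
# Induction from a self-centralizing subgroup of prime order (helper21 library)

`P ≤ G` of prime order `p` with `C_G(P) ≤ P`; `N = N_G(P)`.  We compute inner products of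
characters induced from `P` to `G` directly (no characters of `N` are needed).
-/

namespace Cfsg.Agent.Lib.helper21

open Cfsg Cfsg.Agent.Lib.helper4
open scoped ComplexConjugate

universe u

section Conj

variable {G : Type u} [Group G]

/-- The conjugate `y ↦ β (g⁻¹ y g)` of a function on a subgroup `P` (zero where `g⁻¹ y g ∉ P`). -/
noncomputable def cjFun (P : Subgroup G) (g : G) (β : P → ℂ) : P → ℂ :=
  fun y => extendByZero P β (g⁻¹ * (y : G) * g)

theorem cjFun_apply (P : Subgroup G) (g : G) (β : P → ℂ) (y : P) :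
    cjFun P g β y = extendByZero P β (g⁻¹ * (y : G) * g) := rfl

theorem conj_mem_of_mem_normalizer {P : Subgroup G} {g : G}
    (hg : g ∈ Subgroup.normalizer (P : Set G)) {y : G} (hy : y ∈ P) : g⁻¹ * y * g ∈ P :=
  (Subgroup.mem_normalizer_iff''.mp hg y).mp hy

theorem conj_mem_iff_of_mem_normalizer {P : Subgroup G} {g : G}
    (hg : g ∈ Subgroup.normalizer (P : Set G)) (y : G) : g⁻¹ * y * g ∈ P ↔ y ∈ P :=
  (Subgroup.mem_normalizer_iff''.mp hg y).symm

theorem cjFun_apply_of_mem {P : Subgroup G} {g : G}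
    (hg : g ∈ Subgroup.normalizer (P : Set G)) (β : P → ℂ) (y : P) :
    cjFun P g β y = β ⟨g⁻¹ * (y : G) * g, conj_mem_of_mem_normalizer hg y.2⟩ := by
  rw [cjFun_apply, extendByZero_apply_mem]

theorem extendByZero_cjFun {P : Subgroup G} {g : G}
    (hg : g ∈ Subgroup.normalizer (P : Set G)) (β : P → ℂ) (x : G) :
    extendByZero P (cjFun P g β) x = extendByZero P β (g⁻¹ * x * g) := by
  by_cases hx : x ∈ P
  · rw [extendByZero_apply_mem _ _ hx]; rfl
  · rw [extendByZero_apply_of_not_mem _ _ hx, extendByZero_apply_of_not_mem]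
    exact fun h => hx ((conj_mem_iff_of_mem_normalizer hg x).mp h)

theorem cjFun_sub (P : Subgroup G) (g : G) (β γ : P → ℂ) :
    cjFun P g (β - γ) = cjFun P g β - cjFun P g γ := by
  funext y
  simp only [cjFun_apply, extendByZero_sub, Pi.sub_apply]

theorem cjFun_one (P : Subgroup G) (β : P → ℂ) : cjFun P 1 β = β := by
  funext y
  rw [cjFun_apply]
  have : (1 : G)⁻¹ * (y : G) * 1 = (y : G) := by simp
  rw [this, extendByZero_apply_coe]

theorem cjFun_mul {P : Subgroup G} (a : G) {b : G}
    (hb : b ∈ Subgroup.normalizer (P : Set G)) (β : P → ℂ) :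
    cjFun P (a * b) β = cjFun P a (cjFun P b β) := by
  funext y
  rw [cjFun_apply, cjFun_apply, extendByZero_cjFun hb]
  congr 1
  simp [mul_assoc]

theorem cjFun_of_mem {P : Subgroup G} (hcomm : ∀ a b : P, a * b = b * a) {g : G} (hg : g ∈ P)
    (β : P → ℂ) : cjFun P g β = β := by
  funext y
  rw [cjFun_apply]
  have h1 : g⁻¹ * (y : G) * g = (y : G) := by
    have := congrArg Subtype.val (hcomm y ⟨g, hg⟩)
    simp only [Subgroup.coe_mul] at this
    rw [mul_assoc, this, inv_mul_cancel_left]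
  rw [h1, extendByZero_apply_coe]

theorem cjFun_const {P : Subgroup G} {g : G} (hg : g ∈ Subgroup.normalizer (P : Set G)) (c : ℂ) :
    cjFun P g (fun _ => c) = fun _ => c := by
  funext y
  rw [cjFun_apply_of_mem hg]

/-- Conjugation by an element of the normalizer, as an endomorphism of `P`. -/
def cjHom (P : Subgroup G) (g : G) (hg : g ∈ Subgroup.normalizer (P : Set G)) : P →* P where
  toFun y := ⟨g⁻¹ * (y : G) * g, conj_mem_of_mem_normalizer hg y.2⟩
  map_one' := by ext; simp
  map_mul' a b := by ext; simp [mul_assoc]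

theorem cjFun_hom {P : Subgroup G} {g : G} (hg : g ∈ Subgroup.normalizer (P : Set G))
    (f : P →* ℂˣ) : cjFun P g (fun y => (f y : ℂ)) = fun y => ((f.comp (cjHom P g hg)) y : ℂ) := by
  funext y
  rw [cjFun_apply_of_mem hg]
  rfl

/-- A subgroup of prime order is a trivial-intersection set. -/
theorem conj_not_mem_of_prime_card {p : ℕ} (hp : p.Prime) {P : Subgroup G}
    (hP : Nat.card P = p) {g : G} (hg : g ∉ Subgroup.normalizer (P : Set G)) {y : G}
    (hy : y ∈ P) (hy1 : y ≠ 1) : g⁻¹ * y * g ∉ P := by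
  intro hmem
  have := Fact.mk hp
  have hgen : ∀ z : G, z ∈ P → z ≠ 1 → P = Subgroup.zpowers z := by
    intro z hz hz1
    have h1 : Subgroup.zpowers (⟨z, hz⟩ : P) = ⊤ :=
      zpowers_eq_top_of_prime_card hP (fun h => hz1 (congrArg Subtype.val h))
    apply le_antisymm
    · intro w hw
      have h2 : (⟨w, hw⟩ : P) ∈ Subgroup.zpowers (⟨z, hz⟩ : P) := by rw [h1]; trivial
      obtain ⟨k, hk⟩ := Subgroup.mem_zpowers_iff.mp h2
      refine Subgroup.mem_zpowers_iff.mpr ⟨k, ?_⟩
      have := congrArg Subtype.val hk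
      simpa using this
    · rw [Subgroup.zpowers_le]; exact hz
  have h2 : g⁻¹ * y * g ≠ 1 := by
    intro h
    apply hy1
    have : y = g * (g⁻¹ * y * g) * g⁻¹ := by group
    rw [this, h]; group
  have h3 : g⁻¹ ∈ Subgroup.normalizer (P : Set G) := by
    apply mem_normalizer_of_conj_generator (hgen y hy hy1)
    have := hgen _ hmem h2
    rw [inv_inv]
    exact this
  exact hg (by simpa using inv_mem h3)

end Conj

section Ind

variable {G : Type u} [Group G] [Fintype G]

theorem indFun_cjFun {P : Subgroup G} {g : G} (hg : g ∈ Subgroup.normalizer (P : Set G))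
    (β : P → ℂ) : indFun P (cjFun P g β) = indFun P β := by
  funext z
  rw [indFun_apply, indFun_apply]
  congr 1
  apply Fintype.sum_equiv (Equiv.mulRight g)
  intro x
  rw [extendByZero_cjFun hg]
  congr 1
  simp [mul_assoc]

open Classical in
/-- The kernel computing inner products of functions induced from `P`. -/
noncomputable def tiK (P : Subgroup G) [Fintype P] (α β : P → ℂ) : ℂ :=
  (Nat.card P : ℂ)⁻¹ *
    ∑ g : G, if g ∈ Subgroup.normalizer (P : Set G) then classInner α (cjFun P g β) else 0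

open Classical in
/-- Inner product of two functions induced from a subgroup of prime order, the first vanishing
at the identity. -/
theorem classInner_indFun_indFun {p : ℕ} (hp : p.Prime) {P : Subgroup G} [Fintype P]
    (hP : Nat.card P = p) (α β : P → ℂ) (hα : α 1 = 0) :
    classInner (indFun P α) (indFun P β) = tiK P α β := by
  rw [frobenius_reciprocity P α (isClassFunction_indFun P β)]
  unfold tiK
  have hpt : ∀ y : P, y ≠ 1 → indFun P β (y : G) = (Nat.card P : ℂ)⁻¹ *
      ∑ g : G, if g ∈ Subgroup.normalizer (P : Set G) then cjFun P g β y else 0 := by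
    intro y hy
    rw [indFun_apply]
    congr 1
    apply Finset.sum_congr rfl
    intro g _
    split_ifs with hg
    · rfl
    · exact extendByZero_apply_of_not_mem _ _
        (conj_not_mem_of_prime_card hp hP hg y.2 (fun h => hy (Subtype.ext h)))
  unfold classInner
  congr 1
  have h1 : ∀ y : P, α y * conj (indFun P β (y : G)) =
      ∑ g : G, if g ∈ Subgroup.normalizer (P : Set G) then
        (Nat.card P : ℂ)⁻¹ * (α y * conj (cjFun P g β y)) else 0 := by
    intro y
    by_cases hy : y = 1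
    · rw [hy, hα, zero_mul]
      symm
      apply Finset.sum_eq_zero
      intro g _
      split_ifs <;> simp
    · rw [hpt y hy, map_mul, map_inv₀, map_natCast, map_sum, Finset.mul_sum, Finset.mul_sum]
      apply Finset.sum_congr rfl
      intro g _
      split_ifs
      · ring
      · simp
  rw [Finset.sum_congr rfl (fun y _ => h1 y), Finset.sum_comm]
  apply Finset.sum_congr rfl
  intro g _
  split_ifs
  · rw [Finset.mul_sum]
  · simp

open Classical in
theorem tiK_sub_left (P : Subgroup G) [Fintype P] (α α' β : P → ℂ) :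
    tiK P (α - α') β = tiK P α β - tiK P α' β := by
  unfold tiK
  rw [← mul_sub, ← Finset.sum_sub_distrib]
  congr 1
  apply Finset.sum_congr rfl
  intro g _
  split_ifs
  · rw [classInner_sub_left]
  · simp

open Classical in
theorem tiK_sub_right (P : Subgroup G) [Fintype P] (α β β' : P → ℂ) :
    tiK P α (β - β') = tiK P α β - tiK P α β' := by
  unfold tiK
  rw [← mul_sub, ← Finset.sum_sub_distrib]
  congr 1
  apply Finset.sum_congr rfl
  intro g _
  split_ifs
  · rw [cjFun_sub, classInner_sub_right]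
  · simp

end Ind

section PrimeChars

variable {G : Type u} [Group G] [Fintype G] {p : ℕ} {P : Subgroup G}

omit [Fintype G] in
theorem comm_of_prime_card (hp : p.Prime) (hP : Nat.card P = p) : ∀ a b : P, a * b = b * a := by
  have := Fact.mk hp
  have := isCyclic_of_prime_card hP
  have := IsCyclic.isMulCommutative (α := P)
  intro a b
  exact mul_comm' a b

omit [Fintype G] in
theorem irr_hom_of_prime_card (hp : p.Prime) (hP : Nat.card P = p) {ν : P → ℂ}
    (hν : IsIrrCharacter P ν) : ∃ f : P →* ℂˣ, ν = fun y => (f y : ℂ) := by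
  have : Finite P := Nat.finite_of_card_ne_zero (by rw [hP]; exact hp.ne_zero)
  obtain ⟨f, hf⟩ := Cfsg.Agent.Lib.helper82.exists_hom_of_linear (isCharacter_of_isIrrCharacter hν)
    (Cfsg.Agent.Lib.helper82.irr_one_of_commutative (comm_of_prime_card hp hP) hν)
  exact ⟨f, funext hf⟩

omit [Fintype G] in
theorem irr_apply_one_of_prime_card (hp : p.Prime) (hP : Nat.card P = p) {ν : P → ℂ}
    (hν : IsIrrCharacter P ν) : ν 1 = 1 := by
  obtain ⟨f, rfl⟩ := irr_hom_of_prime_card hp hP hν
  simp

omit [Fintype G] in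
theorem isIrrCharacter_cjFun (hp : p.Prime) (hP : Nat.card P = p) {g : G}
    (hg : g ∈ Subgroup.normalizer (P : Set G)) {ν : P → ℂ} (hν : IsIrrCharacter P ν) :
    IsIrrCharacter P (cjFun P g ν) := by
  have : Finite P := Nat.finite_of_card_ne_zero (by rw [hP]; exact hp.ne_zero)
  obtain ⟨f, rfl⟩ := irr_hom_of_prime_card hp hP hν
  rw [cjFun_hom hg]
  exact Cfsg.Agent.Lib.helper82.isIrrCharacter_of_hom _

omit [Fintype G] in
theorem mem_of_cjFun_eq (hp : p.Prime) (hP : Nat.card P = p)
    (hC : Subgroup.centralizer (P : Set G) ≤ P) {g : G}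
    (hg : g ∈ Subgroup.normalizer (P : Set G)) {ν : P → ℂ} (hν : IsIrrCharacter P ν)
    (hν1 : ν ≠ fun _ => 1) (h : cjFun P g ν = ν) : g ∈ P := by
  obtain ⟨f, rfl⟩ := irr_hom_of_prime_card hp hP hν
  have : Fact (Nat.card P).Prime := ⟨hP ▸ hp⟩
  have hker : f.ker = ⊥ := by
    rcases Subgroup.eq_bot_or_eq_top_of_prime_card f.ker with h | h
    · exact h
    · exfalso
      apply hν1
      funext y
      have : y ∈ f.ker := by rw [h]; trivial
      rw [MonoidHom.mem_ker] at this
      rw [this]; rfl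
  have hinj : Function.Injective f := (MonoidHom.ker_eq_bot_iff f).mp hker
  apply hC
  rw [Subgroup.mem_centralizer_iff]
  intro y hy
  have h1 := congrFun h ⟨y, hy⟩
  rw [cjFun_hom hg] at h1
  have h2 : cjHom P g hg ⟨y, hy⟩ = ⟨y, hy⟩ := hinj (Units.ext h1)
  have h3 : g⁻¹ * y * g = y := congrArg Subtype.val h2
  calc y * g = g * (g⁻¹ * y * g) := by group
    _ = g * y := by rw [h3]

omit [Fintype G] in
theorem cjFun_ne_one {g : G} (hg : g ∈ Subgroup.normalizer (P : Set G)) {ν : P → ℂ}
    (hν1 : ν ≠ fun _ => 1) : cjFun P g ν ≠ fun _ => 1 := by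
  intro h
  apply hν1
  have h1 : cjFun P (g⁻¹ * g) ν = cjFun P g⁻¹ (cjFun P g ν) := cjFun_mul g⁻¹ hg ν
  rw [inv_mul_cancel, cjFun_one, h, cjFun_const (inv_mem hg)] at h1
  exact h1

open Classical in
/-- The number of elements of the normalizer conjugating `b` to `a`. -/
noncomputable def tiCount (P : Subgroup G) (a b : P → ℂ) : ℕ :=
  (Finset.univ.filter (fun g : G => g ∈ Subgroup.normalizer (P : Set G) ∧ a = cjFun P g b)).card

open Classical in
theorem tiK_eq_tiCount [Fintype P] (hp : p.Prime) (hP : Nat.card P = p) {a b : P → ℂ}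
    (ha : IsIrrCharacter P a) (hb : IsIrrCharacter P b) :
    tiK P a b = (Nat.card P : ℂ)⁻¹ * (tiCount P a b : ℂ) := by
  unfold tiK tiCount
  congr 1
  rw [Finset.card_filter]
  push_cast
  apply Finset.sum_congr rfl
  intro g _
  by_cases hg : g ∈ Subgroup.normalizer (P : Set G)
  · rw [if_pos hg, classInner_irr ha (isIrrCharacter_cjFun hp hP hg hb)]
    simp [hg]
  · simp [hg]

open Classical in
theorem tiCount_one_one : tiCount P (fun _ => 1) (fun _ => 1) =
    Nat.card (Subgroup.normalizer (P : Set G)) := by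
  unfold tiCount
  rw [Nat.card_eq_fintype_card, Fintype.card_subtype]
  congr 1
  ext g
  simp only [Finset.mem_filter, Finset.mem_univ, true_and]
  constructor
  · exact fun h => h.1
  · exact fun h => ⟨h, (cjFun_const h 1).symm⟩

open Classical in
theorem tiCount_one_right {b : P → ℂ} (hb : b ≠ fun _ => 1) : tiCount P (fun _ => 1) b = 0 := by
  unfold tiCount
  rw [Finset.card_eq_zero, Finset.filter_eq_empty_iff]
  rintro g - ⟨hg, h⟩
  exact cjFun_ne_one hg hb h.symm

open Classical in
theorem tiCount_one_left {a : P → ℂ} (ha : a ≠ fun _ => 1) : tiCount P a (fun _ => 1) = 0 := by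
  unfold tiCount
  rw [Finset.card_eq_zero, Finset.filter_eq_empty_iff]
  rintro g - ⟨hg, h⟩
  rw [cjFun_const hg] at h
  exact ha h

open Classical in
theorem tiCount_self (hp : p.Prime) (hP : Nat.card P = p)
    (hC : Subgroup.centralizer (P : Set G) ≤ P) {b : P → ℂ} (hb : IsIrrCharacter P b)
    (hb1 : b ≠ fun _ => 1) : tiCount P b b = Nat.card P := by
  unfold tiCount
  rw [Nat.card_eq_fintype_card, Fintype.card_subtype]
  congr 1
  ext g
  simp only [Finset.mem_filter, Finset.mem_univ, true_and]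
  constructor
  · exact fun h => mem_of_cjFun_eq hp hP hC h.1 hb hb1 h.2.symm
  · exact fun h => ⟨Subgroup.le_normalizer h, (cjFun_of_mem (comm_of_prime_card hp hP) h b).symm⟩

open Classical in
theorem tiCount_eq_zero_of_indFun_ne {a b : P → ℂ} (h : indFun P a ≠ indFun P b) :
    tiCount P a b = 0 := by
  unfold tiCount
  rw [Finset.card_eq_zero, Finset.filter_eq_empty_iff]
  rintro g - ⟨hg, hab⟩
  apply h
  rw [hab, indFun_cjFun hg]

open Classical in
theorem sum_tiCount [Fintype (IrrCharacter P)] (hp : p.Prime) (hP : Nat.card P = p) {b : P → ℂ}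
    (hb : IsIrrCharacter P b) :
    ∑ a : IrrCharacter P, tiCount P (a : P → ℂ) b = Nat.card (Subgroup.normalizer (P : Set G)) := by
  unfold tiCount
  simp only [Finset.card_filter]
  rw [Finset.sum_comm, Nat.card_eq_fintype_card, Fintype.card_subtype, Finset.card_filter]
  apply Finset.sum_congr rfl
  intro g _
  by_cases hg : g ∈ Subgroup.normalizer (P : Set G)
  · rw [if_pos hg]
    rw [Finset.sum_eq_single (⟨cjFun P g b, isIrrCharacter_cjFun hp hP hg hb⟩ : IrrCharacter P)]
    · simp [hg]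
    · intro a _ ha
      rw [if_neg]
      rintro ⟨-, h⟩
      exact ha (Subtype.ext h)
    · intro h; exact absurd (Finset.mem_univ _) h
  · simp [hg]

/-- Inner products of differences of characters induced from `P`. -/
theorem classInner_indFun_sub_indFun_sub [Fintype P] (hp : p.Prime) (hP : Nat.card P = p)
    {a b c d : P → ℂ} (ha : IsIrrCharacter P a) (hb : IsIrrCharacter P b) :
    classInner (indFun P a - indFun P b) (indFun P c - indFun P d) =
      tiK P a c - tiK P a d - tiK P b c + tiK P b d := by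
  rw [← indFun_sub, ← indFun_sub, classInner_indFun_indFun hp hP _ _ (by
    rw [Pi.sub_apply, irr_apply_one_of_prime_card hp hP ha, irr_apply_one_of_prime_card hp hP hb,
      sub_self]), tiK_sub_left, tiK_sub_right, tiK_sub_right]
  ring

/-- Two nontrivial characters of `P` with the same induced character are conjugate under
the normalizer (in the form: the conjugating elements form a coset of `P`). -/
theorem tiCount_of_indFun_eq [Fintype P] (hp : p.Prime) (hP : Nat.card P = p)
    (hC : Subgroup.centralizer (P : Set G) ≤ P) {a b : P → ℂ} (ha : IsIrrCharacter P a)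
    (hb : IsIrrCharacter P b) (ha1 : a ≠ fun _ => 1) (hb1 : b ≠ fun _ => 1)
    (h : indFun P a = indFun P b) : tiCount P a b = Nat.card P := by
  have h1P : IsIrrCharacter P (fun _ => (1 : ℂ)) := isIrrCharacter_one
  have e1 := classInner_indFun_sub_indFun_sub hp hP (c := b) (d := fun _ => 1) ha h1P
  have e2 := classInner_indFun_sub_indFun_sub hp hP (c := b) (d := fun _ => 1) hb h1P
  rw [h] at e1
  rw [e1] at e2
  rw [tiK_eq_tiCount hp hP ha hb, tiK_eq_tiCount hp hP ha h1P, tiK_eq_tiCount hp hP hb hb,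
    tiK_eq_tiCount hp hP hb h1P, tiCount_one_left ha1, tiCount_one_left hb1,
    tiCount_self hp hP hC hb hb1] at e2
  have hne : (Nat.card P : ℂ) ≠ 0 := by rw [hP]; exact_mod_cast hp.ne_zero
  have h3 : (Nat.card P : ℂ)⁻¹ * (tiCount P a b : ℂ) = (Nat.card P : ℂ)⁻¹ * (Nat.card P : ℂ) := by
    linear_combination e2
  have h4 : (tiCount P a b : ℂ) = (Nat.card P : ℂ) := mul_left_cancel₀ (inv_ne_zero hne) h3
  exact_mod_cast h4

end PrimeChars

section Reps

/-- Representatives for the fibres of a map on a finite set, indexed by `Fin n`. -/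
theorem exists_fin_reps {α β : Type*} [DecidableEq β] (s : Finset α) (F : α → β) (m : ℕ)
    (hm : ∀ a ∈ s, (s.filter (fun a' => F a' = F a)).card ≤ m) :
    ∃ (n : ℕ) (r : Fin n → α), (∀ i, r i ∈ s) ∧ (∀ i j, F (r i) = F (r j) → i = j) ∧
      (∀ a ∈ s, ∃ i, F a = F (r i)) ∧ s.card ≤ m * n := by
  have hI : ∀ b : s.image F, ∃ a, a ∈ s ∧ F a = b.1 := fun b => by
    obtain ⟨a, ha, hab⟩ := Finset.mem_image.mp b.2
    exact ⟨a, ha, hab⟩
  choose rep hreps hrep using hI
  refine ⟨(s.image F).card, fun i => rep ((s.image F).equivFin.symm i), fun i => hreps _,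
    ?_, ?_, ?_⟩
  · intro i j hij
    rw [hrep, hrep] at hij
    exact (s.image F).equivFin.symm.injective (Subtype.ext hij)
  · intro a ha
    refine ⟨(s.image F).equivFin ⟨F a, Finset.mem_image_of_mem F ha⟩, ?_⟩
    show F a = F (rep ((s.image F).equivFin.symm ((s.image F).equivFin ⟨F a, _⟩)))
    rw [Equiv.symm_apply_apply, hrep]
  · apply Finset.card_le_mul_card_image s m
    intro b hb
    obtain ⟨a, ha, rfl⟩ := Finset.mem_image.mp hb
    exact hm a ha

end Reps

section Main

variable {G : Type u} [Group G] [Fintype G]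

/-- **Exceptional characters for a self-centralizing subgroup of prime order** (Brauer–Suzuki).
Let `P ≤ G` have prime order `p`, `C_G(P) ≤ P`, `|N_G(P)| = p e` and `e (e + 1) < p - 1`.
Then there are a sign `ε`, integers `a ψ` (`ψ` irreducible) and a set `S` of at least
`(p - 1) / e` irreducible characters (the exceptional ones) with: `a 1 = 1`, `∑ a ψ ^ 2 = e`,
`ψ 1 ≡ a ψ` modulo `p` whenever `a ψ ≠ 0`, `a χ = 0` for `χ ∈ S`, and
`∑ a ψ * ψ 1 = ε * χ 1` for every `χ ∈ S`. -/
theorem exceptional_of_prime_self_centralizing [Fintype (IrrCharacter G)] {p e : ℕ}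
    (hp : p.Prime) (P : Subgroup G) (hP : Nat.card P = p)
    (hC : Subgroup.centralizer (P : Set G) ≤ P)
    (hN : Nat.card (Subgroup.normalizer (P : Set G)) = p * e) (he : e * (e + 1) < p - 1) :
    ∃ (ε : ℤ) (a : IrrCharacter G → ℤ) (S : Finset (IrrCharacter G)), (ε = 1 ∨ ε = -1) ∧
      a ⟨fun _ => 1, isIrrCharacter_one⟩ = 1 ∧ ∑ ψ, a ψ ^ 2 = (e : ℤ) ∧
      (∀ ψ, a ψ ≠ 0 → ∃ k : ℤ, (ψ : G → ℂ) 1 = ((a ψ + p * k : ℤ) : ℂ)) ∧
      e + 2 ≤ S.card ∧ p - 1 ≤ e * S.card ∧
      ∀ χ ∈ S, a χ = 0 ∧ ∑ ψ, (a ψ : ℂ) * (ψ : G → ℂ) 1 = (ε : ℂ) * (χ : G → ℂ) 1 := by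
  classical
  have := Fintype.ofFinite P
  have := Fintype.ofFinite (IrrCharacter P)
  have hcardP : (Nat.card P : ℂ) ≠ 0 := by rw [hP]; exact_mod_cast hp.ne_zero
  obtain ⟨one, hone⟩ : ∃ one : P → ℂ, one = fun _ => 1 := ⟨_, rfl⟩
  have h1P : IsIrrCharacter P one := by rw [hone]; exact isIrrCharacter_one
  obtain ⟨triv, htriv⟩ : ∃ triv : IrrCharacter P, triv = ⟨one, h1P⟩ := ⟨_, rfl⟩
  -- the number of irreducible characters of `P`
  have hcardIrr : Fintype.card (IrrCharacter P) = p := by
    have h := sum_irr_degree_sq (G := P)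
    have h2 : ∀ χ : IrrCharacter P, (χ : P → ℂ) 1 ^ 2 = 1 := fun χ => by
      rw [irr_apply_one_of_prime_card hp hP χ.2, one_pow]
    rw [Finset.sum_congr rfl (fun χ _ => h2 χ), Finset.sum_const, Finset.card_univ, hP] at h
    simpa using h
  obtain ⟨s, hs⟩ : ∃ s : Finset (IrrCharacter P), s = Finset.univ.erase triv := ⟨_, rfl⟩
  have hscard : s.card = p - 1 := by
    rw [hs, Finset.card_erase_of_mem (Finset.mem_univ _), Finset.card_univ, hcardIrr]
  have hsmem : ∀ b : IrrCharacter P, b ∈ s ↔ (b : P → ℂ) ≠ one := by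
    intro b
    rw [hs, Finset.mem_erase, htriv]
    simp [Subtype.ext_iff]
  -- fibres of induction
  have hfib : ∀ b ∈ s, (s.filter (fun b' : IrrCharacter P =>
      indFun P (b' : P → ℂ) = indFun P (b : P → ℂ))).card ≤ e := by
    intro b hb
    have hb1 := (hsmem b).mp hb
    have h1 : ∑ b' ∈ s.filter (fun b' : IrrCharacter P =>
        indFun P (b' : P → ℂ) = indFun P (b : P → ℂ)), tiCount P (b' : P → ℂ) (b : P → ℂ) =
        (s.filter (fun b' : IrrCharacter P =>
          indFun P (b' : P → ℂ) = indFun P (b : P → ℂ))).card * p := by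
      apply Finset.sum_const_nat
      intro b' hb'
      rw [Finset.mem_filter] at hb'
      rw [tiCount_of_indFun_eq hp hP hC b'.2 b.2 (hone ▸ (hsmem b').mp hb'.1) (hone ▸ hb1) hb'.2,
        hP]
    have h2 : ∑ b' ∈ s.filter (fun b' : IrrCharacter P =>
        indFun P (b' : P → ℂ) = indFun P (b : P → ℂ)), tiCount P (b' : P → ℂ) (b : P → ℂ) ≤
        ∑ b' : IrrCharacter P, tiCount P (b' : P → ℂ) (b : P → ℂ) :=
      Finset.sum_le_sum_of_subset (Finset.subset_univ _)
    rw [h1, sum_tiCount hp hP b.2, hN, mul_comm] at h2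
    exact Nat.le_of_mul_le_mul_left h2 hp.pos
  obtain ⟨n, r, hrs, hrinj, hrsurj, hcard⟩ :=
    exists_fin_reps s (fun b : IrrCharacter P => indFun P (b : P → ℂ)) e hfib
  rw [hscard] at hcard
  have hn : e + 2 ≤ n := by
    by_contra hcon
    have h1 : e * n ≤ e * (e + 1) := Nat.mul_le_mul_left e (by omega)
    omega
  obtain ⟨i₀, hi₀⟩ : ∃ i₀ : Fin n, i₀ = ⟨0, by omega⟩ := ⟨_, rfl⟩
  obtain ⟨ν, hνdef⟩ : ∃ ν : Fin n → (P → ℂ), ν = fun i => (r i : P → ℂ) := ⟨_, rfl⟩
  have hνirr : ∀ i, IsIrrCharacter P (ν i) := fun i => by rw [hνdef]; exact (r i).2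
  have hν1 : ∀ i, ν i ≠ one := fun i => by rw [hνdef]; exact (hsmem (r i)).mp (hrs i)
  have hνinj : ∀ i j, indFun P (ν i) = indFun P (ν j) → i = j := fun i j h => by
    rw [hνdef] at h; exact hrinj i j h
  have hνsurj : ∀ b : P → ℂ, IsIrrCharacter P b → b ≠ one → ∃ i, indFun P b = indFun P (ν i) := by
    intro b hb hb1
    obtain ⟨i, hi⟩ := hrsurj ⟨b, hb⟩ ((hsmem _).mpr hb1)
    exact ⟨i, by rw [hνdef]; exact hi⟩
  -- values of the kernel
  have hK0 : ∀ i j, i ≠ j → tiK P (ν i) (ν j) = 0 := by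
    intro i j hij
    rw [tiK_eq_tiCount hp hP (hνirr i) (hνirr j),
      tiCount_eq_zero_of_indFun_ne (fun h => hij (hνinj i j h))]
    simp
  have hK1 : ∀ i, tiK P (ν i) (ν i) = 1 := by
    intro i
    rw [tiK_eq_tiCount hp hP (hνirr i) (hνirr i),
      tiCount_self hp hP hC (hνirr i) (hone ▸ hν1 i)]
    exact inv_mul_cancel₀ hcardP
  have hK10 : ∀ i, tiK P (ν i) one = 0 := by
    intro i
    rw [tiK_eq_tiCount hp hP (hνirr i) h1P]
    subst hone
    rw [tiCount_one_left (hν1 i)]
    simp
  have hK01 : ∀ i, tiK P one (ν i) = 0 := by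
    intro i
    rw [tiK_eq_tiCount hp hP h1P (hνirr i)]
    subst hone
    rw [tiCount_one_right (hν1 i)]
    simp
  have hK11 : tiK P one one = (e : ℂ) := by
    rw [tiK_eq_tiCount hp hP h1P h1P]
    subst hone
    rw [tiCount_one_one, hN]
    rw [hP] at hcardP ⊢
    push_cast
    field_simp
  have hdeg1 : ∀ i, ν i 1 = 1 := fun i => irr_apply_one_of_prime_card hp hP (hνirr i)
  -- the isometry lemma
  obtain ⟨ε, hε, μ, hμirr, hμinj, hτ⟩ := Cfsg.Agent.S0198.result n i₀
    (fun i => indFun P (ν i) - indFun P (ν i₀)) (sub_self _)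
    (fun i => ⟨_, _, isCharacter_indFun P (isCharacter_of_isIrrCharacter (hνirr i)),
      isCharacter_indFun P (isCharacter_of_isIrrCharacter (hνirr i₀)), rfl⟩)
    (fun i => by rw [Pi.sub_apply, indFun_one, indFun_one, hdeg1, hdeg1, sub_self])
    (fun i j hi hj => by
      rw [classInner_indFun_sub_indFun_sub hp hP (hνirr i) (hνirr i₀), hK1 i₀, hK0 i i₀ hi,
        hK0 i₀ j (Ne.symm hj)]
      by_cases hij : i = j
      · rw [if_pos hij, hij, hK1]; norm_num
      · rw [if_neg hij, hK0 i j hij]; norm_num)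
  obtain ⟨εz, hεz, rfl⟩ : ∃ εz : ℤ, (εz = 1 ∨ εz = -1) ∧ ε = (εz : ℂ) := by
    rcases hε with h | h
    · exact ⟨1, Or.inl rfl, by rw [h]; simp⟩
    · exact ⟨-1, Or.inr rfl, by rw [h]; simp⟩
  have hεsq : εz ^ 2 = 1 := by rcases hεz with h | h <;> rw [h] <;> norm_num
  obtain ⟨Γ, hΓdef⟩ : ∃ Γ : G → ℂ,
      Γ = indFun P (ν i₀) - indFun P one - (εz : ℂ) • μ i₀ := ⟨_, rfl⟩
  have hΓgen : IsGeneralizedCharacter G Γ := by
    rw [hΓdef]
    exact isGeneralizedCharacter_sub (isGeneralizedCharacter_sub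
      (isGeneralizedCharacter_of_isCharacter
        (isCharacter_indFun P (isCharacter_of_isIrrCharacter (hνirr i₀))))
      (isGeneralizedCharacter_of_isCharacter
        (isCharacter_indFun P (isCharacter_of_isIrrCharacter h1P))))
      (isGeneralizedCharacter_intCast_smul εz (isGeneralizedCharacter_of_isIrrCharacter (hμirr i₀)))
  have hΔ : ∀ i, indFun P (ν i) - indFun P one = (εz : ℂ) • μ i + Γ := by
    intro i
    have h := hτ i
    rw [hΓdef]
    funext x
    have hx := congrFun h x
    simp only [Pi.sub_apply, Pi.smul_apply, Pi.add_apply, smul_eq_mul] at hx ⊢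
    linear_combination hx
  obtain ⟨c, hΓsum, hc, hnorm⟩ := exists_int_coeff hΓgen
  obtain ⟨M, hM⟩ : ∃ M : Fin n → IrrCharacter G, M = fun i => ⟨μ i, hμirr i⟩ := ⟨_, rfl⟩
  have hMval : ∀ i, (M i : G → ℂ) = μ i := fun i => by rw [hM]
  have hMinj : Function.Injective M := fun i j h => hμinj (by rw [← hMval i, ← hMval j, h])
  -- the norm of `Δ_i`
  have hΔnorm : ∀ i, classInner (indFun P (ν i) - indFun P one)
      (indFun P (ν i) - indFun P one) = (e : ℂ) + 1 := by
    intro i
    rw [classInner_indFun_sub_indFun_sub hp hP (hνirr i) h1P, hK1, hK10, hK01, hK11]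
    ring
  have hcμ : ∀ i, classInner (μ i) Γ = (c (M i) : ℂ) := by
    intro i
    rw [← classInner_conj_symm, ← hMval i, hc (M i)]
    simp
  have hb : ∀ i, (e : ℤ) = 2 * εz * c (M i) + ∑ ψ, c ψ ^ 2 := by
    intro i
    have h := hΔnorm i
    rw [hΔ i, classInner_add_left, classInner_add_right, classInner_add_right,
      classInner_smul_left, classInner_smul_left, classInner_smul_right, classInner_smul_right,
      classInner_irr_self (hμirr i), hcμ i, ← hMval i, hc (M i), hnorm] at h
    have h' : ((εz * (εz * 1 + c (M i)) + (εz * c (M i) + ∑ ψ, c ψ ^ 2) : ℤ) : ℂ) =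
        ((e + 1 : ℤ) : ℂ) := by
      simp only [map_intCast] at h
      push_cast at h ⊢
      linear_combination h
    have h'' := Int.cast_injective h'
    linear_combination (-1 : ℤ) * h'' + hεsq
  -- the trivial character
  obtain ⟨oneG, honeG⟩ : ∃ oneG : IrrCharacter G, oneG = ⟨fun _ => 1, isIrrCharacter_one⟩ :=
    ⟨_, rfl⟩
  have honeGval : (oneG : G → ℂ) = fun _ => 1 := by rw [honeG]
  have hD : ∀ i, classInner (indFun P (ν i) - indFun P one) (oneG : G → ℂ) = -1 := by
    intro i
    have hcl : IsClassFunction G (oneG : G → ℂ) := isClassFunction_of_isIrrCharacter oneG.2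
    rw [classInner_sub_left, frobenius_reciprocity P _ hcl, frobenius_reciprocity P _ hcl]
    have hres : (fun h : P => (oneG : G → ℂ) h) = one := by rw [honeGval, hone]
    rw [hres, classInner_irr_ne (hνirr i) h1P (hν1 i), classInner_irr_self h1P]
    norm_num
  have hc1 : ∀ i, (-1 : ℤ) = εz * (if M i = oneG then 1 else 0) + c oneG := by
    intro i
    have h := hD i
    rw [hΔ i, classInner_add_left, classInner_smul_left, hc oneG, ← hMval i,
      classInner_irr (M i).2 oneG.2] at h
    have hiff : ((M i : G → ℂ) = (oneG : G → ℂ)) ↔ M i = oneG := Subtype.ext_iff.symm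
    by_cases hMi : M i = oneG
    · rw [if_pos hMi]
      rw [if_pos (hiff.mpr hMi)] at h
      exact_mod_cast h.symm
    · rw [if_neg hMi]
      rw [if_neg (fun hh => hMi (hiff.mp hh))] at h
      exact_mod_cast h.symm
  have hex : ∃ i, M i ≠ oneG := by
    by_contra hcon
    push Not at hcon
    have h01 : (⟨0, by omega⟩ : Fin n) = ⟨1, by omega⟩ :=
      hMinj ((hcon _).trans (hcon _).symm)
    simp [Fin.ext_iff] at h01
  have hcone : c oneG = -1 := by
    obtain ⟨i, hi⟩ := hex
    have h := hc1 i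
    rw [if_neg hi] at h
    omega
  have hMne : ∀ i, M i ≠ oneG := by
    intro i hi
    have h := hc1 i
    rw [if_pos hi, hcone] at h
    rcases hεz with h' | h' <;> rw [h'] at h <;> omega
  -- the exceptional characters do not occur in `Γ`
  have hconst : ∀ i, c (M i) = c (M i₀) := by
    intro i
    have h1 := hb i
    have h2 := hb i₀
    rcases hεz with h' | h' <;> rw [h'] at h1 h2 <;> omega
  have hlower : 1 + (n : ℤ) * c (M i₀) ^ 2 ≤ ∑ ψ, c ψ ^ 2 := by
    have hnotin : oneG ∉ Finset.univ.image M := by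
      intro h
      obtain ⟨i, -, hi⟩ := Finset.mem_image.mp h
      exact hMne i hi
    have h1 : ∑ ψ ∈ insert oneG (Finset.univ.image M), c ψ ^ 2 ≤ ∑ ψ, c ψ ^ 2 :=
      Finset.sum_le_sum_of_subset_of_nonneg (Finset.subset_univ _) (fun _ _ _ => sq_nonneg _)
    rw [Finset.sum_insert hnotin, Finset.sum_image (fun i _ j _ h => hMinj h), hcone,
      Finset.sum_congr rfl (fun i _ => by rw [hconst i]), Finset.sum_const, Finset.card_univ,
      Fintype.card_fin] at h1
    simpa using h1
  have hγ : c (M i₀) = 0 := by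
    by_contra hne
    have hg2 : 1 ≤ c (M i₀) ^ 2 := by
      have : 0 < c (M i₀) ^ 2 := by positivity
      omega
    have h3 : ((e : ℤ) + 2) * c (M i₀) ^ 2 ≤ (n : ℤ) * c (M i₀) ^ 2 :=
      mul_le_mul_of_nonneg_right (by exact_mod_cast hn) (sq_nonneg _)
    have h5 : (e : ℤ) * 1 ≤ (e : ℤ) * c (M i₀) ^ 2 :=
      mul_le_mul_of_nonneg_left hg2 (Int.natCast_nonneg e)
    have h2 := hb i₀
    rcases hεz with h' | h' <;> rw [h'] at h2
    · nlinarith [sq_nonneg (c (M i₀) + 1)]
    · nlinarith [sq_nonneg (c (M i₀) - 1)]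
  have hcM : ∀ i, c (M i) = 0 := fun i => (hconst i).trans hγ
  have hsumsq : ∑ ψ, c ψ ^ 2 = (e : ℤ) := by
    have h2 := hb i₀
    rw [hγ] at h2
    omega
  -- the value of `Γ` at the identity
  have hΓ1 : Γ 1 = ∑ ψ : IrrCharacter G, (c ψ : ℂ) * (ψ : G → ℂ) 1 := by
    have h := congrFun hΓsum 1
    rw [Finset.sum_apply] at h
    exact h
  have hdegeq : ∀ i, ∑ ψ : IrrCharacter G, ((-c ψ : ℤ) : ℂ) * (ψ : G → ℂ) 1 =
      (εz : ℂ) * (M i : G → ℂ) 1 := by
    intro i
    have h := congrFun (hΔ i) 1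
    rw [Pi.sub_apply, indFun_one, indFun_one, hdeg1, hone, sub_self, Pi.add_apply, Pi.smul_apply,
      smul_eq_mul, hΓ1, ← hMval i] at h
    have h2 : ∑ ψ : IrrCharacter G, ((-c ψ : ℤ) : ℂ) * (ψ : G → ℂ) 1 =
        -∑ ψ : IrrCharacter G, (c ψ : ℂ) * (ψ : G → ℂ) 1 := by
      rw [← Finset.sum_neg_distrib]
      apply Finset.sum_congr rfl
      intro ψ _
      push_cast
      ring
    rw [h2]
    linear_combination h
  -- congruences for the non-exceptional characters
  have hcong : ∀ ψ : IrrCharacter G, c ψ ≠ 0 →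
      ∃ k : ℤ, (ψ : G → ℂ) 1 = ((-c ψ + p * k : ℤ) : ℂ) := by
    intro ψ hψ
    have hψM : ∀ i, μ i ≠ (ψ : G → ℂ) := by
      intro i h
      apply hψ
      have : M i = ψ := Subtype.ext (by rw [hMval i, h])
      rw [← this]
      exact hcM i
    have hψcl : IsClassFunction G (ψ : G → ℂ) := isClassFunction_of_isIrrCharacter ψ.2
    obtain ⟨m1, hm1⟩ := exists_int_classInner
      (isGeneralizedCharacter_of_isCharacter
        (isCharacter_indFun P (isCharacter_of_isIrrCharacter h1P)))
      (isGeneralizedCharacter_of_isIrrCharacter ψ.2)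
    have hval : ∀ b : IrrCharacter P, b ∈ s →
        classInner (indFun P (b : P → ℂ)) (ψ : G → ℂ) = ((c ψ + m1 : ℤ) : ℂ) := by
      intro b hb
      obtain ⟨i, hi⟩ := hνsurj b b.2 ((hsmem b).mp hb)
      have h1 : indFun P (ν i) = (εz : ℂ) • μ i + Γ + indFun P one := by
        rw [← hΔ i]; ring
      rw [hi, h1, classInner_add_left, classInner_add_left, classInner_smul_left,
        classInner_irr_ne (hμirr i) ψ.2 (hψM i), hc ψ, hm1]
      push_cast
      ring
    have hres := classFunction_eq_sum_irr (isClassFunction_restrict P hψcl)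
    have hres1 := congrFun hres 1
    rw [Finset.sum_apply] at hres1
    have hterm : ∀ b : IrrCharacter P,
        (classInner (fun h : P => (ψ : G → ℂ) h) (b : P → ℂ) • (b : P → ℂ)) 1 =
          conj (classInner (indFun P (b : P → ℂ)) (ψ : G → ℂ)) := by
      intro b
      rw [Pi.smul_apply, irr_apply_one_of_prime_card hp hP b.2, smul_eq_mul, mul_one,
        frobenius_reciprocity P _ hψcl, classInner_conj_symm]
    rw [Finset.sum_congr rfl (fun b _ => hterm b),
      ← Finset.add_sum_erase Finset.univ _ (Finset.mem_univ triv), ← hs,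
      Finset.sum_congr rfl (fun b hb => by rw [hval b hb]), Finset.sum_const, hscard, htriv] at hres1
    simp only [] at hres1
    rw [hm1] at hres1
    refine ⟨c ψ + m1, ?_⟩
    have hp1 : ((p - 1 : ℕ) : ℂ) = (p : ℂ) - 1 := by
      rw [Nat.cast_sub hp.one_le]; simp
    have hres2 : (ψ : G → ℂ) 1 = (m1 : ℂ) + ((p : ℂ) - 1) * ((c ψ : ℂ) + (m1 : ℂ)) := by
      have : (ψ : G → ℂ) 1 = (ψ : G → ℂ) ((1 : P) : G) := by simp
      rw [this, hres1, nsmul_eq_mul, hp1]
      simp
    rw [hres2]
    push_cast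
    ring
  refine ⟨εz, fun ψ => -c ψ, Finset.univ.image M, hεz, ?_, ?_, ?_, ?_, ?_, ?_⟩
  · show -c ⟨fun _ => 1, isIrrCharacter_one⟩ = 1
    rw [← honeG, hcone]; norm_num
  · rw [← hsumsq]
    exact Finset.sum_congr rfl (fun ψ _ => by ring)
  · intro ψ hψ
    exact hcong ψ (fun h => hψ (by simp [h]))
  · rw [Finset.card_image_of_injective _ hMinj, Finset.card_univ, Fintype.card_fin]
    exact hn
  · rw [Finset.card_image_of_injective _ hMinj, Finset.card_univ, Fintype.card_fin]
    exact hcard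
  · intro χ hχ
    obtain ⟨i, -, rfl⟩ := Finset.mem_image.mp hχ
    exact ⟨by simp [hcM i], hdegeq i⟩

end Main

end Cfsg.Agent.Lib.helper21
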