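import Mathlib
import Cfsg.Agent.Lib.helper21.NC
import Cfsg.Agent.Lib.helper21.SylowCosets

set_option autoImplicit false

namespace Cfsg.Agent.Lib.helper21

open Subgroup MulAction

section

variable {G : Type*} [Group G] [Finite G] {p : ℕ} [hp : Fact p.Prime]

/-- In a finite simple group, a Sylow `p`-subgroup `P` of order `p` with `|N(P) : P|` prime is
self-centralizing. -/
theorem centralizer_sylow_le_of_prime_relIndex [IsSimpleGroup G] (P : Sylow p G)
    (hP : Nat.card (P : Subgroup G) = p) (hbot : (P : Subgroup G) ≠ ⊥)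
    (htop : (P : Subgroup G) ≠ ⊤)
    (hprime : ((P : Subgroup G).relIndex (normalizer ((P : Subgroup G) : Set G))).Prime) :
    centralizer ((P : Subgroup G) : Set G) ≤ (P : Subgroup G) := by
  have hPcyc : IsCyclic (P : Subgroup G) := isCyclic_of_prime_card hP
  have hPC : (P : Subgroup G) ≤ centralizer ((P : Subgroup G) : Set G) := by
    intro a ha
    rw [mem_centralizer_iff]
    intro b hb
    have := (IsCyclic.isMulCommutative (α := (P : Subgroup G))).is_comm.comm ⟨b, hb⟩ ⟨a, ha⟩
    exact congrArg Subtype.val this
  have hCN : centralizer ((P : Subgroup G) : Set G) ≤ normalizer ((P : Subgroup G) : Set G) :=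
    centralizer_le_normalizer _
  have hmul := relIndex_mul_relIndex _ _ _ hPC hCN
  rw [← hmul] at hprime
  rcases Nat.prime_mul_iff.mp hprime with ⟨_, h1⟩ | ⟨_, h1⟩
  · rw [relIndex_eq_one] at h1
    rcases sylow_eq_bot_or_eq_top_of_normalizer_le_centralizer P h1 with h | h
    · exact absurd h hbot
    · exact absurd h htop
  · exact relIndex_eq_one.mp h1

/-- In a finite simple group, if a Sylow `p`-subgroup `P` has order `p` and `|N(P) : P|` is
prime, then anything commuting with a nontrivial element of `P` lies in `P`. -/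
theorem mem_sylow_of_commute_of_prime_relIndex [IsSimpleGroup G] (P : Sylow p G)
    (hP : Nat.card (P : Subgroup G) = p) (hbot : (P : Subgroup G) ≠ ⊥)
    (htop : (P : Subgroup G) ≠ ⊤)
    (hprime : ((P : Subgroup G).relIndex (normalizer ((P : Subgroup G) : Set G))).Prime)
    {x y : G} (hy : y ∈ (P : Subgroup G)) (hy1 : y ≠ 1) (hxy : x * y = y * x) :
    x ∈ (P : Subgroup G) := by
  apply centralizer_sylow_le_of_prime_relIndex P hP hbot htop hprime
  rw [mem_centralizer_iff]
  intro h hh
  rw [SetLike.mem_coe, sylow_eq_zpowers_of_card P hP hy hy1] at hh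
  obtain ⟨k, rfl⟩ := mem_zpowers_iff.mp hh
  exact ((Commute.zpow_right (show Commute x y from hxy) k).eq).symm

end

/-- If an element `y` of prime order `s` normalizes a finite subgroup `H` and no nontrivial
element of `H` commutes with `y`, then `|H| ≡ 1` modulo `s`. -/
theorem card_modEq_one_of_fixedPointFree {G : Type*} [Group G] (H : Subgroup G) [Finite H]
    (y : normalizer (H : Set G)) (s : ℕ) [Fact s.Prime] (hys : orderOf y = s)
    (hC : ∀ t ∈ H, (y : G) * t = t * (y : G) → t = 1) : Nat.card H ≡ 1 [MOD s] := by
  have hpg : IsPGroup s (zpowers y) :=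
    IsPGroup.of_card (n := 1) (by rw [Nat.card_zpowers, hys, pow_one])
  have h1 := hpg.card_modEq_card_fixedPoints H
  have h2 : MulAction.fixedPoints (zpowers y) H = {1} := by
    ext t
    simp only [MulAction.mem_fixedPoints, Set.mem_singleton_iff]
    constructor
    · intro h
      have h3 : y • t = t := h ⟨y, mem_zpowers y⟩
      have h4 : (y : G) * (t : G) * (y : G)⁻¹ = (t : G) := congrArg Subtype.val h3
      apply Subtype.ext
      apply hC _ t.2
      calc (y : G) * (t : G) = (y : G) * (t : G) * (y : G)⁻¹ * (y : G) := by group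
        _ = (t : G) * (y : G) := by rw [h4]
    · rintro rfl ⟨z, hz⟩
      exact smul_one _
  rw [h2] at h1
  simpa using h1

end Cfsg.Agent.Lib.helper21
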