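import Mathlib

set_option autoImplicit false

namespace Cfsg.Agent.Lib.helper21

open Subgroup

variable {G : Type*} [Group G] [Finite G]

/-- A finite simple group with a proper subgroup `H` embeds in the symmetric group on the cosets
of `H`, so its order divides the factorial of the index of `H`. -/
theorem card_dvd_factorial_index_of_simple [IsSimpleGroup G] (H : Subgroup G) (hH : H ≠ ⊤) :
    Nat.card G ∣ (H.index).factorial := by
  classical
  let φ : G →* Equiv.Perm (G ⧸ H) := MulAction.toPermHom G (G ⧸ H)
  have hφ : Function.Injective φ := by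
    rw [← MonoidHom.ker_eq_bot_iff]
    rcases (MonoidHom.normal_ker φ).eq_bot_or_eq_top with h | h
    · exact h
    · exfalso
      apply hH
      have h1 : H.normalCore = ⊤ := by rw [Subgroup.normalCore_eq_ker]; exact h
      exact top_le_iff.mp (h1 ▸ Subgroup.normalCore_le H)
  have h1 := Subgroup.card_dvd_of_injective φ hφ
  have h2 : Nat.card (Equiv.Perm (G ⧸ H)) = (H.index).factorial := by
    rw [Nat.card_perm]
    rfl
  rwa [h2] at h1

/-- A finite non-abelian simple group with a proper subgroup `H` embeds in the alternating group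
on the cosets of `H`. -/
theorem exists_injective_alternatingGroup_of_simple [IsSimpleGroup G]
    (hG : ¬ ∀ a b : G, a * b = b * a) (H : Subgroup G) (hH : H ≠ ⊤) :
    ∃ f : G →* ↥(alternatingGroup (Fin H.index)), Function.Injective f := by
  classical
  have e : (G ⧸ H) ≃ Fin H.index := Finite.equivFinOfCardEq rfl
  let φ : G →* Equiv.Perm (G ⧸ H) := MulAction.toPermHom G (G ⧸ H)
  let ψ : G →* Equiv.Perm (Fin H.index) := (e.permCongrHom).toMonoidHom.comp φ
  have hφ : Function.Injective φ := by
    rw [← MonoidHom.ker_eq_bot_iff]
    rcases (MonoidHom.normal_ker φ).eq_bot_or_eq_top with h | h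
    · exact h
    · exfalso
      apply hH
      have h1 : H.normalCore = ⊤ := by rw [Subgroup.normalCore_eq_ker]; exact h
      exact top_le_iff.mp (h1 ▸ Subgroup.normalCore_le H)
  have hψ : Function.Injective ψ := by
    intro a b hab
    apply hφ
    exact e.permCongrHom.injective hab
  have hsign : ∀ g : G, Equiv.Perm.sign (ψ g) = 1 := by
    intro g
    let σ : G →* ℤˣ := Equiv.Perm.sign.comp ψ
    rcases (MonoidHom.normal_ker σ).eq_bot_or_eq_top with h | h
    · exfalso
      apply hG
      have hσ : Function.Injective σ := (MonoidHom.ker_eq_bot_iff σ).mp h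
      exact fun a b => hσ (by rw [map_mul, map_mul, mul_comm])
    · have : g ∈ MonoidHom.ker σ := by rw [h]; trivial
      exact this
  refine ⟨ψ.codRestrict (alternatingGroup (Fin H.index))
    (fun g => Equiv.Perm.mem_alternatingGroup.mpr (hsign g)), ?_⟩
  intro a b hab
  apply hψ
  have := congrArg Subtype.val hab
  simpa using this

/-- For a finite non-abelian simple group with a proper subgroup `H`, twice the group order
divides the factorial of the index of `H`. -/
theorem two_mul_card_dvd_factorial_index_of_simple [IsSimpleGroup G]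
    (hG : ¬ ∀ a b : G, a * b = b * a) (H : Subgroup G) (hH : H ≠ ⊤) :
    2 * Nat.card G ∣ (H.index).factorial := by
  classical
  obtain ⟨f, hf⟩ := exists_injective_alternatingGroup_of_simple hG H hH
  have h1 := Subgroup.card_dvd_of_injective f hf
  have hidx1 : H.index ≠ 1 := fun h => hH (index_eq_one.mp h)
  have hidx0 : H.index ≠ 0 := index_ne_zero_of_finite
  have : Nontrivial (Fin H.index) := Fin.nontrivial_iff_two_le.mpr (by omega)
  have h2 : 2 * Nat.card (alternatingGroup (Fin H.index)) = (H.index).factorial := by
    rw [two_mul_nat_card_alternatingGroup, Nat.card_perm, Nat.card_fin]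
  rw [← h2]
  exact Nat.mul_dvd_mul_left 2 h1

variable {p : ℕ} [Fact p.Prime]

/-- In a finite simple group, a nontrivial proper Sylow subgroup is not normal, so its normalizer
is a proper subgroup. -/
theorem normalizer_sylow_ne_top_of_simple [IsSimpleGroup G] (P : Sylow p G)
    (h1 : (P : Subgroup G) ≠ ⊥) (h2 : (P : Subgroup G) ≠ ⊤) :
    normalizer ((P : Subgroup G) : Set G) ≠ ⊤ := by
  intro h
  have : (P : Subgroup G).Normal := normalizer_eq_top_iff.mp h
  rcases this.eq_bot_or_eq_top with h3 | h3
  · exact h1 h3
  · exact h2 h3

/-- In a finite simple group, a nontrivial proper Sylow subgroup is not the only Sylow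
subgroup. -/
theorem card_sylow_ne_one_of_simple [IsSimpleGroup G] (P : Sylow p G)
    (h1 : (P : Subgroup G) ≠ ⊥) (h2 : (P : Subgroup G) ≠ ⊤) : Nat.card (Sylow p G) ≠ 1 := by
  rw [Sylow.card_eq_index_normalizer P]
  intro h
  exact normalizer_sylow_ne_top_of_simple P h1 h2 (index_eq_one.mp h)

/-- In a finite simple group, the group order divides the factorial of the number of Sylow
`p`-subgroups, for a nontrivial proper Sylow subgroup. -/
theorem card_dvd_factorial_card_sylow_of_simple [IsSimpleGroup G] (P : Sylow p G)
    (h1 : (P : Subgroup G) ≠ ⊥) (h2 : (P : Subgroup G) ≠ ⊤) :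
    Nat.card G ∣ (Nat.card (Sylow p G)).factorial := by
  rw [Sylow.card_eq_index_normalizer P]
  exact card_dvd_factorial_index_of_simple _ (normalizer_sylow_ne_top_of_simple P h1 h2)

/-- In a finite non-abelian simple group, twice the group order divides the factorial of the
number of Sylow `p`-subgroups, for a nontrivial proper Sylow subgroup. -/
theorem two_mul_card_dvd_factorial_card_sylow_of_simple [IsSimpleGroup G]
    (hG : ¬ ∀ a b : G, a * b = b * a) (P : Sylow p G)
    (h1 : (P : Subgroup G) ≠ ⊥) (h2 : (P : Subgroup G) ≠ ⊤) :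
    2 * Nat.card G ∣ (Nat.card (Sylow p G)).factorial := by
  rw [Sylow.card_eq_index_normalizer P]
  exact two_mul_card_dvd_factorial_index_of_simple hG _
    (normalizer_sylow_ne_top_of_simple P h1 h2)

end Cfsg.Agent.Lib.helper21
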