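import Cfsg.Agent.Lib.helper21.NC
import Cfsg.Agent.Lib.helper21.SimpleIndex
import Cfsg.Agent.Lib.helper21.SylowCard
import Mathlib

set_option autoImplicit false

namespace Cfsg.Agent.Lib.helper21

open Subgroup

variable {G : Type*} [Group G] [Finite G]

/-- Basic facts about a Sylow `p`-subgroup of a finite simple group of order `p ^ k * m`, with
`p ∤ m`, `1 ≤ k` and `m ≠ 1`: it has order `p ^ k`, index `m`, it is nontrivial and proper, and
the group is not commutative. -/
theorem simple_sylow_basic [IsSimpleGroup G] {p : ℕ} [Fact p.Prime] (k m : ℕ) (hk : 1 ≤ k)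
    (hcard : Nat.card G = p ^ k * m) (hpm : ¬ p ∣ m) (hm : m ≠ 1) (P : Sylow p G) :
    Nat.card (P : Subgroup G) = p ^ k ∧ (P : Subgroup G).index = m ∧ (P : Subgroup G) ≠ ⊥ ∧
      (P : Subgroup G) ≠ ⊤ ∧ ¬ ∀ a b : G, a * b = b * a := by
  have hp : p.Prime := Fact.out
  have hPcard : Nat.card (P : Subgroup G) = p ^ k := by
    apply sylow_card_eq_pow P k
    · rw [hcard]; exact dvd_mul_right _ _
    · rw [hcard, pow_succ]
      intro h
      exact hpm ((Nat.mul_dvd_mul_iff_left (pow_pos hp.pos k)).mp h)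
  have hidx : (P : Subgroup G).index = m := by
    have h1 := (P : Subgroup G).card_mul_index
    rw [hPcard, hcard] at h1
    exact Nat.eq_of_mul_eq_mul_left (pow_pos hp.pos k) h1
  have hPbot : (P : Subgroup G) ≠ ⊥ := by
    intro h
    rw [h, Subgroup.card_bot] at hPcard
    have : 1 < p ^ k := Nat.one_lt_pow (by omega) hp.one_lt
    omega
  have hPtop : (P : Subgroup G) ≠ ⊤ := by
    intro h
    rw [h, index_top] at hidx
    exact hm hidx.symm
  refine ⟨hPcard, hidx, hPbot, hPtop, ?_⟩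
  intro hcomm
  have hN : (P : Subgroup G).Normal :=
    ⟨fun a ha g => by rw [hcomm g a, mul_inv_cancel_right]; exact ha⟩
  rcases hN.eq_bot_or_eq_top with h | h
  · exact hPbot h
  · exact hPtop h

/-- **Sylow test**, any exponent: in a finite simple group of order `p ^ k * m` with `p ∤ m`,
`1 ≤ k`, `m ≠ 1`, the number `n` of Sylow `p`-subgroups satisfies `n ∣ m`, `n ≡ 1 mod p`,
`n ≠ 1` and `2 * |G| ∣ n!`. -/
theorem simple_sylow_test' [IsSimpleGroup G] (p k m : ℕ) (hp : p.Prime) (hk : 1 ≤ k)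
    (hcard : Nat.card G = p ^ k * m) (hpm : ¬ p ∣ m) (hm : m ≠ 1) :
    ∃ n : ℕ, n ∣ m ∧ n % p = 1 ∧ n ≠ 1 ∧ 2 * (p ^ k * m) ∣ n.factorial := by
  have := Fact.mk hp
  obtain ⟨P⟩ : Nonempty (Sylow p G) := inferInstance
  obtain ⟨hPcard, hidx, hPbot, hPtop, hnc⟩ := simple_sylow_basic k m hk hcard hpm hm P
  refine ⟨Nat.card (Sylow p G), ?_, ?_, card_sylow_ne_one_of_simple P hPbot hPtop, ?_⟩
  · rw [← hidx]; exact Sylow.card_dvd_index P
  · have h1 : Nat.card (Sylow p G) ≡ 1 [MOD p] := card_sylow_modEq_one p G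
    unfold Nat.ModEq at h1
    rw [h1]
    exact Nat.mod_eq_of_lt hp.one_lt
  · rw [← hcard]
    exact two_mul_card_dvd_factorial_card_sylow_of_simple hnc P hPbot hPtop

/-- **Sylow test**, abelian Sylow subgroup of order `p` or `p ^ 2`: in a finite simple group of
order `p ^ k * m` with `p ∤ m`, `k = 1` or `k = 2`, `m ≠ 1`, there is a prime `t ∣ p ^ k - 1`
such that the number `n` of Sylow `p`-subgroups satisfies `t * n ∣ m`, `n ≡ 1 mod p`, `n ≠ 1` and
`2 * |G| ∣ n!`. -/
theorem simple_sylow_test [IsSimpleGroup G] (p k m : ℕ) (hp : p.Prime) (hk : k = 1 ∨ k = 2)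
    (hcard : Nat.card G = p ^ k * m) (hpm : ¬ p ∣ m) (hm : m ≠ 1) :
    ∃ t n : ℕ, t.Prime ∧ t ∣ p ^ k - 1 ∧ t * n ∣ m ∧ n % p = 1 ∧ n ≠ 1 ∧
      2 * (p ^ k * m) ∣ n.factorial := by
  have := Fact.mk hp
  obtain ⟨P⟩ : Nonempty (Sylow p G) := inferInstance
  have hk1 : 1 ≤ k := by omega
  obtain ⟨hPcard, hidx, hPbot, hPtop, hnc⟩ := simple_sylow_basic k m hk1 hcard hpm hm P
  have hab : ∀ a ∈ (P : Subgroup G), ∀ b ∈ (P : Subgroup G), a * b = b * a := by
    intro a ha b hb
    have hc : IsMulCommutative (P : Subgroup G) := by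
      rcases hk with rfl | rfl
      · have : IsCyclic (P : Subgroup G) := isCyclic_of_prime_card (p := p) (by simpa using hPcard)
        exact this.isMulCommutative
      · exact IsPGroup.isMulCommutative_of_card_eq_prime_sq hPcard
    exact congrArg Subtype.val (hc.is_comm.comm (⟨a, ha⟩ : (P : Subgroup G)) ⟨b, hb⟩)
  have hG : Nat.card G ≠ p ^ k := by
    rw [hcard]
    intro h
    apply hm
    have h2 : p ^ k * m = p ^ k * 1 := by rw [h, mul_one]
    exact Nat.eq_of_mul_eq_mul_left (pow_pos hp.pos k) h2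
  obtain ⟨s, hs, ⟨i, hi1, hi2, hsi⟩, hdvd⟩ := simple_abelian_sylow_nc P hab k hPcard hk1 hG
  refine ⟨s, Nat.card (Sylow p G), hs, ?_, ?_, ?_, card_sylow_ne_one_of_simple P hPbot hPtop, ?_⟩
  · rcases hk with rfl | rfl
    · have : i = 1 := by omega
      subst this; exact hsi
    · have hi : i = 1 ∨ i = 2 := by omega
      rcases hi with rfl | rfl
      · refine hsi.trans ?_
        have h1 : p ^ 2 - 1 = (p ^ 1 - 1) * (p + 1) := by
          have hp1 : 1 ≤ p := hp.pos
          obtain ⟨c, rfl⟩ : ∃ c, p = c + 1 := ⟨p - 1, by omega⟩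
          simp only [pow_one, Nat.add_sub_cancel]
          have : (c + 1) ^ 2 = c * (c + 1 + 1) + 1 := by ring
          rw [this, Nat.add_sub_cancel]
        rw [h1]; exact dvd_mul_right _ _
      · exact hsi
  · rw [← hidx]; exact hdvd
  · have h1 : Nat.card (Sylow p G) ≡ 1 [MOD p] := card_sylow_modEq_one p G
    unfold Nat.ModEq at h1
    rw [h1]
    exact Nat.mod_eq_of_lt hp.one_lt
  · rw [← hcard]
    exact two_mul_card_dvd_factorial_card_sylow_of_simple hnc P hPbot hPtop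

end Cfsg.Agent.Lib.helper21
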