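import Mathlib
import Cfsg.Prelude.Def_Characters
import Cfsg.Prelude.Def_Blocks
import Cfsg.Agent.Lib.helper21.PrimeTI
import Cfsg.Agent.Lib.helper21.SelfCentralizing
import Cfsg.Agent.Lib.helper21.SylowTest
import Cfsg.Agent.Lib.helper11.SmallSimple
import Cfsg.Agent.Lib.helper82.CharSums
import Cfsg.Agent.Lib.helper82.CharQuot

set_option autoImplicit false

/-!
# Degree consequences of the exceptional characters (helper21 library)

Number-theoretic corollaries of `exceptional_of_prime_self_centralizing` for finite simple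
groups with a Sylow `p`-subgroup of order `p` whose normalizer has order `p e`, `e` prime.
-/

namespace Cfsg.Agent.Lib.helper21

open Cfsg Cfsg.Agent.Lib.helper4

universe u

section SumSq

/-- A sum of integer squares equal to one has exactly one nonzero term, which is `±1`. -/
theorem exists_of_sum_sq_eq_one {ι : Type*} [DecidableEq ι] (s : Finset ι) (a : ι → ℤ)
    (h : ∑ x ∈ s, a x ^ 2 = 1) :
    ∃ x ∈ s, (a x = 1 ∨ a x = -1) ∧ ∀ y ∈ s, y ≠ x → a y = 0 := by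
  have hex : ∃ x ∈ s, a x ≠ 0 := by
    by_contra hcon
    push Not at hcon
    rw [Finset.sum_eq_zero (fun x hx => by rw [hcon x hx]; rfl)] at h
    omega
  obtain ⟨x, hx, hax⟩ := hex
  rw [← Finset.add_sum_erase s _ hx] at h
  have hnn : 0 ≤ ∑ y ∈ s.erase x, a y ^ 2 := Finset.sum_nonneg fun y _ => sq_nonneg _
  have hpos : 0 < a x ^ 2 := by positivity
  have hsq : a x ^ 2 = 1 := by omega
  have hrest : ∑ y ∈ s.erase x, a y ^ 2 = 0 := by omega
  refine ⟨x, hx, ?_, ?_⟩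
  · have : (a x - 1) * (a x + 1) = 0 := by ring_nf; omega
    rcases mul_eq_zero.mp this with h1 | h1
    · left; omega
    · right; omega
  · intro y hy hyx
    have := (Finset.sum_eq_zero_iff_of_nonneg (fun y _ => sq_nonneg (a y))).mp hrest y
      (Finset.mem_erase.mpr ⟨hyx, hy⟩)
    exact pow_eq_zero_iff (two_ne_zero) |>.mp this

/-- A sum of integer squares equal to two has exactly two nonzero terms, which are `±1`. -/
theorem exists_of_sum_sq_eq_two {ι : Type*} [DecidableEq ι] (s : Finset ι) (a : ι → ℤ)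
    (h : ∑ x ∈ s, a x ^ 2 = 2) :
    ∃ x ∈ s, ∃ y ∈ s, x ≠ y ∧ (a x = 1 ∨ a x = -1) ∧ (a y = 1 ∨ a y = -1) ∧
      ∀ z ∈ s, z ≠ x → z ≠ y → a z = 0 := by
  have hex : ∃ x ∈ s, a x ≠ 0 := by
    by_contra hcon
    push Not at hcon
    rw [Finset.sum_eq_zero (fun x hx => by rw [hcon x hx]; rfl)] at h
    omega
  obtain ⟨x, hx, hax⟩ := hex
  rw [← Finset.add_sum_erase s _ hx] at h
  have hnn : 0 ≤ ∑ y ∈ s.erase x, a y ^ 2 := Finset.sum_nonneg fun y _ => sq_nonneg _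
  have hpos : 0 < a x ^ 2 := by positivity
  have hle : a x ^ 2 ≤ 2 := by omega
  have hb : -1 ≤ a x ∧ a x ≤ 1 := by constructor <;> nlinarith
  have hx1 : a x = 1 ∨ a x = -1 := by omega
  have hsq : a x ^ 2 = 1 := by rcases hx1 with h1 | h1 <;> rw [h1] <;> norm_num
  have hrest : ∑ y ∈ s.erase x, a y ^ 2 = 1 := by omega
  obtain ⟨y, hy, hy1, hyz⟩ := exists_of_sum_sq_eq_one (s.erase x) a hrest
  refine ⟨x, hx, y, Finset.mem_of_mem_erase hy, (Finset.ne_of_mem_erase hy).symm, hx1, hy1, ?_⟩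
  intro z hz hzx hzy
  exact hyz z (Finset.mem_erase.mpr ⟨hzx, hz⟩) hzy

end SumSq

section Simple

variable {G : Type u} [Group G] [Finite G]

/-- A nontrivial irreducible character of a finite simple group of non-prime order has degree
greater than one. -/
theorem one_lt_charDegree_of_simple [IsSimpleGroup G] (hnp : ¬ (Nat.card G).Prime)
    (ψ : IrrCharacter G) (hψ : (ψ : G → ℂ) ≠ fun _ => 1) : 1 < charDegree (ψ : G → ℂ) := by
  by_contra hcon
  have hpos := Cfsg.Agent.Lib.helper82.irr_charDegree_pos ψ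
  have h1 : charDegree (ψ : G → ℂ) = 1 := by omega
  have h2 : (ψ : G → ℂ) 1 = 1 := by
    rw [Cfsg.Agent.Lib.helper82.irr_one_eq ψ, h1]; simp
  obtain ⟨f, hf⟩ := Cfsg.Agent.Lib.helper82.exists_hom_of_linear
    (isCharacter_of_isIrrCharacter ψ.2) h2
  rcases f.normal_ker.eq_bot_or_eq_top with h | h
  · have hinj : Function.Injective f := (MonoidHom.ker_eq_bot_iff f).mp h
    have hcomm : ∀ a b : G, a * b = b * a := fun a b => hinj (by
      rw [map_mul, map_mul, mul_comm])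
    exact hnp (Cfsg.Agent.Lib.helper11.prime_card_of_simple_of_isCyclic
      (Cfsg.Agent.Lib.helper11.isCyclic_of_simple_of_comm hcomm))
  · apply hψ
    funext g
    have : g ∈ f.ker := by rw [h]; trivial
    rw [hf g, MonoidHom.mem_ker.mp this]; rfl

end Simple

section Degrees

variable {G : Type u} [Group G] [Fintype G]

/-- `exceptional_of_prime_self_centralizing` in terms of the degrees `charDegree`. -/
theorem exceptional_degrees [Fintype (IrrCharacter G)] {p e : ℕ}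
    (hp : p.Prime) (P : Subgroup G) (hP : Nat.card P = p)
    (hC : Subgroup.centralizer (P : Set G) ≤ P)
    (hN : Nat.card (Subgroup.normalizer (P : Set G)) = p * e) (he : e * (e + 1) < p - 1) :
    ∃ (ε : ℤ) (a : IrrCharacter G → ℤ) (S : Finset (IrrCharacter G)) (f₀ : ℕ),
      (ε = 1 ∨ ε = -1) ∧ a ⟨fun _ => 1, isIrrCharacter_one⟩ = 1 ∧ ∑ ψ, a ψ ^ 2 = (e : ℤ) ∧
      (∀ ψ, a ψ ≠ 0 → (p : ℤ) ∣ (charDegree (ψ : G → ℂ) : ℤ) - a ψ) ∧
      e + 2 ≤ S.card ∧ p - 1 ≤ e * S.card ∧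
      (∀ χ ∈ S, a χ = 0 ∧ charDegree (χ : G → ℂ) = f₀) ∧
      ∑ ψ, a ψ * (charDegree (ψ : G → ℂ) : ℤ) = ε * f₀ := by
  obtain ⟨ε, a, S, hε, ha1, hasq, hcong, hS, hS', hSχ⟩ :=
    exceptional_of_prime_self_centralizing hp P hP hC hN he
  have hSne : S.Nonempty := Finset.card_pos.mp (by omega)
  obtain ⟨χ₀, hχ₀⟩ := hSne
  have hεne : (ε : ℂ) ≠ 0 := by
    rcases hε with h | h <;> rw [h] <;> norm_num
  have hdeg : ∀ ψ : IrrCharacter G, (ψ : G → ℂ) 1 = (charDegree (ψ : G → ℂ) : ℂ) :=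
    fun ψ => Cfsg.Agent.Lib.helper82.irr_one_eq ψ
  refine ⟨ε, a, S, charDegree (χ₀ : G → ℂ), hε, ha1, hasq, ?_, hS, hS', ?_, ?_⟩
  · intro ψ hψ
    obtain ⟨k, hk⟩ := hcong ψ hψ
    rw [hdeg ψ] at hk
    have hk' : (charDegree (ψ : G → ℂ) : ℤ) = a ψ + p * k := by exact_mod_cast hk
    exact ⟨k, by rw [hk']; ring⟩
  · intro χ hχ
    refine ⟨(hSχ χ hχ).1, ?_⟩
    have h1 := (hSχ χ hχ).2
    rw [(hSχ χ₀ hχ₀).2, hdeg, hdeg] at h1
    have h2 := mul_left_cancel₀ hεne h1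
    exact_mod_cast h2.symm
  · have h1 := (hSχ χ₀ hχ₀).2
    rw [hdeg] at h1
    have h2 : ((∑ ψ, a ψ * (charDegree (ψ : G → ℂ) : ℤ) : ℤ) : ℂ) =
        ((ε * (charDegree (χ₀ : G → ℂ) : ℤ) : ℤ) : ℂ) := by
      push_cast
      rw [← h1]
      exact Finset.sum_congr rfl (fun ψ _ => by rw [hdeg])
    exact Int.cast_injective h2

end Degrees

section SimpleExc

variable {G : Type u} [Group G] [Finite G]

/-- In a finite simple group of order `p m`, `p ∤ m`, in which the Sylow conditions force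
exactly `m / e` Sylow `p`-subgroups for a prime `e`, a Sylow `p`-subgroup is self-centralizing
with normalizer of order `p e`. -/
theorem exists_self_centralizing_of_simple [IsSimpleGroup G] (p m e : ℕ) (hp : p.Prime)
    (he : e.Prime) (hcard : Nat.card G = p * m) (hpm : ¬ p ∣ m) (hm : m ≠ 1)
    (hn : ∀ n : ℕ, n ∣ m → n % p = 1 → n ≠ 1 → n * e = m) :
    ∃ P : Subgroup G, Nat.card P = p ∧ Subgroup.centralizer (P : Set G) ≤ P ∧
      Nat.card (Subgroup.normalizer (P : Set G)) = p * e := by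
  have := Fact.mk hp
  obtain ⟨P⟩ : Nonempty (Sylow p G) := inferInstance
  obtain ⟨hPcard, hidx, hPbot, hPtop, hnc⟩ :=
    simple_sylow_basic 1 m le_rfl (by rw [hcard, pow_one]) hpm hm P
  rw [pow_one] at hPcard
  have h1 : Nat.card (Sylow p G) ∣ m := by rw [← hidx]; exact Sylow.card_dvd_index P
  have h2 : Nat.card (Sylow p G) % p = 1 := by
    have h := card_sylow_modEq_one p G
    unfold Nat.ModEq at h
    rw [h]
    exact Nat.mod_eq_of_lt hp.one_lt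
  have h3 := hn _ h1 h2 (card_sylow_ne_one_of_simple P hPbot hPtop)
  have hnpos : 0 < Nat.card (Sylow p G) := Nat.card_pos
  have hrel : (P : Subgroup G).relIndex (Subgroup.normalizer ((P : Subgroup G) : Set G)) = e := by
    have h4 := relIndex_normalizer_mul_card_sylow P
    rw [hidx, ← h3, mul_comm] at h4
    exact Nat.eq_of_mul_eq_mul_left hnpos h4
  refine ⟨P, hPcard, ?_, ?_⟩
  · exact centralizer_sylow_le_of_prime_relIndex P hPcard hPbot hPtop (by rw [hrel]; exact he)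
  · have h5 := Subgroup.card_mul_index (Subgroup.normalizer ((P : Subgroup G) : Set G))
    have h7 : Nat.card (Sylow p G) =
        (Subgroup.normalizer ((P : Subgroup G) : Set G)).index := Sylow.card_eq_index_normalizer P
    rw [← h7, hcard, ← h3] at h5
    have h6 : Nat.card (Subgroup.normalizer ((P : Subgroup G) : Set G)) * Nat.card (Sylow p G) =
        (p * e) * Nat.card (Sylow p G) := by rw [h5]; ring
    exact Nat.eq_of_mul_eq_mul_right hnpos h6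

/-- Exceptional characters in a finite simple group of order `p m` with a self-centralizing
Sylow `p`-subgroup of order `p` whose normalizer has order `p e`, `e` prime: a sign `ε`, the
common degree `f₀` of the exceptional characters, and the finite set `T` of nontrivial
non-exceptional characters `ψ` with nonzero coefficient `a ψ`. -/
theorem simple_exceptional_aux [IsSimpleGroup G] (p m e : ℕ) (hp : p.Prime)
    (he : e.Prime) (hcard : Nat.card G = p * m) (hpm : ¬ p ∣ m) (hm : m ≠ 1)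
    (hn : ∀ n : ℕ, n ∣ m → n % p = 1 → n ≠ 1 → n * e = m) (hlt : e * (e + 1) < p - 1) :
    ∃ (ε : ℤ) (f₀ : ℕ) (T : Finset (IrrCharacter G)) (a : IrrCharacter G → ℤ),
      (ε = 1 ∨ ε = -1) ∧ 1 < f₀ ∧ f₀ ∣ p * m ∧ ∑ ψ ∈ T, a ψ ^ 2 = (e : ℤ) - 1 ∧
      (∀ ψ ∈ T, a ψ ≠ 0 ∧ 1 < charDegree (ψ : G → ℂ) ∧ charDegree (ψ : G → ℂ) ∣ p * m ∧
        (p : ℤ) ∣ (charDegree (ψ : G → ℂ) : ℤ) - a ψ) ∧
      1 + ∑ ψ ∈ T, a ψ * (charDegree (ψ : G → ℂ) : ℤ) = ε * f₀ ∧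
      1 + ∑ ψ ∈ T, charDegree (ψ : G → ℂ) ^ 2 + (e + 2) * f₀ ^ 2 ≤ p * m := by
  classical
  have := Fintype.ofFinite G
  have := Fintype.ofFinite (IrrCharacter G)
  obtain ⟨P, hP, hC, hN⟩ := exists_self_centralizing_of_simple p m e hp he hcard hpm hm hn
  obtain ⟨ε, a, S, f₀, hε, ha1, hasq, hcong, hS, -, hSχ, hdegeq⟩ :=
    exceptional_degrees hp P hP hC hN hlt
  obtain ⟨oneG, honeG⟩ : ∃ oneG : IrrCharacter G, oneG = ⟨fun _ => 1, isIrrCharacter_one⟩ :=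
    ⟨_, rfl⟩
  rw [← honeG] at ha1
  have honeGval : (oneG : G → ℂ) = fun _ => 1 := by rw [honeG]
  have hnp : ¬ (Nat.card G).Prime := by
    rw [hcard]
    intro h
    rcases (Nat.dvd_prime h).mp (dvd_mul_right p m) with h1 | h1
    · exact hp.one_lt.ne' h1
    · have h2 : p * m = p * 1 := by rw [mul_one]; exact h1.symm
      exact hm (Nat.eq_of_mul_eq_mul_left hp.pos h2)
  have hdegone : charDegree (oneG : G → ℂ) = 1 := by
    have h := Cfsg.Agent.Lib.helper82.irr_one_eq oneG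
    rw [honeGval] at h
    have h' : ((1 : ℕ) : ℂ) = (charDegree (fun _ : G => (1 : ℂ)) : ℂ) := by simpa using h
    rw [honeGval]
    exact (Nat.cast_injective h').symm
  have hgt : ∀ ψ : IrrCharacter G, ψ ≠ oneG → 1 < charDegree (ψ : G → ℂ) := by
    intro ψ hψ
    apply one_lt_charDegree_of_simple hnp
    intro h
    exact hψ (Subtype.ext (by rw [h, honeGval]))
  have hdvd : ∀ ψ : IrrCharacter G, charDegree (ψ : G → ℂ) ∣ p * m := fun ψ => by
    rw [← hcard]; exact Cfsg.Agent.Lib.helper82.irr_degree_dvd_card ψ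
  obtain ⟨χ₀, hχ₀⟩ : S.Nonempty := Finset.card_pos.mp (by omega)
  have hSne : ∀ χ ∈ S, χ ≠ oneG := by
    intro χ hχ h
    have := (hSχ χ hχ).1
    rw [h, ha1] at this
    omega
  obtain ⟨T, hT⟩ : ∃ T : Finset (IrrCharacter G),
      T = (Finset.univ.erase oneG).filter (fun ψ => a ψ ≠ 0) := ⟨_, rfl⟩
  have hTmem : ∀ ψ, ψ ∈ T ↔ ψ ≠ oneG ∧ a ψ ≠ 0 := by
    intro ψ
    rw [hT, Finset.mem_filter, Finset.mem_erase]
    simp
  have hsqsum : ∑ ψ : IrrCharacter G, charDegree (ψ : G → ℂ) ^ 2 = p * m := by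
    have h := sum_irr_degree_sq (G := G)
    rw [hcard] at h
    have h' : ((∑ ψ : IrrCharacter G, charDegree (ψ : G → ℂ) ^ 2 : ℕ) : ℂ) = ((p * m : ℕ) : ℂ) := by
      rw [← h]
      push_cast
      exact Finset.sum_congr rfl (fun ψ _ => by rw [Cfsg.Agent.Lib.helper82.irr_one_eq ψ])
    exact Nat.cast_injective h'
  refine ⟨ε, f₀, T, a, hε, ?_, ?_, ?_, ?_, ?_, ?_⟩
  · rw [← (hSχ χ₀ hχ₀).2]; exact hgt χ₀ (hSne χ₀ hχ₀)
  · rw [← (hSχ χ₀ hχ₀).2]; exact hdvd χ₀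
  · rw [hT, Finset.sum_filter_of_ne (fun ψ _ h => by
      intro h0; apply h; rw [h0]; norm_num)]
    rw [← Finset.add_sum_erase Finset.univ _ (Finset.mem_univ oneG), ha1] at hasq
    linarith
  · intro ψ hψ
    obtain ⟨h1, h2⟩ := (hTmem ψ).mp hψ
    exact ⟨h2, hgt ψ h1, hdvd ψ, hcong ψ h2⟩
  · rw [hT, Finset.sum_filter_of_ne (fun ψ _ h => by
      intro h0; apply h; rw [h0]; norm_num)]
    rw [← Finset.add_sum_erase Finset.univ _ (Finset.mem_univ oneG), ha1, hdegone] at hdegeq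
    rw [← hdegeq]
    norm_num
  · have hdisj : Disjoint T S := by
      rw [Finset.disjoint_left]
      intro ψ hψT hψS
      exact ((hTmem ψ).mp hψT).2 (hSχ ψ hψS).1
    have hnotin : oneG ∉ T ∪ S := by
      intro h
      rcases Finset.mem_union.mp h with h | h
      · exact ((hTmem oneG).mp h).1 rfl
      · exact hSne oneG h rfl
    have h1 : ∑ ψ ∈ insert oneG (T ∪ S), charDegree (ψ : G → ℂ) ^ 2 ≤
        ∑ ψ : IrrCharacter G, charDegree (ψ : G → ℂ) ^ 2 :=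
      Finset.sum_le_sum_of_subset (Finset.subset_univ _)
    have hS2 : ∑ χ ∈ S, charDegree (χ : G → ℂ) ^ 2 = S.card * f₀ ^ 2 := by
      rw [Finset.sum_congr rfl (fun χ hχ => by rw [(hSχ χ hχ).2]), Finset.sum_const, smul_eq_mul]
    rw [Finset.sum_insert hnotin, Finset.sum_union hdisj, hdegone, hsqsum, hS2, one_pow] at h1
    have h2 : (e + 2) * f₀ ^ 2 ≤ S.card * f₀ ^ 2 := Nat.mul_le_mul_right _ hS
    linarith

/-- The case `e = 2`: one nontrivial non-exceptional character of degree `f₁ ≡ δ` modulo `p`,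
and `1 + δ f₁ = ε f₀`. -/
theorem simple_exceptional_two [IsSimpleGroup G] (p m : ℕ) (hp : p.Prime)
    (hcard : Nat.card G = p * m) (hpm : ¬ p ∣ m) (hm : m ≠ 1)
    (hn : ∀ n : ℕ, n ∣ m → n % p = 1 → n ≠ 1 → n * 2 = m) (h7 : 7 < p) :
    ∃ (δ ε : ℤ) (f₁ f₀ : ℕ), (δ = 1 ∨ δ = -1) ∧ (ε = 1 ∨ ε = -1) ∧ 1 < f₁ ∧ f₁ ∣ p * m ∧
      1 < f₀ ∧ f₀ ∣ p * m ∧ (p : ℤ) ∣ (f₁ : ℤ) - δ ∧ 1 + δ * f₁ = ε * f₀ ∧
      1 + f₁ ^ 2 + 4 * f₀ ^ 2 ≤ p * m := by
  classical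
  obtain ⟨ε, f₀, T, a, hε, hf₀, hf₀d, hsq, hT, hdeg, hsum⟩ :=
    simple_exceptional_aux p m 2 hp Nat.prime_two hcard hpm hm hn (by omega)
  have hsq' : ∑ ψ ∈ T, a ψ ^ 2 = 1 := by rw [hsq]; norm_num
  obtain ⟨ψ₁, hψ₁, ha₁, hrest⟩ := exists_of_sum_sq_eq_one T a hsq'
  have hTeq : T = {ψ₁} := by
    ext ψ
    rw [Finset.mem_singleton]
    constructor
    · intro hψ
      by_contra hne
      exact (hT ψ hψ).1 (hrest ψ hψ hne)
    · rintro rfl; exact hψ₁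
  rw [hTeq, Finset.sum_singleton] at hdeg hsum
  obtain ⟨-, hgt, hdvd, hcong⟩ := hT ψ₁ hψ₁
  exact ⟨a ψ₁, ε, charDegree (ψ₁ : G → ℂ), f₀, ha₁, hε, hgt, hdvd, hf₀, hf₀d, hcong, hdeg,
    by linarith⟩

/-- The case `e = 3`: two nontrivial non-exceptional characters of degrees `f₁ ≡ δ₁`,
`f₂ ≡ δ₂` modulo `p`, and `1 + δ₁ f₁ + δ₂ f₂ = ε f₀`. -/
theorem simple_exceptional_three [IsSimpleGroup G] (p m : ℕ) (hp : p.Prime)
    (hcard : Nat.card G = p * m) (hpm : ¬ p ∣ m) (hm : m ≠ 1)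
    (hn : ∀ n : ℕ, n ∣ m → n % p = 1 → n ≠ 1 → n * 3 = m) (h13 : 13 < p) :
    ∃ (δ₁ δ₂ ε : ℤ) (f₁ f₂ f₀ : ℕ), (δ₁ = 1 ∨ δ₁ = -1) ∧ (δ₂ = 1 ∨ δ₂ = -1) ∧
      (ε = 1 ∨ ε = -1) ∧ 1 < f₁ ∧ f₁ ∣ p * m ∧ 1 < f₂ ∧ f₂ ∣ p * m ∧ 1 < f₀ ∧ f₀ ∣ p * m ∧
      (p : ℤ) ∣ (f₁ : ℤ) - δ₁ ∧ (p : ℤ) ∣ (f₂ : ℤ) - δ₂ ∧ 1 + δ₁ * f₁ + δ₂ * f₂ = ε * f₀ ∧
      1 + f₁ ^ 2 + f₂ ^ 2 + 5 * f₀ ^ 2 ≤ p * m := by
  classical
  obtain ⟨ε, f₀, T, a, hε, hf₀, hf₀d, hsq, hT, hdeg, hsum⟩ :=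
    simple_exceptional_aux p m 3 hp Nat.prime_three hcard hpm hm hn (by omega)
  have hsq' : ∑ ψ ∈ T, a ψ ^ 2 = 2 := by rw [hsq]; norm_num
  obtain ⟨ψ₁, hψ₁, ψ₂, hψ₂, hne, ha₁, ha₂, hrest⟩ := exists_of_sum_sq_eq_two T a hsq'
  have hTeq : T = {ψ₁, ψ₂} := by
    ext ψ
    rw [Finset.mem_insert, Finset.mem_singleton]
    constructor
    · intro hψ
      by_contra hcon
      push Not at hcon
      exact (hT ψ hψ).1 (hrest ψ hψ hcon.1 hcon.2)
    · rintro (rfl | rfl)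
      · exact hψ₁
      · exact hψ₂
  rw [hTeq, Finset.sum_pair hne] at hdeg hsum
  obtain ⟨-, hgt₁, hdvd₁, hcong₁⟩ := hT ψ₁ hψ₁
  obtain ⟨-, hgt₂, hdvd₂, hcong₂⟩ := hT ψ₂ hψ₂
  exact ⟨a ψ₁, a ψ₂, ε, charDegree (ψ₁ : G → ℂ), charDegree (ψ₂ : G → ℂ), f₀, ha₁, ha₂, hε,
    hgt₁, hdvd₁, hgt₂, hdvd₂, hf₀, hf₀d, hcong₁, hcong₂, by linarith, by linarith⟩

end SimpleExc

end Cfsg.Agent.Lib.helper21
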