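import Mathlib
import Cfsg.Agent.Lib.helper32.Dih2
import Cfsg.Agent.Lib.helper81.Kernel
import Cfsg.Agent.Lib.helper82.CharSums
import Cfsg.Agent.Lib.helper75.SimpleOrd

set_option autoImplicit false

/-!
# Self-centralizing subgroups of odd prime order with dihedral normalizer: involutions (helper21)

`P ≤ G` of odd prime order `p`, `C_G(P) ≤ P`, `|N_G(P)| = 2p`, `G` simple.  With
`(1_P - λ)^G = 1 + a - b` (helper32) and the class algebra constants of the class of an
involution `z` we get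

* `dihinv_pair_eq`: if every nonidentity `y ∈ P` is a product of two conjugates of `z` in
  exactly `κ` ways then `κ |C(z)|² f (f + 1) = |G| (f - a(z))²`, `f = a(1)`;
* `dihinv_two_part`: in a simple group all involutions are conjugate to the involutions of
  `N_G(P)`, hence `p (2^k)² < 4 |G|` whenever `2^k ∣ |G|`.
-/

namespace Cfsg.Agent.Lib.helper21

open Cfsg
open scoped ComplexConjugate

universe u

section DihInvA

variable {G : Type u} [Group G] [Fintype G]

open Cfsg.Agent.Lib.helper4 Cfsg.Agent.Lib.helper32 in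
/-- **The class equation for a dihedral normalizer, for an arbitrary involution.** -/
theorem dihinv_pair_eq {p : ℕ} (hp : p.Prime) (P : Subgroup G) (hP : Nat.card P = p)
    (hC : Subgroup.centralizer (P : Set G) ≤ P)
    (hN : Nat.card (Subgroup.normalizer (P : Set G)) = p * 2) :
    ∃ (a : IrrCharacter G) (f : ℕ), 0 < f ∧ (a : G → ℂ) 1 = f ∧
      ∀ (z : G) (κ : ℕ), z * z = 1 → (∀ x : G, x⁻¹ * z * x ∉ P) →
        (∀ y ∈ P, y ≠ 1 → classProd z y = κ) →
        ∃ s : ℤ, (a : G → ℂ) z = s ∧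
          (κ : ℤ) * (Nat.card (Subgroup.centralizer ({z} : Set G)) : ℤ) ^ 2 * (f * (f + 1)) =
            (Nat.card G : ℤ) * (f - s) ^ 2 := by
  classical
  have : Fintype P := Fintype.ofFinite P
  have hpC : (p : ℂ) ≠ 0 := by exact_mod_cast hp.ne_zero
  obtain ⟨lam, a, b, hlm, hlm1, hval⟩ := dih_prime_beta hp P hP hC hN
  obtain ⟨β, hβ⟩ : ∃ β : G → ℂ, β = indFun P ((fun _ => (1 : ℂ)) - lam) := ⟨_, rfl⟩
  rw [← hβ] at hval
  have hlmone : lam 1 = 1 := irr_apply_one_of_prime_card hp hP hlm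
  have hβ1 : β 1 = 0 := by
    rw [hβ, indFun_one, Pi.sub_apply, hlmone, sub_self, mul_zero]
  obtain ⟨f, hfpos, hf⟩ := exists_pos_nat_degree a.2
  have hb1 : (b : G → ℂ) 1 = f + 1 := by
    have h := hval 1
    rw [hβ1, hf] at h
    linear_combination h
  have hsum : ∑ y : P, lam y = 0 := by
    have h := classInner_irr hlm (isIrrCharacter_one (G := P))
    rw [if_neg hlm1] at h
    unfold classInner at h
    rcases mul_eq_zero.mp h with h | h
    · exact absurd (inv_eq_zero.mp h) (by rw [hP]; exact hpC)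
    · simpa using h
  have hG0 : (Nat.card G : ℂ) ≠ 0 := by
    have : 0 < Nat.card G := Nat.card_pos
    exact_mod_cast this.ne'
  have hf0 : (f : ℂ) ≠ 0 := by exact_mod_cast hfpos.ne'
  have hf1 : (f : ℂ) + 1 ≠ 0 := by exact_mod_cast (Nat.succ_ne_zero f)
  refine ⟨a, f, hfpos, hf, ?_⟩
  intro J κ hJ hJP hprod
  have hβJ : β J = 0 := by
    rw [hβ, indFun_apply, Finset.sum_eq_zero, mul_zero]
    intro x _
    exact extendByZero_apply_of_not_mem _ _ (hJP x)
  obtain ⟨s, hs⟩ := Cfsg.Agent.Lib.helper78.irr_involution_int a J hJ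
  have hbJ : (b : G → ℂ) J = s + 1 := by
    have h := hval J
    rw [hβJ, hs] at h
    linear_combination h
  have hF : IsClassFunction G (classProd J) := isClassFunction_classProd J
  have hconj : ∀ g, conj (classProd J g) = classProd J g := by
    intro g
    unfold classProd
    rw [map_sum]
    apply Finset.sum_congr rfl
    intro x _
    split_ifs <;> simp
  have hQ1 : classInner β (classProd J) = κ := by
    rw [hβ, frobenius_reciprocity P _ hF]
    unfold classInner
    rw [hP]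
    have hterm : ∀ y : P, ((fun _ : P => (1 : ℂ)) - lam) y * conj (classProd J (y : G)) =
        (1 - lam y) * κ := by
      intro y
      by_cases hy : y = 1
      · rw [hy, Pi.sub_apply, hlmone]; simp
      · rw [hconj, hprod y y.2 (fun h => hy (Subtype.ext h)), Pi.sub_apply]
    rw [Finset.sum_congr rfl (fun y _ => hterm y), ← Finset.sum_mul, Finset.sum_sub_distrib,
      hsum, Finset.sum_const, Finset.card_univ, ← Nat.card_eq_fintype_card, hP]
    simp
    field_simp
  have hQ2 : classInner β (classProd J) = (Nat.card G : ℂ)⁻¹ *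
      ((1 : ℂ) * (centralChar (fun _ : G => (1 : ℂ)) J) ^ 2 +
        (a : G → ℂ) 1 * (centralChar (a : G → ℂ) J) ^ 2 -
        (b : G → ℂ) 1 * (centralChar (b : G → ℂ) J) ^ 2) := by
    unfold classInner
    congr 1
    rw [← sum_classProd_mul_char J (isIrrCharacter_one (G := G)),
      ← sum_classProd_mul_char J a.2, ← sum_classProd_mul_char J b.2,
      ← Finset.sum_add_distrib, ← Finset.sum_sub_distrib]
    apply Finset.sum_congr rfl
    intro g _
    rw [hconj, hval g]
    ring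
  obtain ⟨I, hI⟩ : ∃ I : ℂ, I = ((Subgroup.centralizer ({J} : Set G)).index : ℂ) := ⟨_, rfl⟩
  obtain ⟨cJ, hcJ⟩ : ∃ cJ : ℂ, cJ = (Nat.card (Subgroup.centralizer ({J} : Set G)) : ℂ) :=
    ⟨_, rfl⟩
  have hcI : cJ * I = (Nat.card G : ℂ) := by
    rw [hcJ, hI]
    exact_mod_cast Subgroup.card_mul_index (Subgroup.centralizer ({J} : Set G))
  have hEq : (κ : ℂ) = (Nat.card G : ℂ)⁻¹ *
      ((1 : ℂ) * (I * 1 / 1) ^ 2 + (f : ℂ) * (I * s / f) ^ 2 -
        ((f : ℂ) + 1) * (I * ((s : ℂ) + 1) / ((f : ℂ) + 1)) ^ 2) := by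
    rw [← hQ1, hQ2]
    unfold centralChar
    rw [hf, hb1, hs, hbJ, ← hI]
  have h1 : (κ : ℂ) * (Nat.card G : ℂ) * (f * (f + 1)) = I ^ 2 * (f - s) ^ 2 := by
    rw [hEq]
    field_simp
    ring
  have h2 : (κ : ℂ) * cJ ^ 2 * (f * (f + 1)) = (Nat.card G : ℂ) * (f - s) ^ 2 := by
    apply mul_left_cancel₀ hG0
    linear_combination cJ ^ 2 * h1 + (f - s) ^ 2 * (cJ * I + (Nat.card G : ℂ)) * hcI
  refine ⟨s, hs, ?_⟩
  rw [hcJ] at h2
  exact_mod_cast h2

end DihInvA

section DihInvB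

variable {G : Type u} [Group G] [Finite G]

omit [Finite G] in
/-- If `z` is an involution and two conjugates of `z` multiply to a nonidentity element `y` of
the subgroup `P` of prime order, then the first factor normalizes `P` and lies outside `P`. -/
theorem dihinv_factor_mem {p : ℕ} (hp : p.Prime) (P : Subgroup G) (hP : Nat.card P = p)
    (hnot2 : ∀ t : G, t * t = 1 → t ∈ P → t = 1)
    (z : G) (hzz : z * z = 1) (hz1 : z ≠ 1) (y : G) (hy : y ∈ P) (hy1 : y ≠ 1) (a : G)
    (h1 : IsConj z a) (h2 : IsConj z (a⁻¹ * y)) :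
    a ∈ Subgroup.normalizer (P : Set G) ∧ a ∉ P := by
  obtain ⟨c, hc⟩ := isConj_iff.mp h1
  obtain ⟨d, hd⟩ := isConj_iff.mp h2
  have haa : a * a = 1 := by
    rw [← hc]
    calc c * z * c⁻¹ * (c * z * c⁻¹) = c * (z * z) * c⁻¹ := by group
      _ = 1 := by rw [hzz]; group
  have ha1 : a ≠ 1 := by
    intro h
    apply hz1
    have h' : z = c⁻¹ * (c * z * c⁻¹) * c := by group
    rw [h', hc, h]
    group
  have hbb : a⁻¹ * y * (a⁻¹ * y) = 1 := by
    rw [← hd]
    calc d * z * d⁻¹ * (d * z * d⁻¹) = d * (z * z) * d⁻¹ := by group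
      _ = 1 := by rw [hzz]; group
  have hay : a * y * a⁻¹ = y⁻¹ := by
    calc a * y * a⁻¹ = a * a * (a⁻¹ * y * (a⁻¹ * y)) * y⁻¹ := by group
      _ = y⁻¹ := by rw [hbb, haa]; group
  have haP : a ∉ P := fun h => ha1 (hnot2 a haa h)
  refine ⟨?_, haP⟩
  have hfwd : ∀ q ∈ P, a * q * a⁻¹ ∈ P := by
    intro q hq
    obtain ⟨k, rfl⟩ := Cfsg.Agent.Lib.helper32.exists_zpow_of_prime_card hp P hP hy hy1 hq
    rw [← conj_zpow, hay]
    exact zpow_mem (inv_mem hy) k
  rw [Subgroup.mem_normalizer_iff]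
  intro q
  constructor
  · exact hfwd q
  · intro h
    have h3 := hfwd _ h
    have h4 : a * (a * q * a⁻¹) * a⁻¹ = q := by
      calc a * (a * q * a⁻¹) * a⁻¹ = (a * a) * q * (a * a)⁻¹ := by group
        _ = q := by rw [haa]; group
    rwa [h4] at h3

open Cfsg.Agent.Lib.helper4 Cfsg.Agent.Lib.helper32 in
/-- **One class of involutions.**  Let `G` be a finite simple group with a subgroup `P` of odd
prime order `p` such that `C_G(P) ≤ P` and `|N_G(P)| = 2p`.  Then every involution of `G` is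
conjugate to the involutions of `N_G(P)`, and consequently `p (2^k)² < 4 |G|` for every power
`2^k` dividing `|G|`. -/
theorem dihinv_two_part [IsSimpleGroup G] {p : ℕ} (hp : p.Prime) (hp2 : p ≠ 2) (P : Subgroup G)
    (hP : Nat.card P = p) (hC : Subgroup.centralizer (P : Set G) ≤ P)
    (hN : Nat.card (Subgroup.normalizer (P : Set G)) = p * 2) (k : ℕ)
    (hk : 2 ^ k ∣ Nat.card G) : p * (2 ^ k) ^ 2 < 4 * Nat.card G := by
  classical
  have := Fintype.ofFinite G
  have := Fact.mk Nat.prime_two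
  obtain ⟨J', hJ'⟩ := exists_prime_orderOf_dvd_card' (G := Subgroup.normalizer (P : Set G)) 2
    (by rw [hN]; exact Dvd.intro_left p rfl)
  obtain ⟨J, hJdef⟩ : ∃ J : G, J = (J' : G) := ⟨_, rfl⟩
  have hJN : J ∈ Subgroup.normalizer (P : Set G) := by rw [hJdef]; exact J'.2
  have hJ : orderOf J = 2 := by rw [hJdef, Subgroup.orderOf_coe]; exact hJ'
  obtain ⟨hJJ, hnot2, hmul, hconj⟩ := dih_normalizer_facts hp hp2 P hP hC hN J hJN hJ
  have hnoP : ∀ t : G, t * t = 1 → t ≠ 1 → ∀ x : G, x⁻¹ * t * x ∉ P := by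
    intro t htt ht1 x h
    have h1 : (x⁻¹ * t * x) * (x⁻¹ * t * x) = 1 := by
      calc (x⁻¹ * t * x) * (x⁻¹ * t * x) = x⁻¹ * (t * t) * x := by group
        _ = 1 := by rw [htt]; group
    have h2 := hnot2 _ h1 h
    apply ht1
    have h' : t = x * (x⁻¹ * t * x) * x⁻¹ := by group
    rw [h', h2]
    group
  have hJ1 : J ≠ 1 := by
    rintro rfl
    rw [orderOf_one] at hJ
    omega
  obtain ⟨a, f, hfpos, hf, hgen⟩ := dihinv_pair_eq hp P hP hC hN
  -- the equation for `J`
  obtain ⟨sJ, hsJ, heqJ⟩ := hgen J p hJJ (hnoP J hJJ hJ1)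
    (fun y hy hy1 => dih_classProd hp hp2 P hP hC hN J hJN hJ y hy hy1)
  have hcJpos : (0 : ℤ) < (Nat.card (Subgroup.centralizer ({J} : Set G)) : ℤ) := by
    exact_mod_cast Nat.card_pos
  have hfz : (0 : ℤ) < (f : ℤ) := by exact_mod_cast hfpos
  have hpz : (0 : ℤ) < (p : ℤ) := by exact_mod_cast hp.pos
  have hsJne : (f : ℤ) - sJ ≠ 0 := by
    intro h0
    rw [h0] at heqJ
    have hpos : (0 : ℤ) < (p : ℤ) * (Nat.card (Subgroup.centralizer ({J} : Set G)) : ℤ) ^ 2 *
        ((f : ℤ) * (f + 1)) := by positivity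
    rw [heqJ] at hpos
    simp at hpos
  -- a central involution of a Sylow 2-subgroup
  have h2G : 2 ∣ Nat.card G := by
    have h := orderOf_dvd_natCard J
    rwa [hJ] at h
  obtain ⟨V, t, -, htV, ht, hVt, hVk⟩ :=
    Cfsg.Agent.Lib.helper75.exists_central_involution (⊤ : Subgroup G)
      (by rw [Subgroup.card_top]; exact h2G)
  have htt : t * t = 1 := by
    rw [← pow_two, ← ht]
    exact pow_orderOf_eq_one t
  have ht1 : t ≠ 1 := by
    rintro rfl
    rw [orderOf_one] at ht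
    omega
  have hVc : 2 ^ k ∣ Nat.card (Subgroup.centralizer ({t} : Set G)) := by
    have h1 : 2 ^ k ∣ Nat.card V := hVk k (by rw [Subgroup.card_top]; exact hk)
    have h2 : V ≤ Subgroup.centralizer ({t} : Set G) := by
      intro v hv
      rw [Subgroup.mem_centralizer_iff]
      rintro _ rfl
      exact (hVt v hv).symm
    exact h1.trans (Subgroup.card_dvd_of_le h2)
  -- `t` is conjugate to `J`
  have hconjt : IsConj J t := by
    by_contra hnc
    have hzero : ∀ y ∈ P, y ≠ 1 → classProd t y = ((0 : ℕ) : ℂ) := by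
      intro y hy hy1
      unfold classProd
      rw [Nat.cast_zero]
      apply Finset.sum_eq_zero
      intro b _
      rw [if_neg]
      rintro ⟨h1, h2⟩
      obtain ⟨hbN, hbP⟩ := dihinv_factor_mem hp P hP hnot2 t htt ht1 y hy hy1 b h1 h2
      exact hnc ((hconj b hbN hbP).2.trans h1.symm)
    obtain ⟨st, hst, heqt⟩ := hgen t 0 htt (hnoP t htt ht1) hzero
    have hst' : (f : ℤ) - st = 0 := by
      have hGpos : (0 : ℤ) < (Nat.card G : ℤ) := by exact_mod_cast Nat.card_pos
      have h0 : (Nat.card G : ℤ) * ((f : ℤ) - st) ^ 2 = 0 := by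
        rw [← heqt]; push_cast; ring
      rcases mul_eq_zero.mp h0 with h | h
      · omega
      · exact pow_eq_zero_iff (two_ne_zero) |>.mp h
    have hat : (a : G → ℂ) t = (a : G → ℂ) 1 := by
      rw [hst, hf]
      have : (st : ℤ) = (f : ℤ) := by omega
      exact_mod_cast this
    have hchar : IsCharacter G (a : G → ℂ) := isCharacter_of_isIrrCharacter a.2
    have hker : t ∈ Cfsg.Agent.Lib.helper81.charKer (a : G → ℂ) hchar :=
      (Cfsg.Agent.Lib.helper81.mem_charKer _ hchar t).mpr hat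
    have htop : Cfsg.Agent.Lib.helper81.charKer (a : G → ℂ) hchar = ⊤ := by
      rcases Subgroup.Normal.eq_bot_or_eq_top
        (Cfsg.Agent.Lib.helper81.charKer_normal (a : G → ℂ) hchar) with h | h
      · rw [h, Subgroup.mem_bot] at hker
        exact absurd hker ht1
      · exact h
    have hJker : J ∈ Cfsg.Agent.Lib.helper81.charKer (a : G → ℂ) hchar := by
      rw [htop]; exact Subgroup.mem_top J
    have haJ := (Cfsg.Agent.Lib.helper81.mem_charKer _ hchar J).mp hJker
    rw [hsJ, hf] at haJ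
    apply hsJne
    have : (sJ : ℤ) = (f : ℤ) := by exact_mod_cast haJ
    omega
  -- the equation for `t`
  have hprodt : ∀ y ∈ P, y ≠ 1 → classProd t y = ((p : ℕ) : ℂ) := by
    intro y hy hy1
    rw [← dih_classProd hp hp2 P hP hC hN J hJN hJ y hy hy1]
    unfold classProd
    apply Finset.sum_congr rfl
    intro b _
    have e : (IsConj t b ∧ IsConj t (b⁻¹ * y)) ↔ (IsConj J b ∧ IsConj J (b⁻¹ * y)) :=
      ⟨fun h => ⟨hconjt.trans h.1, hconjt.trans h.2⟩,
        fun h => ⟨hconjt.symm.trans h.1, hconjt.symm.trans h.2⟩⟩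
    by_cases h : IsConj J b ∧ IsConj J (b⁻¹ * y)
    · rw [if_pos h, if_pos (e.mpr h)]
    · rw [if_neg h, if_neg (fun h' => h (e.mp h'))]
  obtain ⟨s, hs, heq⟩ := hgen t p htt (hnoP t htt ht1) hprodt
  -- `|s| ≤ f`
  have hnorm := Cfsg.Agent.Lib.helper82.irr_norm_le a t
  have hdeg : ((charDegree (a : G → ℂ) : ℕ) : ℂ) = (f : ℂ) := by
    rw [← Cfsg.Agent.Lib.helper82.irr_one_eq a, hf]
  have hdeg' : charDegree (a : G → ℂ) = f := by exact_mod_cast hdeg
  rw [hs, hdeg'] at hnorm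
  have habs : |(s : ℝ)| ≤ (f : ℝ) := by
    have h : ‖((s : ℤ) : ℂ)‖ = |(s : ℝ)| := by
      rw [← Complex.ofReal_intCast, Complex.norm_real, Real.norm_eq_abs]
    rw [h] at hnorm
    exact hnorm
  have hsle : s ≤ (f : ℤ) := by
    have := (abs_le.mp habs).2
    exact_mod_cast this
  have hsge : -(f : ℤ) ≤ s := by
    have := (abs_le.mp habs).1
    exact_mod_cast this
  obtain ⟨c, hc⟩ : ∃ c : ℕ, c = Nat.card (Subgroup.centralizer ({t} : Set G)) := ⟨_, rfl⟩
  rw [← hc] at heq hVc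
  have hcpos : 0 < c := by rw [hc]; exact Nat.card_pos
  have hle : 2 ^ k ≤ c := Nat.le_of_dvd hcpos hVc
  have hlez : ((2 ^ k : ℕ) : ℤ) ≤ (c : ℤ) := by exact_mod_cast hle
  have hkpos : (0 : ℤ) < ((2 ^ k : ℕ) : ℤ) := by positivity
  have hbound : ((f : ℤ) - s) ^ 2 ≤ 4 * (f : ℤ) ^ 2 := by nlinarith
  have hGpos : (0 : ℤ) < (Nat.card G : ℤ) := by exact_mod_cast Nat.card_pos
  have hmain : (p : ℤ) * ((2 ^ k : ℕ) : ℤ) ^ 2 < 4 * (Nat.card G : ℤ) := by
    by_contra hcon
    push Not at hcon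
    have hsq : ((2 ^ k : ℕ) : ℤ) ^ 2 ≤ (c : ℤ) ^ 2 := by nlinarith
    have h1 : (p : ℤ) * (c : ℤ) ^ 2 ≥ (p : ℤ) * ((2 ^ k : ℕ) : ℤ) ^ 2 :=
      mul_le_mul_of_nonneg_left hsq hpz.le
    have h2 : (p : ℤ) * (c : ℤ) ^ 2 * ((f : ℤ) * (f + 1)) ≤
        (Nat.card G : ℤ) * (4 * (f : ℤ) ^ 2) := by
      rw [heq]
      exact mul_le_mul_of_nonneg_left hbound hGpos.le
    have h3 : (4 * (Nat.card G : ℤ)) * ((f : ℤ) * (f + 1)) ≤
        (p : ℤ) * (c : ℤ) ^ 2 * ((f : ℤ) * (f + 1)) := by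
      apply mul_le_mul_of_nonneg_right _ (by positivity)
      linarith
    nlinarith
  have hcast : ((p * (2 ^ k) ^ 2 : ℕ) : ℤ) < ((4 * Nat.card G : ℕ) : ℤ) := by
    push_cast
    push_cast at hmain
    exact hmain
  exact_mod_cast hcast

end DihInvB

end Cfsg.Agent.Lib.helper21
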