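import Mathlib
import Cfsg.Agent.Lib.helper21.PrimeTICor
import Cfsg.Agent.Lib.helper21.DihInv
import Cfsg.Agent.Lib.helper21.TIChar
import Cfsg.Agent.Lib.helper79.FiniteOrderTrace
import Cfsg.Agent.Lib.helper83.CharBasic

set_option autoImplicit false

/-!
# The generalized character `(1_P - λ)^G` and class products of involutions (helper21)

`P ≤ G` of prime order `p`, `C_G(P) ≤ P`, `|N_G(P)| = p e`.

* `frob_theta`: the integer coefficients `b ψ` of `Θ = (1_P - λ)^G`: `b 1 = 1`,
  `∑ b ψ ^ 2 = e + 1`, `∑ b ψ ψ(1) = 0`; if `e = p - 1` then `ψ(1) ≡ b ψ` modulo `p` for all `ψ`;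
  and the class equation `κ |G| = ∑ b ψ ψ(1) ω_ψ(J)²` whenever every nonidentity element of `P`
  is a product of two conjugates of `J` in exactly `κ` ways.
* `frob_classProd`: for `p` odd and an involution `J ∈ N_G(P)`, `κ = p`.
* `irr_involution_parity`: `ψ(J) ≡ ψ(1)` modulo `2` and `|ψ(J)| ≤ ψ(1)` for an involution `J`.
-/

namespace Cfsg.Agent.Lib.helper21

open Cfsg Cfsg.Agent.Lib.helper4
open scoped ComplexConjugate

universe u

section FrobTheta

variable {G : Type u} [Group G] [Fintype G]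

theorem frob_theta [Fintype (IrrCharacter G)] {p e : ℕ} (hp : p.Prime) (P : Subgroup G)
    (hP : Nat.card P = p) (hC : Subgroup.centralizer (P : Set G) ≤ P)
    (hN : Nat.card (Subgroup.normalizer (P : Set G)) = p * e) :
    ∃ b : IrrCharacter G → ℤ, b ⟨fun _ => 1, isIrrCharacter_one⟩ = 1 ∧
      ∑ ψ, b ψ ^ 2 = (e : ℤ) + 1 ∧
      ∑ ψ, b ψ * (charDegree (ψ : G → ℂ) : ℤ) = 0 ∧
      (e = p - 1 → ∀ ψ : IrrCharacter G, (p : ℤ) ∣ (charDegree (ψ : G → ℂ) : ℤ) - b ψ) ∧
      ∀ (J : G) (κ : ℕ), (∀ y ∈ P, y ≠ 1 → classProd J y = κ) →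
        (κ : ℂ) * (Nat.card G : ℂ) = ∑ ψ : IrrCharacter G,
          (b ψ : ℂ) * ((ψ : G → ℂ) 1 * (centralChar (ψ : G → ℂ) J) ^ 2) := by
  classical
  have := Fintype.ofFinite P
  have := Fintype.ofFinite (IrrCharacter P)
  have hcardP : (Nat.card P : ℂ) ≠ 0 := by rw [hP]; exact_mod_cast hp.ne_zero
  obtain ⟨one, hone⟩ : ∃ one : P → ℂ, one = fun _ => 1 := ⟨_, rfl⟩
  have h1P : IsIrrCharacter P one := by rw [hone]; exact isIrrCharacter_one
  obtain ⟨triv, htriv⟩ : ∃ triv : IrrCharacter P, triv = ⟨one, h1P⟩ := ⟨_, rfl⟩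
  have hcardIrr : Fintype.card (IrrCharacter P) = p := by
    have h := sum_irr_degree_sq (G := P)
    have h2 : ∀ χ : IrrCharacter P, (χ : P → ℂ) 1 ^ 2 = 1 := fun χ => by
      rw [irr_apply_one_of_prime_card hp hP χ.2, one_pow]
    rw [Finset.sum_congr rfl (fun χ _ => h2 χ), Finset.sum_const, Finset.card_univ, hP] at h
    simpa using h
  obtain ⟨s, hs⟩ : ∃ s : Finset (IrrCharacter P), s = Finset.univ.erase triv := ⟨_, rfl⟩
  have hscard : s.card = p - 1 := by
    rw [hs, Finset.card_erase_of_mem (Finset.mem_univ _), Finset.card_univ, hcardIrr]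
  have hsmem : ∀ b : IrrCharacter P, b ∈ s ↔ (b : P → ℂ) ≠ one := by
    intro b
    rw [hs, Finset.mem_erase, htriv]
    simp [Subtype.ext_iff]
  obtain ⟨lamI, hlamI⟩ : s.Nonempty :=
    Finset.card_pos.mp (by rw [hscard]; have := hp.two_le; omega)
  obtain ⟨lam, hlamdef⟩ : ∃ lam : P → ℂ, lam = (lamI : P → ℂ) := ⟨_, rfl⟩
  have hlm : IsIrrCharacter P lam := by rw [hlamdef]; exact lamI.2
  have hlm1 : lam ≠ one := by rw [hlamdef]; exact (hsmem lamI).mp hlamI
  have hlmone : lam 1 = 1 := irr_apply_one_of_prime_card hp hP hlm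
  obtain ⟨Θ, hΘ⟩ : ∃ Θ : G → ℂ, Θ = indFun P one - indFun P lam := ⟨_, rfl⟩
  have hΘgen : IsGeneralizedCharacter G Θ := by
    rw [hΘ]
    exact isGeneralizedCharacter_sub
      (isGeneralizedCharacter_of_isCharacter
        (isCharacter_indFun P (isCharacter_of_isIrrCharacter h1P)))
      (isGeneralizedCharacter_of_isCharacter
        (isCharacter_indFun P (isCharacter_of_isIrrCharacter hlm)))
  obtain ⟨c, hΘsum, hc, hnorm⟩ := exists_int_coeff hΘgen
  have hK1 : tiK P lam lam = 1 := by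
    rw [tiK_eq_tiCount hp hP hlm hlm, tiCount_self hp hP hC hlm (hone ▸ hlm1)]
    exact inv_mul_cancel₀ hcardP
  have hK10 : tiK P lam one = 0 := by
    rw [tiK_eq_tiCount hp hP hlm h1P]
    subst hone
    rw [tiCount_one_left hlm1]
    simp
  have hK01 : tiK P one lam = 0 := by
    rw [tiK_eq_tiCount hp hP h1P hlm]
    subst hone
    rw [tiCount_one_right hlm1]
    simp
  have hK11 : tiK P one one = (e : ℂ) := by
    rw [tiK_eq_tiCount hp hP h1P h1P]
    subst hone
    rw [tiCount_one_one, hN]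
    rw [hP] at hcardP ⊢
    push_cast
    field_simp
  have hnormval : classInner Θ Θ = (e : ℂ) + 1 := by
    rw [hΘ, classInner_indFun_sub_indFun_sub hp hP h1P hlm, hK11, hK01, hK10, hK1]
    ring
  have hsumsq : ∑ ψ, c ψ ^ 2 = (e : ℤ) + 1 := by
    have h : ((∑ ψ, c ψ ^ 2 : ℤ) : ℂ) = ((e + 1 : ℤ) : ℂ) := by
      rw [← hnorm, hnormval]; push_cast; ring
    exact Int.cast_injective h
  obtain ⟨oneG, honeG⟩ : ∃ oneG : IrrCharacter G, oneG = ⟨fun _ => 1, isIrrCharacter_one⟩ :=
    ⟨_, rfl⟩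
  have honeGval : (oneG : G → ℂ) = fun _ => 1 := by rw [honeG]
  have hcone : c oneG = 1 := by
    have hcl : IsClassFunction G (oneG : G → ℂ) := isClassFunction_of_isIrrCharacter oneG.2
    have h := hc oneG
    rw [hΘ, classInner_sub_left, frobenius_reciprocity P _ hcl,
      frobenius_reciprocity P _ hcl] at h
    have hres : (fun h : P => (oneG : G → ℂ) h) = one := by rw [honeGval, hone]
    rw [hres, classInner_irr_self h1P, classInner_irr_ne hlm h1P hlm1] at h
    have h' : ((1 : ℤ) : ℂ) = (c oneG : ℂ) := by rw [← h]; norm_num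
    exact (Int.cast_injective h').symm
  have hdegc : ∀ ψ : IrrCharacter G, (ψ : G → ℂ) 1 = (charDegree (ψ : G → ℂ) : ℂ) :=
    fun ψ => Cfsg.Agent.Lib.helper82.irr_one_eq ψ
  have hΘ1 : Θ 1 = 0 := by
    rw [hΘ, Pi.sub_apply, indFun_one, indFun_one, hlmone, hone, sub_self]
  have hdegsum : ∑ ψ, c ψ * (charDegree (ψ : G → ℂ) : ℤ) = 0 := by
    have h := congrFun hΘsum 1
    rw [hΘ1, Finset.sum_apply] at h
    have h2 : ((∑ ψ, c ψ * (charDegree (ψ : G → ℂ) : ℤ) : ℤ) : ℂ) = ((0 : ℤ) : ℂ) := by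
      push_cast
      rw [h]
      exact Finset.sum_congr rfl (fun ψ _ => by rw [Pi.smul_apply, smul_eq_mul, hdegc])
    exact Int.cast_injective h2
  refine ⟨c, by rw [← honeG]; exact hcone, hsumsq, hdegsum, ?_, ?_⟩
  · -- congruences
    intro he ψ
    have hfib : (s.filter (fun b' : IrrCharacter P =>
        indFun P (b' : P → ℂ) = indFun P (lamI : P → ℂ))).card = e := by
      have hb1 := (hsmem lamI).mp hlamI
      have h1 : ∑ b' ∈ s.filter (fun b' : IrrCharacter P =>
          indFun P (b' : P → ℂ) = indFun P (lamI : P → ℂ)),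
          tiCount P (b' : P → ℂ) (lamI : P → ℂ) =
          (s.filter (fun b' : IrrCharacter P =>
            indFun P (b' : P → ℂ) = indFun P (lamI : P → ℂ))).card * p := by
        apply Finset.sum_const_nat
        intro b' hb'
        rw [Finset.mem_filter] at hb'
        rw [tiCount_of_indFun_eq hp hP hC b'.2 lamI.2 (hone ▸ (hsmem b').mp hb'.1)
          (hone ▸ hb1) hb'.2, hP]
      have h2 : ∑ b' ∈ s.filter (fun b' : IrrCharacter P =>
          indFun P (b' : P → ℂ) = indFun P (lamI : P → ℂ)),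
          tiCount P (b' : P → ℂ) (lamI : P → ℂ) =
          ∑ b' : IrrCharacter P, tiCount P (b' : P → ℂ) (lamI : P → ℂ) := by
        apply Finset.sum_subset (Finset.subset_univ _)
        intro b' _ hb'
        by_cases hb's : b' ∈ s
        · apply tiCount_eq_zero_of_indFun_ne
          intro h
          exact hb' (Finset.mem_filter.mpr ⟨hb's, h⟩)
        · have hb'1 : (b' : P → ℂ) = one := by
            by_contra h
            exact hb's ((hsmem b').mpr h)
          rw [hb'1, hone]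
          exact tiCount_one_right (hone ▸ hb1)
      rw [h1, sum_tiCount hp hP lamI.2, hN, mul_comm] at h2
      exact Nat.eq_of_mul_eq_mul_left hp.pos h2
    have hEq : s.filter (fun b' : IrrCharacter P =>
        indFun P (b' : P → ℂ) = indFun P (lamI : P → ℂ)) = s :=
      Finset.eq_of_subset_of_card_le (Finset.filter_subset _ _) (by rw [hfib, hscard, he])
    have hall : ∀ b ∈ s, indFun P (b : P → ℂ) = indFun P lam := by
      intro b hb
      have hb' : b ∈ s.filter (fun b' : IrrCharacter P =>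
          indFun P (b' : P → ℂ) = indFun P (lamI : P → ℂ)) := by rw [hEq]; exact hb
      rw [hlamdef]
      exact (Finset.mem_filter.mp hb').2
    have hψcl : IsClassFunction G (ψ : G → ℂ) := isClassFunction_of_isIrrCharacter ψ.2
    obtain ⟨m1, hm1⟩ := exists_int_classInner
      (isGeneralizedCharacter_of_isCharacter
        (isCharacter_indFun P (isCharacter_of_isIrrCharacter h1P)))
      (isGeneralizedCharacter_of_isIrrCharacter ψ.2)
    have hval : ∀ b : IrrCharacter P, b ∈ s →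
        classInner (indFun P (b : P → ℂ)) (ψ : G → ℂ) = ((m1 - c ψ : ℤ) : ℂ) := by
      intro b hb
      have h1 : indFun P lam = indFun P one - Θ := by rw [hΘ]; ring
      rw [hall b hb, h1, classInner_sub_left, hm1, hc ψ]
      push_cast
      ring
    have hres := classFunction_eq_sum_irr (isClassFunction_restrict P hψcl)
    have hres1 := congrFun hres 1
    rw [Finset.sum_apply] at hres1
    have hterm : ∀ b : IrrCharacter P,
        (classInner (fun h : P => (ψ : G → ℂ) h) (b : P → ℂ) • (b : P → ℂ)) 1 =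
          conj (classInner (indFun P (b : P → ℂ)) (ψ : G → ℂ)) := by
      intro b
      rw [Pi.smul_apply, irr_apply_one_of_prime_card hp hP b.2, smul_eq_mul, mul_one,
        frobenius_reciprocity P _ hψcl, classInner_conj_symm]
    rw [Finset.sum_congr rfl (fun b _ => hterm b),
      ← Finset.add_sum_erase Finset.univ _ (Finset.mem_univ triv), ← hs,
      Finset.sum_congr rfl (fun b hb => by rw [hval b hb]), Finset.sum_const, hscard, htriv] at hres1
    simp only [] at hres1
    rw [hm1] at hres1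
    refine ⟨m1 - c ψ, ?_⟩
    have hp1 : ((p - 1 : ℕ) : ℂ) = (p : ℂ) - 1 := by
      rw [Nat.cast_sub hp.one_le]; simp
    have hres2 : (ψ : G → ℂ) 1 = (m1 : ℂ) + ((p : ℂ) - 1) * ((m1 : ℂ) - (c ψ : ℂ)) := by
      have : (ψ : G → ℂ) 1 = (ψ : G → ℂ) ((1 : P) : G) := by simp
      rw [this, hres1, nsmul_eq_mul, hp1]
      simp
    rw [hdegc] at hres2
    have h3 : ((charDegree (ψ : G → ℂ) : ℤ) : ℂ) = ((c ψ + p * (m1 - c ψ) : ℤ) : ℂ) := by
      push_cast
      rw [hres2]
      ring
    have h4 := Int.cast_injective h3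
    rw [h4]
    ring
  · -- the class equation
    intro J κ hprod
    have hF : IsClassFunction G (classProd J) := isClassFunction_classProd J
    have hconj : ∀ g, conj (classProd J g) = classProd J g := by
      intro g
      unfold classProd
      rw [map_sum]
      apply Finset.sum_congr rfl
      intro x _
      split_ifs <;> simp
    have hsum : ∑ y : P, lam y = 0 := by
      have h := classInner_irr hlm h1P
      rw [if_neg hlm1] at h
      unfold classInner at h
      rcases mul_eq_zero.mp h with h | h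
      · exact absurd (inv_eq_zero.mp h) hcardP
      · rw [hone] at h
        simpa using h
    have hΘind : Θ = indFun P (one - lam) := by rw [hΘ, indFun_sub]
    have hQ1 : classInner Θ (classProd J) = κ := by
      rw [hΘind, frobenius_reciprocity P _ hF]
      unfold classInner
      rw [hP]
      have hterm : ∀ y : P, (one - lam) y * conj (classProd J (y : G)) = (1 - lam y) * κ := by
        intro y
        by_cases hy : y = 1
        · rw [hy, Pi.sub_apply, hlmone, hone]; simp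
        · rw [hconj, hprod y y.2 (fun h => hy (Subtype.ext h)), Pi.sub_apply, hone]
      rw [Finset.sum_congr rfl (fun y _ => hterm y), ← Finset.sum_mul, Finset.sum_sub_distrib,
        hsum, Finset.sum_const, Finset.card_univ, ← Nat.card_eq_fintype_card, hP]
      have hpC : (p : ℂ) ≠ 0 := by exact_mod_cast hp.ne_zero
      simp
      field_simp
    have hQ2 : classInner Θ (classProd J) = (Nat.card G : ℂ)⁻¹ *
        ∑ ψ : IrrCharacter G, (c ψ : ℂ) * ((ψ : G → ℂ) 1 * (centralChar (ψ : G → ℂ) J) ^ 2) := by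
      unfold classInner
      congr 1
      have h1 : ∀ g : G, Θ g * conj (classProd J g) =
          ∑ ψ : IrrCharacter G, (c ψ : ℂ) * (classProd J g * (ψ : G → ℂ) g) := by
        intro g
        rw [hconj, hΘsum, Finset.sum_apply, Finset.sum_mul]
        apply Finset.sum_congr rfl
        intro ψ _
        rw [Pi.smul_apply, smul_eq_mul]
        ring
      rw [Finset.sum_congr rfl (fun g _ => h1 g), Finset.sum_comm]
      apply Finset.sum_congr rfl
      intro ψ _
      rw [← Finset.mul_sum, sum_classProd_mul_char J ψ.2]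
    have hG0 : (Nat.card G : ℂ) ≠ 0 := by
      have : 0 < Nat.card G := Nat.card_pos
      exact_mod_cast this.ne'
    rw [hQ1] at hQ2
    rw [hQ2]
    field_simp

end FrobTheta

section FrobClassProd

variable {G : Type u} [Group G] [Fintype G]

/-- Every nonidentity element of `P` (odd prime order `p`, self-centralizing) is a product of two
conjugates of an involution `J` of the normalizer in exactly `p` ways. -/
theorem frob_classProd {p : ℕ} (hp : p.Prime) (hp2 : p ≠ 2) (P : Subgroup G)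
    (hP : Nat.card P = p) (hC : Subgroup.centralizer (P : Set G) ≤ P)
    (J : G) (hJN : J ∈ Subgroup.normalizer (P : Set G)) (hJ : orderOf J = 2)
    (y : G) (hy : y ∈ P) (hy1 : y ≠ 1) : classProd J y = p := by
  classical
  have hJJ : J * J = 1 := by rw [← pow_two, ← hJ]; exact pow_orderOf_eq_one J
  have hJ1 : J ≠ 1 := by
    rintro rfl
    rw [orderOf_one] at hJ
    omega
  have hJinv : J⁻¹ = J := inv_eq_of_mul_eq_one_left hJJ
  have hnot2 : ∀ t : G, t * t = 1 → t ∈ P → t = 1 := by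
    intro t htt htP
    have h1 : orderOf t ∣ 2 := orderOf_dvd_of_pow_eq_one (by rw [pow_two]; exact htt)
    have h2 : orderOf t ∣ p := by
      have := orderOf_dvd_natCard (⟨t, htP⟩ : P)
      rwa [Subgroup.orderOf_mk, hP] at this
    have h3 : orderOf t ∣ Nat.gcd 2 p := Nat.dvd_gcd h1 h2
    have h4 : Nat.gcd 2 p = 1 := (Nat.coprime_primes Nat.prime_two hp).mpr (Ne.symm hp2)
    rw [h4] at h3
    exact orderOf_eq_one_iff.mp (Nat.dvd_one.mp h3)
  have hJP : J ∉ P := fun h => hJ1 (hnot2 J hJJ h)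
  have hcommP : ∀ a ∈ P, ∀ b ∈ P, a * b = b * a := by
    intro a ha b hb
    exact congrArg Subtype.val (comm_of_prime_card hp hP ⟨a, ha⟩ ⟨b, hb⟩)
  have hinv : ∀ q ∈ P, J * q * J⁻¹ = q⁻¹ := by
    intro q hq
    have hz : J * q * J⁻¹ ∈ P := (Subgroup.mem_normalizer_iff.mp hJN q).mp hq
    by_contra hne
    have hw1 : q * (J * q * J⁻¹) ≠ 1 := fun h => hne (eq_inv_of_mul_eq_one_right h)
    have hwP : q * (J * q * J⁻¹) ∈ P := mul_mem hq hz
    have hc := hcommP _ hz _ hq
    have hJw : J * (q * (J * q * J⁻¹)) = (q * (J * q * J⁻¹)) * J := by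
      calc J * (q * (J * q * J⁻¹)) = (J * q * J⁻¹) * (J * J) * q * J⁻¹ := by group
        _ = (J * q * J⁻¹) * q * J⁻¹ := by rw [hJJ, mul_one]
        _ = q * (J * q * J⁻¹) * J⁻¹ := by rw [hc]
        _ = q * (J * q * J⁻¹) * J := by rw [hJinv]
    exact hJP (hC (Cfsg.Agent.Lib.helper32.mem_centralizer_of_commute_prime_card hp P hP hwP hw1
      hJw))
  have hodd : (p - 1) / 2 + (p - 1) / 2 + 1 = p := by
    have h2 := hp.two_le
    rcases Nat.Prime.eq_two_or_odd hp with h | h
    · exact absurd h hp2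
    · omega
  have hconjJ : ∀ q ∈ P, IsConj J (J * q) := by
    intro q hq
    obtain ⟨w, hwP, hw⟩ : ∃ w ∈ P, w * w * q = 1 := by
      refine ⟨q ^ ((p - 1) / 2), pow_mem hq _, ?_⟩
      have hqp : q ^ p = 1 := by
        have h := pow_card_eq_one' (G := P) (x := ⟨q, hq⟩)
        rw [hP] at h
        have h' := congrArg Subtype.val h
        simpa using h'
      rw [← pow_add, ← pow_succ, hodd, hqp]
    rw [isConj_iff]
    refine ⟨w, ?_⟩
    have h1 : J⁻¹ * w * J = w⁻¹ := by
      have := hinv w hwP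
      rw [hJinv] at this ⊢
      exact this
    have h2 : w⁻¹ * w⁻¹ = q := by
      have : q = (w * w)⁻¹ := eq_inv_of_mul_eq_one_right hw
      rw [this, mul_inv_rev]
    calc w * J * w⁻¹ = J * (J⁻¹ * w * J) * w⁻¹ := by group
      _ = J * (w⁻¹ * w⁻¹) := by rw [h1]; group
      _ = J * q := by rw [h2]
  have hiff : ∀ a : G, (IsConj J a ∧ IsConj J (a⁻¹ * y)) ↔ J⁻¹ * a ∈ P := by
    intro a
    constructor
    · rintro ⟨h1, h2⟩
      obtain ⟨c, hc⟩ := isConj_iff.mp h1
      obtain ⟨d, hd⟩ := isConj_iff.mp h2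
      have haa : a * a = 1 := by
        rw [← hc]
        calc c * J * c⁻¹ * (c * J * c⁻¹) = c * (J * J) * c⁻¹ := by group
          _ = 1 := by rw [hJJ]; group
      have hbb : a⁻¹ * y * (a⁻¹ * y) = 1 := by
        rw [← hd]
        calc d * J * d⁻¹ * (d * J * d⁻¹) = d * (J * J) * d⁻¹ := by group
          _ = 1 := by rw [hJJ]; group
      have hay : a * y * a⁻¹ = y⁻¹ := by
        calc a * y * a⁻¹ = a * a * (a⁻¹ * y * (a⁻¹ * y)) * y⁻¹ := by group
          _ = y⁻¹ := by rw [hbb, haa]; group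
      have hJy : J⁻¹ * y⁻¹ * J = y := by
        have h := hinv y⁻¹ (inv_mem hy)
        rw [inv_inv, hJinv] at h
        rw [hJinv]
        exact h
      have hcomm : (J⁻¹ * a) * y = y * (J⁻¹ * a) := by
        calc J⁻¹ * a * y = J⁻¹ * (a * y * a⁻¹) * a := by group
          _ = J⁻¹ * y⁻¹ * a := by rw [hay]
          _ = (J⁻¹ * y⁻¹ * J) * (J⁻¹ * a) := by group
          _ = y * (J⁻¹ * a) := by rw [hJy]
      exact hC (Cfsg.Agent.Lib.helper32.mem_centralizer_of_commute_prime_card hp P hP hy hy1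
        hcomm)
    · intro haP
      have ha : a = J * (J⁻¹ * a) := by group
      constructor
      · rw [ha]; exact hconjJ _ haP
      · have h4 := hinv (J⁻¹ * a)⁻¹ (inv_mem haP)
        rw [inv_inv] at h4
        have h3 : a⁻¹ * y = J * ((J⁻¹ * a) * y) := by
          calc a⁻¹ * y = (J * J) * (J⁻¹ * a)⁻¹ * J⁻¹ * y := by rw [hJJ]; group
            _ = J * (J * (J⁻¹ * a)⁻¹ * J⁻¹) * y := by group
            _ = J * ((J⁻¹ * a) * y) := by rw [h4]; group
        rw [h3]
        exact hconjJ _ (mul_mem haP hy)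
  have hcard : (Finset.univ.filter (fun a : G => IsConj J a ∧ IsConj J (a⁻¹ * y))).card = p := by
    have e : Finset.univ.filter (fun a : G => IsConj J a ∧ IsConj J (a⁻¹ * y)) =
        Finset.univ.filter (fun a : G => J⁻¹ * a ∈ P) := by
      apply Finset.filter_congr
      intro a _
      exact hiff a
    rw [e]
    have h2 : (Finset.univ.filter (fun a : G => a ∈ P)).card = p := by
      rw [← Fintype.card_subtype, ← Nat.card_eq_fintype_card]
      exact hP
    rw [← h2]
    apply Finset.card_bij (fun a _ => J⁻¹ * a)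
    · intro a ha
      simp only [Finset.mem_filter, Finset.mem_univ, true_and] at ha ⊢
      exact ha
    · intro a _ b _ hab
      exact mul_left_cancel hab
    · intro b hb
      simp only [Finset.mem_filter, Finset.mem_univ, true_and] at hb
      refine ⟨J * b, ?_, by group⟩
      simp only [Finset.mem_filter, Finset.mem_univ, true_and]
      have : J⁻¹ * (J * b) = b := by group
      rw [this]
      exact hb
  unfold classProd
  rw [Finset.sum_boole]
  have hcard' := hcard
  rw [← hcard']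

end FrobClassProd

section Parity

variable {G : Type u} [Group G] [Finite G]

/-- The value of an irreducible character at an involution is an integer congruent to the
degree modulo `2` and bounded by the degree. -/
theorem irr_involution_parity (χ : IrrCharacter G) (J : G) (hJ : J * J = 1) :
    ∃ z : ℤ, (χ : G → ℂ) J = z ∧ (2 : ℤ) ∣ (charDegree (χ : G → ℂ) : ℤ) - z ∧
      |z| ≤ (charDegree (χ : G → ℂ) : ℤ) := by
  classical
  obtain ⟨n, ρ, hρ, hχ⟩ := χ.2
  obtain ⟨S, m, hS, hm, hval, -⟩ := Cfsg.Agent.Lib.helper79.character_pow_eq_sum ρ J 2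
    (by norm_num) (by rw [pow_two]; exact hJ)
  have h1 := hval 1
  rw [pow_one] at h1
  have h0 := hval 0
  rw [pow_zero] at h0
  have hμ : ∀ μ ∈ S, μ = 1 ∨ μ = -1 := by
    intro μ hμ
    have h2 := hS μ hμ
    have h4 : (μ - 1) * (μ + 1) = 0 := by
      have : (μ - 1) * (μ + 1) = μ ^ 2 - 1 := by ring
      rw [this, h2, sub_self]
    rcases mul_eq_zero.mp h4 with h | h
    · left
      exact sub_eq_zero.mp h
    · right
      exact eq_neg_of_add_eq_zero_left h
  obtain ⟨z, hz⟩ : ∃ z : ℤ, z = ∑ μ ∈ S, (if μ = 1 then (m μ : ℤ) else -(m μ : ℤ)) := ⟨_, rfl⟩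
  obtain ⟨f, hf⟩ : ∃ f : ℕ, f = ∑ μ ∈ S, m μ := ⟨_, rfl⟩
  have hχJ : (χ : G → ℂ) J = z := by
    rw [← hχ, h1, hz]
    push_cast
    apply Finset.sum_congr rfl
    intro μ hμS
    rcases hμ μ hμS with h | h
    · rw [if_pos h, h]; simp
    · have hne : μ ≠ 1 := by rw [h]; norm_num
      rw [if_neg hne, h]; simp
  have hχ1 : (χ : G → ℂ) 1 = (f : ℂ) := by
    rw [← hχ, h0, hf]
    push_cast
    apply Finset.sum_congr rfl
    intro μ _
    simp
  have hdeg : charDegree (χ : G → ℂ) = f := charDegree_of_one_eq hχ1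
  refine ⟨z, hχJ, ?_, ?_⟩
  · rw [hdeg, hf, hz]
    push_cast
    rw [← Finset.sum_sub_distrib]
    apply Finset.dvd_sum
    intro μ _
    split_ifs
    · simp
    · exact ⟨(m μ : ℤ), by ring⟩
  · rw [hdeg, hf, hz]
    push_cast
    refine (Finset.abs_sum_le_sum_abs _ _).trans ?_
    apply Finset.sum_le_sum
    intro μ _
    split_ifs
    · simp
    · simp

end Parity

section SumSqFour

/-- A sum of integer squares equal to three has exactly three nonzero terms, which are `±1`. -/
theorem exists_of_sum_sq_eq_three {ι : Type*} [DecidableEq ι] (s : Finset ι) (a : ι → ℤ)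
    (h : ∑ x ∈ s, a x ^ 2 = 3) :
    ∃ x ∈ s, ∃ y ∈ s, ∃ z ∈ s, x ≠ y ∧ x ≠ z ∧ y ≠ z ∧ (a x = 1 ∨ a x = -1) ∧
      (a y = 1 ∨ a y = -1) ∧ (a z = 1 ∨ a z = -1) ∧
      ∀ w ∈ s, w ≠ x → w ≠ y → w ≠ z → a w = 0 := by
  have hex : ∃ x ∈ s, a x ≠ 0 := by
    by_contra hcon
    push Not at hcon
    rw [Finset.sum_eq_zero (fun x hx => by rw [hcon x hx]; rfl)] at h
    omega
  obtain ⟨x, hx, hax⟩ := hex
  rw [← Finset.add_sum_erase s _ hx] at h
  have hnn : 0 ≤ ∑ y ∈ s.erase x, a y ^ 2 := Finset.sum_nonneg fun y _ => sq_nonneg _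
  have hpos : 0 < a x ^ 2 := by positivity
  have hle : a x ^ 2 ≤ 3 := by omega
  have hb : -1 ≤ a x ∧ a x ≤ 1 := by constructor <;> nlinarith
  have hx1 : a x = 1 ∨ a x = -1 := by omega
  have hsq : a x ^ 2 = 1 := by rcases hx1 with h1 | h1 <;> rw [h1] <;> norm_num
  have hrest : ∑ y ∈ s.erase x, a y ^ 2 = 2 := by omega
  obtain ⟨y, hy, z, hz, hyz, hy1, hz1, hw⟩ := exists_of_sum_sq_eq_two (s.erase x) a hrest
  refine ⟨x, hx, y, Finset.mem_of_mem_erase hy, z, Finset.mem_of_mem_erase hz,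
    (Finset.ne_of_mem_erase hy).symm, (Finset.ne_of_mem_erase hz).symm, hyz, hx1, hy1, hz1, ?_⟩
  intro w hw' hwx hwy hwz
  exact hw w (Finset.mem_erase.mpr ⟨hwx, hw'⟩) hwy hwz

/-- A sum of integer squares equal to four: one term `±2`, or four terms `±1`. -/
theorem exists_of_sum_sq_eq_four {ι : Type*} [DecidableEq ι] (s : Finset ι) (a : ι → ℤ)
    (h : ∑ x ∈ s, a x ^ 2 = 4) :
    (∃ x ∈ s, (a x = 2 ∨ a x = -2) ∧ ∀ w ∈ s, w ≠ x → a w = 0) ∨
    (∃ x ∈ s, ∃ y ∈ s, ∃ z ∈ s, ∃ t ∈ s, x ≠ y ∧ x ≠ z ∧ x ≠ t ∧ y ≠ z ∧ y ≠ t ∧ z ≠ t ∧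
      (a x = 1 ∨ a x = -1) ∧ (a y = 1 ∨ a y = -1) ∧ (a z = 1 ∨ a z = -1) ∧
      (a t = 1 ∨ a t = -1) ∧ ∀ w ∈ s, w ≠ x → w ≠ y → w ≠ z → w ≠ t → a w = 0) := by
  have hex : ∃ x ∈ s, a x ≠ 0 := by
    by_contra hcon
    push Not at hcon
    rw [Finset.sum_eq_zero (fun x hx => by rw [hcon x hx]; rfl)] at h
    omega
  obtain ⟨x, hx, hax⟩ := hex
  rw [← Finset.add_sum_erase s _ hx] at h
  have hnn : 0 ≤ ∑ y ∈ s.erase x, a y ^ 2 := Finset.sum_nonneg fun y _ => sq_nonneg _
  have hpos : 0 < a x ^ 2 := by positivity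
  have hle : a x ^ 2 ≤ 4 := by omega
  have hb : -2 ≤ a x ∧ a x ≤ 2 := by constructor <;> nlinarith
  have hx1 : a x = 1 ∨ a x = -1 ∨ a x = 2 ∨ a x = -2 := by omega
  rcases hx1 with h1 | h1 | h1 | h1
  · right
    have hrest : ∑ y ∈ s.erase x, a y ^ 2 = 3 := by rw [h1] at h; omega
    obtain ⟨y, hy, z, hz, t, ht, hyz, hyt, hzt, hy1, hz1, ht1, hw⟩ :=
      exists_of_sum_sq_eq_three (s.erase x) a hrest
    refine ⟨x, hx, y, Finset.mem_of_mem_erase hy, z, Finset.mem_of_mem_erase hz, t,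
      Finset.mem_of_mem_erase ht, (Finset.ne_of_mem_erase hy).symm,
      (Finset.ne_of_mem_erase hz).symm, (Finset.ne_of_mem_erase ht).symm, hyz, hyt, hzt,
      Or.inl h1, hy1, hz1, ht1, ?_⟩
    intro w hw' hwx hwy hwz hwt
    exact hw w (Finset.mem_erase.mpr ⟨hwx, hw'⟩) hwy hwz hwt
  · right
    have hrest : ∑ y ∈ s.erase x, a y ^ 2 = 3 := by rw [h1] at h; omega
    obtain ⟨y, hy, z, hz, t, ht, hyz, hyt, hzt, hy1, hz1, ht1, hw⟩ :=
      exists_of_sum_sq_eq_three (s.erase x) a hrest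
    refine ⟨x, hx, y, Finset.mem_of_mem_erase hy, z, Finset.mem_of_mem_erase hz, t,
      Finset.mem_of_mem_erase ht, (Finset.ne_of_mem_erase hy).symm,
      (Finset.ne_of_mem_erase hz).symm, (Finset.ne_of_mem_erase ht).symm, hyz, hyt, hzt,
      Or.inr h1, hy1, hz1, ht1, ?_⟩
    intro w hw' hwx hwy hwz hwt
    exact hw w (Finset.mem_erase.mpr ⟨hwx, hw'⟩) hwy hwz hwt
  · left
    have hrest : ∑ y ∈ s.erase x, a y ^ 2 = 0 := by rw [h1] at h; omega
    refine ⟨x, hx, Or.inl h1, ?_⟩
    intro w hw hwx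
    have := (Finset.sum_eq_zero_iff_of_nonneg (fun y _ => sq_nonneg (a y))).mp hrest w
      (Finset.mem_erase.mpr ⟨hwx, hw⟩)
    exact pow_eq_zero_iff (two_ne_zero) |>.mp this
  · left
    have hrest : ∑ y ∈ s.erase x, a y ^ 2 = 0 := by rw [h1] at h; omega
    refine ⟨x, hx, Or.inr h1, ?_⟩
    intro w hw hwx
    have := (Finset.sum_eq_zero_iff_of_nonneg (fun y _ => sq_nonneg (a y))).mp hrest w
      (Finset.mem_erase.mpr ⟨hwx, hw⟩)
    exact pow_eq_zero_iff (two_ne_zero) |>.mp this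

end SumSqFour

end Cfsg.Agent.Lib.helper21
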