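import Mathlib
import Cfsg.Agent.Lib.helper21.PrimeTI

set_option autoImplicit false

/-!
# Definitions for the character degrees of a simple group of order 7920 (helper21)

* `trivIrr G`: the trivial irreducible character.
* `ExcData P p e ε b S b₀ f₀`: the output of the theory of exceptional characters for a
  self-centralizing subgroup `P` of prime order `p` with `|N_G(P)| = p e`, `e < p - 1`
  (proved in `ExcData.lean`: `exceptional_data`).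
* `M11PatI P`, `M11PatII P`, `M11PatIII P`: the three arithmetically possible shapes of the set of
  irreducible characters of degree prime to `11` of a simple group of order `7920`
  (`P` a Sylow `11`-subgroup): degrees `1, 10, 10, 10, 45, 16, 16` (the true one),
  `1, 12, 12, 10, 10, 5, 5` (the shape of `PSL(2, 11)`) and a shape with a character of degree `2`.
-/

namespace Cfsg.Agent.Lib.helper21

open Cfsg Cfsg.Agent.Lib.helper4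

universe u

section M11Defs

variable {G : Type u} [Group G] [Fintype G]

/-- The trivial irreducible character. -/
noncomputable def trivIrr (G : Type u) [Group G] [Fintype G] : IrrCharacter G :=
  ⟨fun _ => 1, isIrrCharacter_one⟩

/-- The data given by the exceptional characters of a self-centralizing subgroup `P` of prime
order `p` with `|N_G(P)| = p e`: a sign `ε`, integers `b ψ` (`∑ b ψ ψ - ε χ` is `(1_P - λ)^G` for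
each exceptional `χ ∈ S`), the common coefficient `b₀` and degree `f₀` of the exceptional
characters. -/
def ExcData [Fintype (IrrCharacter G)] (P : Subgroup G) (p e : ℕ) (ε : ℤ)
    (b : IrrCharacter G → ℤ) (S : Finset (IrrCharacter G)) (b₀ : ℤ) (f₀ : ℕ) : Prop :=
  (ε = 1 ∨ ε = -1) ∧ b (trivIrr G) = 1 ∧ trivIrr G ∉ S ∧ e * S.card = p - 1 ∧
  (∀ χ ∈ S, b χ = b₀ ∧ charDegree (χ : G → ℂ) = f₀) ∧
  ∑ ψ, b ψ ^ 2 = (e : ℤ) + 2 * ε * b₀ ∧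
  ∑ ψ, b ψ * (charDegree (ψ : G → ℂ) : ℤ) = ε * f₀ ∧
  (∀ ψ, ψ ∉ S → (p : ℤ) ∣ (charDegree (ψ : G → ℂ) : ℤ) - b ψ) ∧
  (p : ℤ) ∣ (f₀ : ℤ) - b₀ - ε * e ∧
  (∀ χ ∈ S, ∀ g : G, (∀ h : G, h * g * h⁻¹ ∈ P → g = 1) →
    ∑ ψ : IrrCharacter G, (b ψ : ℂ) * (ψ : G → ℂ) g = (ε : ℂ) * (χ : G → ℂ) g) ∧
  (∀ ψ, ψ ∉ S → ∀ x ∈ P, x ≠ 1 → (ψ : G → ℂ) x = (b ψ : ℂ)) ∧
  (∀ x ∈ P, x ≠ 1 → ∑ χ ∈ S, (χ : G → ℂ) x = (S.card : ℂ) * (b₀ : ℂ) - (ε : ℂ))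

/-- Pattern (I): the characters of degree prime to `11` are `1, α₁, α₂, α₃, β, γ₁, γ₂` of
degrees `1, 10, 10, 10, 45, 16, 16`. -/
def M11PatI (P : Subgroup G) : Prop :=
  ∃ α₁ α₂ α₃ β γ₁ γ₂ : IrrCharacter G,
    [trivIrr G, α₁, α₂, α₃, β, γ₁, γ₂].Nodup ∧
    charDegree (α₁ : G → ℂ) = 10 ∧ charDegree (α₂ : G → ℂ) = 10 ∧
    charDegree (α₃ : G → ℂ) = 10 ∧ charDegree (β : G → ℂ) = 45 ∧
    charDegree (γ₁ : G → ℂ) = 16 ∧ charDegree (γ₂ : G → ℂ) = 16 ∧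
    (∀ ψ : IrrCharacter G, ψ ∉ [trivIrr G, α₁, α₂, α₃, β, γ₁, γ₂] →
      11 ∣ charDegree (ψ : G → ℂ)) ∧
    (∀ x ∈ P, x ≠ 1 → (α₁ : G → ℂ) x = -1 ∧ (α₂ : G → ℂ) x = -1 ∧ (α₃ : G → ℂ) x = -1 ∧
      (β : G → ℂ) x = 1 ∧ (γ₁ : G → ℂ) x + (γ₂ : G → ℂ) x = -1) ∧
    (∀ g : G, (∀ h : G, h * g * h⁻¹ ∈ P → g = 1) →
      (γ₁ : G → ℂ) g = 1 - (α₁ : G → ℂ) g - (α₂ : G → ℂ) g - (α₃ : G → ℂ) g + (β : G → ℂ) g ∧
      (γ₂ : G → ℂ) g = (γ₁ : G → ℂ) g)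

/-- Pattern (II): the characters of degree prime to `11` are `1, α₁, α₂, β₁, β₂, γ₁, γ₂` of
degrees `1, 12, 12, 10, 10, 5, 5`. -/
def M11PatII (P : Subgroup G) : Prop :=
  ∃ α₁ α₂ β₁ β₂ γ₁ γ₂ : IrrCharacter G,
    [trivIrr G, α₁, α₂, β₁, β₂, γ₁, γ₂].Nodup ∧
    charDegree (α₁ : G → ℂ) = 12 ∧ charDegree (α₂ : G → ℂ) = 12 ∧
    charDegree (β₁ : G → ℂ) = 10 ∧ charDegree (β₂ : G → ℂ) = 10 ∧
    charDegree (γ₁ : G → ℂ) = 5 ∧ charDegree (γ₂ : G → ℂ) = 5 ∧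
    (∀ ψ : IrrCharacter G, ψ ∉ [trivIrr G, α₁, α₂, β₁, β₂, γ₁, γ₂] →
      11 ∣ charDegree (ψ : G → ℂ)) ∧
    (∀ x ∈ P, x ≠ 1 → (α₁ : G → ℂ) x = 1 ∧ (α₂ : G → ℂ) x = 1 ∧ (β₁ : G → ℂ) x = -1 ∧
      (β₂ : G → ℂ) x = -1 ∧ (γ₁ : G → ℂ) x + (γ₂ : G → ℂ) x = -1) ∧
    (∀ g : G, (∀ h : G, h * g * h⁻¹ ∈ P → g = 1) →
      (γ₁ : G → ℂ) g = 1 + (α₁ : G → ℂ) g + (α₂ : G → ℂ) g - (β₁ : G → ℂ) g - (β₂ : G → ℂ) g ∧
      (γ₂ : G → ℂ) g = (γ₁ : G → ℂ) g)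

/-- Pattern (III): there is an irreducible character of degree `2` with value `2` on `P`. -/
def M11PatIII (P : Subgroup G) : Prop :=
  ∃ ψ : IrrCharacter G, charDegree (ψ : G → ℂ) = 2 ∧ ∀ x ∈ P, x ≠ 1 → (ψ : G → ℂ) x = 2

end M11Defs

end Cfsg.Agent.Lib.helper21
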