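import Mathlib

/-!
# S4471 piece F4 (`proj_eq_of_commute`): Frobenius' lemma on commuting Hermitian idempotents.
-/

set_option autoImplicit false

namespace Cfsg.Agent.Lib.helper68.BL

open scoped ComplexConjugate Matrix ComplexOrder

/-- F4 (Frobenius' lemma): commuting Hermitian idempotents `E`, `E' = y E y⁻¹` are equal if no nonzero
`w ∈ im E` has `y w ∈ ker E`. -/
theorem proj_eq_of_commute {n : ℕ} (E E' y yi : Matrix (Fin n) (Fin n) ℂ) (hE : E * E = E)
    (hEh : Eᴴ = E) (hE'h : E'ᴴ = E') (hy : y * yi = 1) (hconj : E' = y * E * yi)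
    (hcomm : E * E' = E' * E)
    (hstar : ∀ w : Fin n → ℂ, E *ᵥ w = w → E *ᵥ (y *ᵥ w) = 0 → w = 0) : E' = E := by
  have hyi : yi * y = 1 := mul_eq_one_comm.1 hy
  have hE'2 : E' * E' = E' := by
    rw [hconj]
    calc y * E * yi * (y * E * yi) = y * E * (yi * y) * E * yi := by
          simp only [Matrix.mul_assoc]
      _ = y * E * yi := by rw [hyi, Matrix.mul_one, Matrix.mul_assoc y E E, hE]
  have hQ : (1 - E) * E' = 0 := by
    have hv : ∀ u : Fin n → ℂ, ((1 - E) * E') *ᵥ u = 0 := by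
      intro u
      obtain ⟨x, hx⟩ : ∃ x : Fin n → ℂ, x = ((1 - E) * E') *ᵥ u := ⟨_, rfl⟩
      rw [← hx]
      have hEx : E *ᵥ x = 0 := by
        rw [hx, Matrix.mulVec_mulVec, ← Matrix.mul_assoc, Matrix.mul_sub, Matrix.mul_one, hE,
          sub_self, Matrix.zero_mul, Matrix.zero_mulVec]
      have hE'x : E' *ᵥ x = x := by
        rw [hx, Matrix.mulVec_mulVec]
        congr 1
        rw [Matrix.sub_mul, Matrix.one_mul, Matrix.mul_sub, ← Matrix.mul_assoc E' E E', ← hcomm,
          Matrix.mul_assoc E E' E', hE'2]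
      have h1 : E *ᵥ (yi *ᵥ x) = yi *ᵥ x := by
        have h : yi *ᵥ (E' *ᵥ x) = yi *ᵥ x := by rw [hE'x]
        rw [hconj, Matrix.mulVec_mulVec, ← Matrix.mul_assoc, ← Matrix.mul_assoc, hyi,
          Matrix.one_mul, ← Matrix.mulVec_mulVec] at h
        exact h
      have h2 : E *ᵥ (y *ᵥ (yi *ᵥ x)) = 0 := by
        rw [Matrix.mulVec_mulVec x y yi, hy, Matrix.one_mulVec]
        exact hEx
      have hw := hstar (yi *ᵥ x) h1 h2
      have h3 : x = y *ᵥ (yi *ᵥ x) := by rw [Matrix.mulVec_mulVec, hy, Matrix.one_mulVec]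
      rw [h3, hw, Matrix.mulVec_zero]
    ext i j
    have h := congrFun (hv (Pi.single j 1)) i
    simpa using h
  have hE'E : E' = E * E' := by
    have h := hQ
    rw [Matrix.sub_mul, Matrix.one_mul, sub_eq_zero] at h
    exact h
  have hD2 : (E - E') * (E - E') = E - E' := by
    rw [Matrix.sub_mul, Matrix.mul_sub, Matrix.mul_sub, hE, hE'2, ← hcomm, ← hE'E]
    abel
  have hDh : (E - E')ᴴ = E - E' := by rw [Matrix.conjTranspose_sub, hEh, hE'h]
  have htr : (E - E').trace = 0 := by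
    rw [Matrix.trace_sub, hconj, Matrix.trace_mul_comm, ← Matrix.mul_assoc, hyi, Matrix.one_mul,
      sub_self]
  have hD0 : E - E' = 0 := by
    apply Matrix.trace_conjTranspose_mul_self_eq_zero_iff.1
    rw [hDh, hD2, htr]
  exact (sub_eq_zero.1 hD0).symm

end Cfsg.Agent.Lib.helper68.BL
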