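import Mathlib
import Cfsg.Agent.Lib.helper21.M11Defs

set_option autoImplicit false

/-!
# Definitions for the Brauer–Reynolds theorem S0999 (helper21)

`G` simple, `p ∣ |G|`, `|G| < p ^ 3`.  A Sylow `p`-subgroup `P` has order `p`; `C = C_G(P)`,
`N = N_G(P)`, `e = |N : C|`, `e t = p - 1`, `|C| = p v`, `|G : N| = 1 + n p`.

* `BRData P p e X Y εX ε`: the output of S4441 (principal block of defect one) in `Finset` form.
* `BRNum p P e t n v`: the numerical context in the case `n ≥ 2`.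
* `BRSelf p P e t X Y εX ε f₀`: the self-centralizing stage (`C_G(P) = P`, `n = t - 1`,
  `|G| = p (p - 1) (p - e)`), with the degrees of the members of `X` and `Y`.
-/

namespace Cfsg.Agent.Lib.helper21.BR

open Cfsg Cfsg.Agent.Lib.helper21

universe u

variable {G : Type u} [Group G] [Fintype G]

/-- The output of S4441 in `Finset` form: `X` (`e` characters, values `εX χ = ±1` on `x y`,
`x ∈ P^#`, `y ∈ C_G(P)` `p`-regular) and `Y` (`(p - 1) / e` characters, `ε θ = ∑_X εX χ χ` on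
`p`-regular elements); the trivial character lies in `X`. -/
structure BRData (P : Subgroup G) (p e : ℕ) (X Y : Finset (IrrCharacter G))
    (εX : IrrCharacter G → ℤ) (ε : ℤ) : Prop where
  disj : Disjoint X Y
  cardX : X.card = e
  cardY : Y.card * e = p - 1
  one_mem : trivIrr G ∈ X
  one_sgn : εX (trivIrr G) = 1
  sgnX : ∀ χ ∈ X, εX χ = 1 ∨ εX χ = -1
  degX : ∀ χ ∈ X, (p : ℤ) ∣ (charDegree (χ : G → ℂ) : ℤ) - εX χ
  valX : ∀ χ ∈ X, ∀ x ∈ P, x ≠ 1 → ∀ y ∈ Subgroup.centralizer (P : Set G), ¬ p ∣ orderOf y →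
    (χ : G → ℂ) (x * y) = (εX χ : ℂ)
  sgn : ε = 1 ∨ ε = -1
  degY : ∀ θ ∈ Y, (p : ℤ) ∣ (charDegree (θ : G → ℂ) : ℤ) - ε * e
  relY : ∀ θ ∈ Y, ∀ g : G, ¬ p ∣ orderOf g →
    (ε : ℂ) * (θ : G → ℂ) g = ∑ χ ∈ X, (εX χ : ℂ) * (χ : G → ℂ) g

/-- The numerical context (case `n ≥ 2`): `e = |N : C|`, `e t = p - 1`, `|C| = p v`,
`|G| = p e v (1 + n p)`, `e v n < p`. -/
structure BRNum (p : ℕ) [Fact p.Prime] (P : Sylow p G) (e t n v : ℕ) : Prop where
  simple : IsSimpleGroup G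
  noncyc : ¬ IsCyclic G
  cardP : Nat.card P = p
  relIdx : (Subgroup.centralizer ((P : Subgroup G) : Set G)).relIndex
      (Subgroup.normalizer ((P : Subgroup G) : Set G)) = e
  e_ge : 2 ≤ e
  et : e * t = p - 1
  t_ge : 2 ≤ t
  cardC : Nat.card (Subgroup.centralizer ((P : Subgroup G) : Set G)) = p * v
  cardG : Nat.card G = p * e * v * (1 + n * p)
  n_ge : 2 ≤ n
  small : e * v * n < p

/-- The self-centralizing stage: `C_G(P) = P`, `|N_G(P)| = p e`, `|G| = p (p - 1) (p - e)`,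
`t ≥ 3`; the members of `X` are `1`, characters of degree `1 + (t - 1) p` (sign `+1`) and of
degree `p - 1` (sign `-1`, at least one); the members of `Y` have degree `f₀`, which is `e`
(`ε = 1`) or `p - e` (`ε = -1`). -/
structure BRSelf (p : ℕ) [Fact p.Prime] (P : Sylow p G) (e t : ℕ)
    (X Y : Finset (IrrCharacter G)) (εX : IrrCharacter G → ℤ) (ε : ℤ) (f₀ : ℕ) : Prop where
  simple : IsSimpleGroup G
  noncyc : ¬ IsCyclic G
  cardP : Nat.card P = p
  data : BRData (P : Subgroup G) p e X Y εX ε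
  cardC : Nat.card (Subgroup.centralizer ((P : Subgroup G) : Set G)) = p
  cardN : Nat.card (Subgroup.normalizer ((P : Subgroup G) : Set G)) = p * e
  cardG : Nat.card G = p * (p - 1) * (p - e)
  e_ge : 2 ≤ e
  et : e * t = p - 1
  t_ge : 3 ≤ t
  degX : ∀ χ ∈ X, χ = trivIrr G ∨
      (εX χ = 1 ∧ charDegree (χ : G → ℂ) = 1 + (t - 1) * p) ∨
      (εX χ = -1 ∧ charDegree (χ : G → ℂ) = p - 1)
  minus : ∃ χ ∈ X, εX χ = -1
  degY : ∀ θ ∈ Y, charDegree (θ : G → ℂ) = f₀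
  fcases : (ε = 1 ∧ f₀ = e) ∨ (ε = -1 ∧ f₀ = p - e)

end Cfsg.Agent.Lib.helper21.BR
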