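import Mathlib
import Cfsg.Agent.Lib.helper16.U34CDefs

set_option autoImplicit false

namespace Cfsg.Agent.Lib.helper16.U34C

open Cfsg

/-- Adjoining an element `v` with `v ^ n ∈ closure S` that conjugates `S` into `closure S`
multiplies the order by at most `n`. -/
theorem helper21_step {H : Type*} [Group H] (S : Set H) (v : H) (n : ℕ) (hn : 0 < n)
    (hvn : v ^ n ∈ Subgroup.closure S)
    (hconj : ∀ s ∈ S, v * s * v⁻¹ ∈ Subgroup.closure S)
    (hfin : Finite (Subgroup.closure S)) :
    Finite (Subgroup.closure (insert v S)) ∧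
      Nat.card (Subgroup.closure (insert v S)) ≤ n * Nat.card (Subgroup.closure S) := by
  set K := Subgroup.closure S with hK
  -- conjugation by `v` preserves `K`
  have hconjK : ∀ k ∈ K, v * k * v⁻¹ ∈ K := by
    intro k hk
    induction hk using Subgroup.closure_induction with
    | mem s hs => exact hconj s hs
    | one => simp
    | mul a b _ _ iha ihb =>
      have : v * (a * b) * v⁻¹ = (v * a * v⁻¹) * (v * b * v⁻¹) := by group
      rw [this]; exact K.mul_mem iha ihb
    | inv a _ iha =>
      have : v * a⁻¹ * v⁻¹ = (v * a * v⁻¹)⁻¹ := by group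
      rw [this]; exact K.inv_mem iha
  let M : Set H := {g | ∃ k ∈ K, ∃ i : ℕ, i < n ∧ g = k * v ^ i}
  have hM1 : (1 : H) ∈ M := ⟨1, K.one_mem, 0, hn, by simp⟩
  have hMK : ∀ k0 ∈ K, ∀ y ∈ M, k0 * y ∈ M := by
    rintro k0 hk0 y ⟨k, hk, i, hi, rfl⟩
    exact ⟨k0 * k, K.mul_mem hk0 hk, i, hi, by group⟩
  have hMv : ∀ y ∈ M, v * y ∈ M := by
    rintro y ⟨k, hk, i, hi, rfl⟩
    by_cases h : i + 1 < n
    · exact ⟨v * k * v⁻¹, hconjK k hk, i + 1, h, by rw [pow_succ']; group⟩
    · have hi' : i + 1 = n := by omega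
      refine ⟨v * k * v⁻¹ * v ^ n, K.mul_mem (hconjK k hk) hvn, 0, hn, ?_⟩
      rw [← hi', pow_succ', pow_zero, mul_one]; group
  have hMvj : ∀ j : ℕ, ∀ y ∈ M, v ^ j * y ∈ M := by
    intro j
    induction j with
    | zero => intro y hy; simpa using hy
    | succ j ih =>
      intro y hy
      have : v ^ (j + 1) * y = v * (v ^ j * y) := by rw [pow_succ']; group
      rw [this]; exact hMv _ (ih y hy)
  have hMvinv : ∀ y ∈ M, v⁻¹ * y ∈ M := by
    intro y hy
    have h1 : (v ^ n)⁻¹ * y ∈ M := hMK _ (K.inv_mem hvn) y hy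
    have h2 := hMvj (n - 1) _ h1
    have e : v ^ (n - 1) * ((v ^ n)⁻¹ * y) = v⁻¹ * y := by
      obtain ⟨m, rfl⟩ : ∃ m, n = m + 1 := ⟨n - 1, by omega⟩
      rw [Nat.add_sub_cancel, pow_succ]; group
    rw [e] at h2; exact h2
  have hsub : ∀ g ∈ Subgroup.closure (insert v S), g ∈ M := by
    intro g hg
    induction hg using Subgroup.closure_induction_left with
    | one => exact hM1
    | mul_left x hx y _ ih =>
      rcases hx with rfl | hx
      · exact hMv y ih
      · exact hMK x (Subgroup.subset_closure hx) y ih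
    | inv_mul_cancel x hx y _ ih =>
      rcases hx with rfl | hx
      · exact hMvinv y ih
      · exact hMK x⁻¹ (K.inv_mem (Subgroup.subset_closure hx)) y ih
  let φ : K × Fin n → H := fun p => (p.1 : H) * v ^ (p.2 : ℕ)
  have hrange : ((Subgroup.closure (insert v S) : Subgroup H) : Set H) ⊆ Set.range φ := by
    intro g hg
    obtain ⟨k, hk, i, hi, rfl⟩ := hsub g hg
    exact ⟨(⟨k, hk⟩, ⟨i, hi⟩), rfl⟩
  have hfinr : (Set.range φ).Finite := Set.finite_range φ
  have hfinK' : ((Subgroup.closure (insert v S) : Subgroup H) : Set H).Finite :=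
    hfinr.subset hrange
  refine ⟨hfinK'.to_subtype, ?_⟩
  calc Nat.card (Subgroup.closure (insert v S))
      = ((Subgroup.closure (insert v S) : Subgroup H) : Set H).ncard :=
        Nat.card_coe_set_eq _
    _ ≤ (Set.range φ).ncard := Set.ncard_le_ncard hrange hfinr
    _ ≤ Nat.card (K × Fin n) := by
        rw [← Set.image_univ, ← Set.ncard_univ]
        exact Set.ncard_image_le Set.finite_univ
    _ = n * Nat.card K := by
        rw [Nat.card_prod, Nat.card_fin, mul_comm]

/-- `x y x⁻¹ = y c⁻¹` when `y x = x y c`, `c` central. -/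
theorem helper21_conj_of_comm {H : Type*} [Group H] (x y c : H) (hc : ∀ g : H, Commute c g)
    (h : y * x = x * y * c) : x * y * x⁻¹ = y * c⁻¹ := by
  calc x * y * x⁻¹ = (y * x * c⁻¹) * x⁻¹ := by rw [h]; group
    _ = y * (x * c⁻¹) * x⁻¹ := by group
    _ = y * (c⁻¹ * x) * x⁻¹ := by rw [(hc x).inv_left.eq]
    _ = y * c⁻¹ := by group

/-- conjugation fixes a central element -/
theorem helper21_conj_central {H : Type*} [Group H] (x c : H) (hc : ∀ g : H, Commute c g) :
    x * c * x⁻¹ = c := by
  rw [← (hc x).eq]; group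

/-- PIECE B2 (racing copy by helper21) -/
theorem helper21_card_le_of_gens {H : Type*} [Group H] (u0 u1 u2 u3 a b x : H)
    (h : Gens u0 u1 u2 u3 a b x)
    (hgen : Subgroup.closure {u0, u1, u2, u3, a, b, x} = ⊤) :
    Finite H ∧ Nat.card H ≤ 320 := by
  have hab : ∀ (S : Set H), a ∈ S → b ∈ S → a * b ∈ Subgroup.closure S := fun S ha hb =>
    (Subgroup.closure S).mul_mem (Subgroup.subset_closure ha) (Subgroup.subset_closure hb)
  have mem : ∀ (S : Set H) (g : H), g ∈ S → g ∈ Subgroup.closure S := fun S g hg =>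
    Subgroup.subset_closure hg
  have minv : ∀ (S : Set H) (g c : H), g ∈ S → c ∈ S → g * c⁻¹ ∈ Subgroup.closure S :=
    fun S g c hg hc => (Subgroup.closure S).mul_mem (Subgroup.subset_closure hg)
      ((Subgroup.closure S).inv_mem (Subgroup.subset_closure hc))
  -- step 0
  have f0 : Finite (Subgroup.closure (∅ : Set H)) ∧ Nat.card (Subgroup.closure (∅ : Set H)) ≤ 1 := by
    rw [Subgroup.closure_empty]
    exact ⟨inferInstance, by simp⟩
  -- step 1 : a
  have f1 := helper21_step (∅ : Set H) a 2 (by norm_num)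
    (by rw [h.a2]; exact Subgroup.one_mem _) (by intro s hs; exact absurd hs (Set.notMem_empty s)) f0.1
  -- step 2 : b
  have f2 := helper21_step ({a} : Set H) b 2 (by norm_num)
    (by rw [h.b2]; exact Subgroup.one_mem _)
    (by
      intro s hs
      rw [Set.mem_singleton_iff] at hs
      rw [hs, helper21_conj_central b a h.ac]
      exact mem _ _ (by simp)) (by simpa using f1.1)
  -- step 3 : u3
  have f3 := helper21_step ({b, a} : Set H) u3 2 (by norm_num)
    (by rw [h.sq3]; exact hab _ (by simp) (by simp))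
    (by
      intro s hs
      rcases hs with rfl | hs
      · rw [helper21_conj_central u3 s h.bc]; exact mem _ _ (by simp)
      · rw [Set.mem_singleton_iff] at hs
        rw [hs, helper21_conj_central u3 a h.ac]; exact mem _ _ (by simp)) f2.1
  -- step 4 : u2
  have f4 := helper21_step ({u3, b, a} : Set H) u2 2 (by norm_num)
    (by rw [h.sq2]; exact hab _ (by simp) (by simp))
    (by
      intro s hs
      rcases hs with rfl | rfl | hs
      · rw [helper21_conj_of_comm u2 s a h.ac h.c23]; exact minv _ _ _ (by simp) (by simp)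
      · rw [helper21_conj_central u2 s h.bc]; exact mem _ _ (by simp)
      · rw [Set.mem_singleton_iff] at hs
        rw [hs, helper21_conj_central u2 a h.ac]; exact mem _ _ (by simp)) f3.1
  -- step 5 : u1
  have f5 := helper21_step ({u2, u3, b, a} : Set H) u1 2 (by norm_num)
    (by rw [h.sq1]; exact hab _ (by simp) (by simp))
    (by
      intro s hs
      rcases hs with rfl | rfl | rfl | hs
      · rw [helper21_conj_of_comm u1 s a h.ac h.c12]; exact minv _ _ _ (by simp) (by simp)
      · rw [helper21_conj_of_comm u1 s b h.bc h.c13]; exact minv _ _ _ (by simp) (by simp)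
      · rw [helper21_conj_central u1 s h.bc]; exact mem _ _ (by simp)
      · rw [Set.mem_singleton_iff] at hs
        rw [hs, helper21_conj_central u1 a h.ac]; exact mem _ _ (by simp)) f4.1
  -- step 6 : u0
  have f6 := helper21_step ({u1, u2, u3, b, a} : Set H) u0 2 (by norm_num)
    (by rw [h.sq0]; exact hab _ (by simp) (by simp))
    (by
      intro s hs
      rcases hs with rfl | rfl | rfl | rfl | hs
      · rw [helper21_conj_of_comm u0 s a h.ac h.c01]; exact minv _ _ _ (by simp) (by simp)
      · rw [helper21_conj_of_comm u0 s b h.bc h.c02]; exact minv _ _ _ (by simp) (by simp)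
      · rw [helper21_conj_of_comm u0 s b h.bc h.c03]; exact minv _ _ _ (by simp) (by simp)
      · rw [helper21_conj_central u0 s h.bc]; exact mem _ _ (by simp)
      · rw [Set.mem_singleton_iff] at hs
        rw [hs, helper21_conj_central u0 a h.ac]; exact mem _ _ (by simp)) f5.1
  -- step 7 : x
  have f7 := helper21_step ({u0, u1, u2, u3, b, a} : Set H) x 5 (by norm_num)
    (by rw [h.x5]; exact Subgroup.one_mem _)
    (by
      intro s hs
      rcases hs with rfl | rfl | rfl | rfl | rfl | hs
      · rw [h.x0]; exact mem _ _ (by simp)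
      · rw [h.x1]; exact mem _ _ (by simp)
      · rw [h.x2]; exact mem _ _ (by simp)
      · rw [h.x3]
        apply Subgroup.inv_mem
        exact Subgroup.mul_mem _ (Subgroup.mul_mem _ (Subgroup.mul_mem _ (mem _ _ (by simp))
          (mem _ _ (by simp))) (mem _ _ (by simp))) (mem _ _ (by simp))
      · rw [helper21_conj_central x s h.bc]; exact mem _ _ (by simp)
      · rw [Set.mem_singleton_iff] at hs
        rw [hs, helper21_conj_central x a h.ac]; exact mem _ _ (by simp)) f6.1
  have htop : Subgroup.closure ({x, u0, u1, u2, u3, b, a} : Set H) = ⊤ := by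
    rw [eq_top_iff, ← hgen]
    apply Subgroup.closure_mono
    intro g hg
    simp only [Set.mem_insert_iff, Set.mem_singleton_iff] at hg ⊢
    tauto
  rw [htop] at f7
  have hfinH : Finite H := by
    have := f7.1
    exact Finite.of_equiv _ (Subgroup.topEquiv (G := H)).toEquiv
  refine ⟨hfinH, ?_⟩
  have c1 := f1.2
  have c2 := f2.2
  have c3 := f3.2
  have c4 := f4.2
  have c5 := f5.2
  have c6 := f6.2
  have c7 := f7.2
  have c0 := f0.2
  rw [Subgroup.card_top] at c7
  have e1 : (insert a (∅ : Set H)) = {a} := by simp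
  rw [e1] at c1
  omega

end Cfsg.Agent.Lib.helper16.U34C
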