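import Mathlib

set_option autoImplicit false

namespace Cfsg.Agent.Lib.helper21

open Subgroup

/-- In a subgroup of prime order `p`, every nontrivial element has order `p`. -/
theorem orderOf_eq_prime_of_mem_of_card {G : Type*} [Group G] {p : ℕ} (hp : p.Prime)
    (Q : Subgroup G) (hQ : Nat.card Q = p) (w : G) (hw : w ∈ Q) (hw1 : w ≠ 1) :
    orderOf w = p := by
  have : Finite Q := Nat.finite_of_card_ne_zero (by rw [hQ]; exact hp.ne_zero)
  have h1 : orderOf (⟨w, hw⟩ : Q) ∣ p := hQ ▸ orderOf_dvd_natCard _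
  rw [Subgroup.orderOf_mk] at h1
  rcases (Nat.dvd_prime hp).mp h1 with h | h
  · exact absurd (orderOf_eq_one_iff.mp h) hw1
  · exact h

/-- If the Sylow `p`-subgroups of a finite group have order `p`, then the number of elements of
order `p` is `p - 1` times the number of Sylow `p`-subgroups. -/
theorem card_orderOf_eq_prime_of_sylow_card {G : Type*} [Group G] [Finite G] {p : ℕ}
    [Fact p.Prime] (hcardSyl : ∀ Q : Sylow p G, Nat.card (Q : Subgroup G) = p) :
    Nat.card {g : G // orderOf g = p} = Nat.card (Sylow p G) * (p - 1) := by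
  classical
  have hp : p.Prime := Fact.out
  let φ : (Σ Q : Sylow p G, {g : G // g ∈ (Q : Subgroup G) ∧ g ≠ 1}) → {g : G // orderOf g = p} :=
    fun x => ⟨x.2.1, orderOf_eq_prime_of_mem_of_card hp (x.1 : Subgroup G) (hcardSyl x.1)
      x.2.1 x.2.2.1 x.2.2.2⟩
  have hφ : Function.Bijective φ := by
    constructor
    · rintro ⟨Q, g, hgQ, hg1⟩ ⟨Q', g', hgQ', hg1'⟩ h
      have hgg : g = g' := congrArg Subtype.val h
      subst hgg
      have hQQ : Q = Q' := by
        have hord := orderOf_eq_prime_of_mem_of_card hp (Q : Subgroup G) (hcardSyl Q) g hgQ hg1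
        have h1 : zpowers g = (Q : Subgroup G) :=
          Subgroup.eq_of_le_of_card_ge ((zpowers_le).mpr hgQ)
            (by rw [hcardSyl Q, Nat.card_zpowers, hord])
        have h2 : zpowers g = (Q' : Subgroup G) :=
          Subgroup.eq_of_le_of_card_ge ((zpowers_le).mpr hgQ')
            (by rw [hcardSyl Q', Nat.card_zpowers, hord])
        exact Sylow.ext (h1.symm.trans h2)
      subst hQQ
      rfl
    · rintro ⟨g, hg⟩
      have hgp : IsPGroup p (zpowers g) :=
        IsPGroup.of_card (n := 1) (by rw [Nat.card_zpowers, hg, pow_one])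
      obtain ⟨Q, hQ⟩ := hgp.exists_le_sylow
      refine ⟨⟨Q, g, hQ (mem_zpowers g), ?_⟩, rfl⟩
      rintro rfl
      rw [orderOf_one] at hg
      exact hp.one_lt.ne hg
  have hcardfib : ∀ Q : Sylow p G, Nat.card {g : G // g ∈ (Q : Subgroup G) ∧ g ≠ 1} = p - 1 := by
    intro Q
    have h1 : Nat.card {g : G // g ∈ (Q : Subgroup G) ∧ g ≠ 1}
        = (((Q : Subgroup G) : Set G) \ {1}).ncard := rfl
    rw [h1, Set.ncard_sdiff_singleton_of_mem (one_mem _)]
    have h2 : (((Q : Subgroup G) : Set G)).ncard = Nat.card (Q : Subgroup G) := rfl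
    rw [h2, hcardSyl Q]
  have : Fintype (Sylow p G) := Fintype.ofFinite _
  rw [← Nat.card_congr (Equiv.ofBijective φ hφ), Nat.card_sigma,
    Finset.sum_congr rfl (fun Q _ => hcardfib Q), Finset.sum_const, Finset.card_univ,
    smul_eq_mul, ← Nat.card_eq_fintype_card]

end Cfsg.Agent.Lib.helper21
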