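import Mathlib
import Cfsg.Prelude.Def_Characters
import Cfsg.Prelude.Def_Blocks
import Cfsg.Agent.Lib.helper84.BrDefs
import Cfsg.Agent.Lib.helper20.D1EE1
import Cfsg.Agent.Lib.helper82.BFA1

/-!
# S0997 piece PBKER (helper21, insurance copy): a character of degree `< p` in the principal
`p`-block is trivial on the `p`-regular elements of `C_G(P)` (`|P| = p`)
-/

set_option autoImplicit false

namespace Cfsg.Agent.Lib.helper21.BU

open Cfsg Cfsg.Agent.Lib.helper81 Cfsg.Agent.Lib.helper84.Br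
open Cfsg.Agent.Lib.helper20.D1E Cfsg.Agent.Lib.helper2.BF
open scoped ComplexConjugate

universe u

/-- Orthogonality of the characters of `ZMod p`. -/
theorem h21_zeta_orth (p : ℕ) [Fact p.Prime] (b b₀ : ZMod p) :
    ∑ i ∈ Finset.range p, zeta p ^ (b.val * i) * (zeta p ^ (b₀.val * i))⁻¹ =
      if b = b₀ then (p : ℂ) else 0 := by
  have hp : p.Prime := Fact.out
  have hz := Cfsg.Agent.Lib.helper83.D1E.zeta_prim p
  have hz0 : zeta p ≠ 0 := Cfsg.Agent.Lib.helper83.D1E.zeta_ne_zero p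
  have hzp : zeta p ^ p = 1 := Cfsg.Agent.Lib.helper83.D1E.zeta_pow_p p
  set w : ℂ := zeta p ^ b.val * (zeta p ^ b₀.val)⁻¹ with hw
  have h1 : ∀ i : ℕ, zeta p ^ (b.val * i) * (zeta p ^ (b₀.val * i))⁻¹ = w ^ i := by
    intro i
    rw [hw, mul_pow, inv_pow, ← pow_mul, ← pow_mul]
  rw [Finset.sum_congr rfl (fun i _ => h1 i)]
  split_ifs with hb
  · have hw1 : w = 1 := by
      rw [hw, hb]
      exact mul_inv_cancel₀ (pow_ne_zero _ hz0)
    rw [hw1]
    simp
  · have hw1 : w ≠ 1 := by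
      intro h
      apply hb
      have h2 : zeta p ^ b.val = zeta p ^ b₀.val := by
        have h3 : w * zeta p ^ b₀.val = zeta p ^ b₀.val := by rw [h, one_mul]
        rw [hw, mul_assoc, inv_mul_cancel₀ (pow_ne_zero _ hz0), mul_one] at h3
        exact h3
      have h3 : b.val = b₀.val := hz.pow_inj (ZMod.val_lt b) (ZMod.val_lt b₀) h2
      exact ZMod.val_injective p h3
    have hwp : w ^ p = 1 := by
      rw [hw, mul_pow, inv_pow, ← pow_mul, ← pow_mul, mul_comm b.val, mul_comm b₀.val, pow_mul,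
        pow_mul, hzp, one_pow, one_pow, inv_one, mul_one]
    rw [geom_sum_eq hw1, hwp, sub_self, zero_div]

section pieces

variable {G : Type u} [Group G] [Fintype G]
variable {p : ℕ} [Fact p.Prime] {P : Sylow p G}

/-- PBKER : a character of degree `< p` in the principal block is trivial on the `p`-regular
elements of `C_G(P)` (`|P| = p`). -/
theorem pb_ker (M : Ideal AlgInt) (hM : IsPModular p M) (hP : Nat.card P = p)
    (θ : IrrCharacter G) (hθ : θ ∈ principalBlock M G) (hdeg : charDegree (θ : G → ℂ) < p)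
    (y : G) (hy : y ∈ Subgroup.centralizer ((P : Subgroup G) : Set G))
    (hpy : ¬ p ∣ orderOf y) : (θ : G → ℂ) y = (θ : G → ℂ) 1 := by
  classical
  have hp : p.Prime := Fact.out
  have hpc : (p : ℂ) ≠ 0 := by exact_mod_cast hp.ne_zero
  -- a generator `x` of `P`
  obtain ⟨x, hxP, hx1⟩ : ∃ x : G, x ∈ (P : Subgroup G) ∧ x ≠ 1 := by
    by_contra hcon
    push Not at hcon
    have hbot : (P : Subgroup G) = ⊥ := by
      rw [Subgroup.eq_bot_iff_forall]
      exact hcon
    have : Nat.card (P : Subgroup G) = 1 := by rw [hbot]; exact Subgroup.card_bot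
    have h2 := hp.two_le
    have h3 : Nat.card P = Nat.card (P : Subgroup G) := rfl
    omega
  have hxp : x ^ p = 1 := by
    have h : (⟨x, hxP⟩ : (P : Subgroup G)) ^ Nat.card (P : Subgroup G) = 1 := pow_card_eq_one'
    have h3 : Nat.card (P : Subgroup G) = p := hP
    rw [h3] at h
    have h4 := congrArg Subtype.val h
    simpa using h4
  have hord : orderOf x = p := by
    have h1 : orderOf x ∣ p := orderOf_dvd_of_pow_eq_one hxp
    rcases (Nat.dvd_prime hp).mp h1 with h | h
    · exact absurd (orderOf_eq_one_iff.mp h) hx1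
    · exact h
  have hcomm : Commute x y := by
    rw [Subgroup.mem_centralizer_iff] at hy
    exact hy x hxP
  have hχ := irr_isCharacter θ
  -- multiplicities
  have hnat := fun b : ZMod p => mu_nat p x hxp (θ : G → ℂ) hχ b
  choose d hd using hnat
  have hsum : ∑ b : ZMod p, d b = charDegree (θ : G → ℂ) := by
    have h := mu_expand p x hxp (θ : G → ℂ) 0
    simp only [Nat.mul_zero, pow_zero, mul_one] at h
    rw [irr_one_eq_charDegree θ] at h
    have h2 : ((∑ b : ZMod p, d b : ℕ) : ℂ) = (charDegree (θ : G → ℂ) : ℂ) := by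
      rw [h]
      push_cast
      exact Finset.sum_congr rfl (fun b _ => (hd b).symm)
    exact_mod_cast h2
  obtain ⟨b₀, hb₀⟩ : ∃ b₀ : ZMod p, d b₀ = 0 := by
    by_contra hcon
    push Not at hcon
    have h1 : ∑ _b : ZMod p, 1 ≤ ∑ b : ZMod p, d b :=
      Finset.sum_le_sum (fun b _ => Nat.one_le_iff_ne_zero.mpr (hcon b))
    have h2 : ∑ _b : ZMod p, 1 = p := by
      rw [Finset.sum_const, Finset.card_univ, ZMod.card, smul_eq_mul, mul_one]
    omega
  have hmu0 : mu p x (θ : G → ℂ) b₀ = 0 := by rw [hd b₀, hb₀]; simp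
  obtain ⟨τ, hτ0, hτ⟩ := mu_twist p x hxp (θ : G → ℂ) hχ y hcomm
  have hτb : τ b₀ = 0 := hτ0 b₀ hmu0
  -- the difference
  set F : ℕ → ℂ := fun i => (θ : G → ℂ) (x ^ i * y) - (θ : G → ℂ) (x ^ i) with hF
  have hFexp : ∀ i : ℕ, F i = ∑ b : ZMod p, (τ b - mu p x (θ : G → ℂ) b) * zeta p ^ (b.val * i) := by
    intro i
    simp only [hF]
    rw [hτ i, mu_expand p x hxp (θ : G → ℂ) i, ← Finset.sum_sub_distrib]
    exact Finset.sum_congr rfl (fun b _ => by ring)
  have hFzero : ∀ i ∈ Finset.range p, i ≠ 0 → F i = 0 := by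
    intro i hi hi0
    have hxi : x ^ i ∈ (P : Subgroup G) := Subgroup.pow_mem _ hxP i
    have hxi1 : x ^ i ≠ 1 := by
      apply pow_ne_one_of_lt_orderOf hi0
      rw [hord]
      exact Finset.mem_range.mp hi
    have h := ((principal_iff p M hM P hP (x ^ i) hxi hxi1 θ).mp hθ).2 y hy hpy
    simp only [hF]
    rw [h, sub_self]
  -- evaluate `∑_i F i ζ^{-b₀ i}` in two ways
  have hA : ∑ i ∈ Finset.range p, F i * (zeta p ^ (b₀.val * i))⁻¹ = F 0 := by
    rw [Finset.sum_eq_single_of_mem 0 (Finset.mem_range.mpr hp.pos)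
      (fun i hi hi0 => by rw [hFzero i hi hi0, zero_mul])]
    simp
  have hB : ∑ i ∈ Finset.range p, F i * (zeta p ^ (b₀.val * i))⁻¹ = 0 := by
    have h1 : ∀ i ∈ Finset.range p, F i * (zeta p ^ (b₀.val * i))⁻¹ =
        ∑ b : ZMod p, (τ b - mu p x (θ : G → ℂ) b) *
          (zeta p ^ (b.val * i) * (zeta p ^ (b₀.val * i))⁻¹) := by
      intro i _
      rw [hFexp i, Finset.sum_mul]
      exact Finset.sum_congr rfl (fun b _ => by ring)
    rw [Finset.sum_congr rfl h1, Finset.sum_comm]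
    have h2 : ∀ b : ZMod p, ∑ i ∈ Finset.range p, (τ b - mu p x (θ : G → ℂ) b) *
          (zeta p ^ (b.val * i) * (zeta p ^ (b₀.val * i))⁻¹) =
        (τ b - mu p x (θ : G → ℂ) b) * (if b = b₀ then (p : ℂ) else 0) := by
      intro b
      rw [← Finset.mul_sum, h21_zeta_orth p b b₀]
    rw [Finset.sum_congr rfl (fun b _ => h2 b)]
    rw [Finset.sum_eq_single_of_mem b₀ (Finset.mem_univ _)
      (fun b _ hb => by rw [if_neg hb, mul_zero])]
    rw [hτb, hmu0, sub_zero, zero_mul]
  have hF0 : F 0 = 0 := by rw [← hA, hB]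
  simp only [hF, pow_zero, one_mul] at hF0
  exact sub_eq_zero.mp hF0

end pieces

end Cfsg.Agent.Lib.helper21.BU
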