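import Mathlib
import Cfsg.Prelude.Def_Characters
import Cfsg.Prelude.Def_Blocks
import Cfsg.Agent.Lib.helper83.CharBasic2
import Cfsg.Agent.Lib.helper82.CharQuot
import Cfsg.Agent.Lib.helper84.LinTwist
import Cfsg.Agent.Lib.helper19.Extraspecial
import Cfsg.Agent.Lib.helper3.PGroupNormal

set_option autoImplicit false
set_option linter.unusedSectionVars false

/-!
# Groups whose same-degree nonlinear irreducible characters are Galois conjugate

General lemmas: Galois conjugate characters have the same kernel, characters separate elements,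
existence of nonlinear characters of nonabelian quotients, characters vanishing off the centre,
cyclic centre from a faithful irreducible character.
-/

namespace Cfsg.Agent.Lib.helper21

open Cfsg
open Cfsg.Agent.Lib.helper83 Cfsg.Agent.Lib.helper82 Cfsg.Agent.Lib.helper84
open scoped ComplexConjugate commutatorElement

universe u

/-- Any two nonlinear irreducible characters of the same degree are Galois conjugate. -/
def GalConjProp (G : Type u) [Group G] : Prop :=
  ∀ χ ψ : IrrCharacter G, charDegree (χ : G → ℂ) ≠ 1 →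
    charDegree (χ : G → ℂ) = charDegree (ψ : G → ℂ) →
    ∃ k : ℕ, Nat.Coprime k (Nat.card G) ∧ ∀ g : G, (ψ : G → ℂ) g = (χ : G → ℂ) (g ^ k)

variable {G : Type u} [Group G] [Finite G]

/-- Galois-conjugate characters have the same kernel. -/
theorem galConj_ker (χ ψ : IrrCharacter G) (k : ℕ) (hk : Nat.Coprime k (Nat.card G))
    (h : ∀ g : G, (ψ : G → ℂ) g = (χ : G → ℂ) (g ^ k)) (g : G) :
    (ψ : G → ℂ) g = (ψ : G → ℂ) 1 ↔ (χ : G → ℂ) g = (χ : G → ℂ) 1 := by
  obtain ⟨K, hKn, hK⟩ := exists_ker_of_isCharacter (isCharacter_of_irr χ.2)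
  have h1 : (ψ : G → ℂ) 1 = (χ : G → ℂ) 1 := by rw [h 1, one_pow]
  rw [h1, h g, ← hK, ← hK]
  constructor
  · intro hg
    have hco : Nat.Coprime k (orderOf g) := hk.coprime_dvd_right (orderOf_dvd_natCard g)
    obtain ⟨m, hm⟩ := exists_pow_eq_self_of_coprime hco
    rw [← hm]
    exact K.pow_mem hg m
  · intro hg
    exact K.pow_mem hg k

/-- A linear irreducible character has degree one and conversely. -/
theorem charDegree_eq_one_iff (χ : IrrCharacter G) :
    charDegree (χ : G → ℂ) = 1 ↔ (χ : G → ℂ) 1 = 1 := by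
  rw [irr_one_eq_charDegree]
  exact Nat.cast_eq_one.symm

/-- Under the Galois conjugacy property the kernel of a nonlinear irreducible character lies in
the commutator subgroup. -/
theorem GalConjProp.ker_le_commutator (hGC : GalConjProp G) (χ : IrrCharacter G)
    (hχ : charDegree (χ : G → ℂ) ≠ 1) (g : G) (hg : (χ : G → ℂ) g = (χ : G → ℂ) 1) :
    g ∈ commutator G := by
  by_contra hgc
  have hne : (QuotientGroup.mk g : G ⧸ commutator G) ≠ 1 := by
    rwa [Ne, QuotientGroup.eq_one_iff]
  obtain ⟨φ, hφ⟩ := exists_hom_apply_ne_one (G := G ⧸ commutator G) quot_commutator_comm hne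
  let lam : G →* ℂˣ := φ.comp (QuotientGroup.mk' (commutator G))
  let ψ : IrrCharacter G := lam • χ
  have hψ : ∀ x, (ψ : G → ℂ) x = ((lam x : ℂˣ) : ℂ) * (χ : G → ℂ) x := linChar_smul_apply lam χ
  have hdeg : charDegree (χ : G → ℂ) = charDegree (ψ : G → ℂ) := by
    unfold charDegree
    rw [hψ, map_one, Units.val_one, one_mul]
  obtain ⟨k, hk, hkψ⟩ := hGC χ ψ hχ hdeg
  have h1 := (galConj_ker χ ψ k hk hkψ g).mpr hg
  rw [hψ, hψ, map_one, Units.val_one, one_mul, hg] at h1
  have h10 := irr_one_ne_zero χ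
  have h2 : ((lam g : ℂˣ) : ℂ) = 1 := by
    have : ((lam g : ℂˣ) : ℂ) * (χ : G → ℂ) 1 = 1 * (χ : G → ℂ) 1 := by rw [h1, one_mul]
    exact mul_right_cancel₀ h10 this
  exact hφ (Units.val_eq_one.mp h2)

/-- Irreducible characters separate the identity from the other elements. -/
theorem exists_irr_ne_of_ne_one {g : G} (hg : g ≠ 1) :
    ∃ χ : IrrCharacter G, (χ : G → ℂ) g ≠ (χ : G → ℂ) 1 := by
  classical
  have : Fintype G := Fintype.ofFinite G
  have : Fintype (IrrCharacter G) := Fintype.ofFinite _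
  by_contra hcon
  push Not at hcon
  have hnc : ¬ IsConj g 1 := fun h => hg (isConj_one_left.mp h)
  have h2 := second_orthogonality_of_not_isConj (G := G) hnc
  have h3 : ∑ χ : IrrCharacter G, (χ : G → ℂ) g * conj ((χ : G → ℂ) 1) = (Nat.card G : ℂ) := by
    rw [← sum_irr_one_sq (G := G)]
    apply Finset.sum_congr rfl
    intro χ _
    rw [hcon χ, irr_one_eq_charDegree, Complex.conj_natCast]
  rw [h3] at h2
  exact (by exact_mod_cast Nat.card_pos.ne' : (Nat.card G : ℂ) ≠ 0) h2

/-- If `G ⧸ N` is not abelian, there is a nonlinear irreducible character of `G` with `N` in its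
kernel. -/
theorem exists_nonlinear_of_not_le (N : Subgroup G) [N.Normal] (h : ¬ commutator G ≤ N) :
    ∃ χ : IrrCharacter G, charDegree (χ : G → ℂ) ≠ 1 ∧
      ∀ n ∈ N, (χ : G → ℂ) n = (χ : G → ℂ) 1 := by
  have hex : ∃ ψ : IrrCharacter (G ⧸ N), (ψ : G ⧸ N → ℂ) 1 ≠ 1 := by
    by_contra hcon
    push Not at hcon
    apply h
    rw [← Subgroup.Normal.quotient_commutative_iff_commutator_le, isMulCommutative_iff]
    intro a b
    by_contra hab
    have hne : ⁅a, b⁆ ≠ 1 := fun h1 => hab (commutatorElement_eq_one_iff_mul_comm.mp h1)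
    obtain ⟨ψ, hψ⟩ := exists_irr_ne_of_ne_one hne
    apply hψ
    apply (irr_linear_iff ψ.2).mp (hcon ψ)
    rw [commutator_def]
    exact Subgroup.commutator_mem_commutator (Subgroup.mem_top a) (Subgroup.mem_top b)
  obtain ⟨ψ, hψ⟩ := hex
  refine ⟨⟨_, isIrrCharacter_inflation N ψ.2⟩, ?_, ?_⟩
  · intro h1
    apply hψ
    have h2 : charDegree (ψ : G ⧸ N → ℂ) = 1 := h1
    exact (charDegree_eq_one_iff ψ).mp h2
  · intro n hn
    show (ψ : G ⧸ N → ℂ) (n : G ⧸ N) = (ψ : G ⧸ N → ℂ) ((1 : G) : G ⧸ N)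
    rw [(QuotientGroup.eq_one_iff n).mpr hn]
    rfl

/-- If the commutator subgroup is central and `χ` is faithful on it, `χ` vanishes off the
centre. -/
theorem irr_vanish_off_center (hDZ : commutator G ≤ Subgroup.center G) (χ : IrrCharacter G)
    (hfaith : ∀ x ∈ commutator G, (χ : G → ℂ) x = (χ : G → ℂ) 1 → x = 1) (x : G)
    (hx : x ∉ Subgroup.center G) : (χ : G → ℂ) x = 0 := by
  rw [Subgroup.mem_center_iff] at hx
  push Not at hx
  obtain ⟨y, hy⟩ := hx
  set z := x⁻¹ * y⁻¹ * x * y with hzdef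
  have hzD : z ∈ commutator G := by
    have := Subgroup.commutator_mem_commutator (Subgroup.mem_top x⁻¹) (Subgroup.mem_top y⁻¹)
    rw [commutatorElement_def] at this
    simpa [hzdef, commutator] using this
  have hz1 : z ≠ 1 := by
    intro h
    apply hy
    have h2 : x * y = y * x * z := by rw [hzdef]; group
    rw [h2, h, mul_one]
  obtain ⟨c, hc⟩ := Cfsg.Agent.Lib.helper19.irr_mul_center χ z (hDZ hzD)
  have hc1 : c ≠ 1 := by
    intro h
    apply hz1
    apply hfaith z hzD
    have := hc 1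
    rw [one_mul, h, one_mul] at this
    exact this
  have h1 := hc x
  have h2 : x * z = y⁻¹ * x * y⁻¹⁻¹ := by rw [hzdef]; group
  rw [h2, irr_conj] at h1
  have h3 : (1 - c) * (χ : G → ℂ) x = 0 := by rw [sub_mul, one_mul, ← h1, sub_self]
  rcases mul_eq_zero.mp h3 with h4 | h4
  · exact absurd (sub_eq_zero.mp h4).symm hc1
  · exact h4

/-- An irreducible character vanishing off the centre has `χ(1)² |Z(G)| = |G|`. -/
theorem irr_degree_sq_of_vanish (χ : IrrCharacter G)
    (hvan : ∀ x : G, x ∉ Subgroup.center G → (χ : G → ℂ) x = 0) :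
    charDegree (χ : G → ℂ) ^ 2 * Nat.card (Subgroup.center G) = Nat.card G := by
  classical
  have : Fintype G := Fintype.ofFinite G
  have h10 := irr_one_ne_zero χ
  have hcen : ∀ z ∈ Subgroup.center G,
      (χ : G → ℂ) z * (χ : G → ℂ) z⁻¹ = (χ : G → ℂ) 1 * (χ : G → ℂ) 1 := by
    intro z hz
    obtain ⟨c, hc⟩ := Cfsg.Agent.Lib.helper19.irr_mul_center χ z hz
    obtain ⟨c', hc'⟩ := Cfsg.Agent.Lib.helper19.irr_mul_center χ z⁻¹ (Subgroup.inv_mem _ hz)
    have h1 := hc 1
    rw [one_mul] at h1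
    have h2 := hc' 1
    rw [one_mul] at h2
    have h3 := hc' z
    rw [mul_inv_cancel, h1] at h3
    have h4 : c' * c = 1 := by
      have : (c' * c) * (χ : G → ℂ) 1 = 1 * (χ : G → ℂ) 1 := by rw [one_mul, mul_assoc, ← h3]
      exact mul_right_cancel₀ h10 this
    rw [h1, h2]
    calc c * (χ : G → ℂ) 1 * (c' * (χ : G → ℂ) 1)
        = (c' * c) * ((χ : G → ℂ) 1 * (χ : G → ℂ) 1) := by ring
      _ = (χ : G → ℂ) 1 * (χ : G → ℂ) 1 := by rw [h4, one_mul]
  have horth := irr_orthogonality χ χ
  rw [if_pos rfl] at horth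
  have hsum : ∑ g : G, (χ : G → ℂ) g * (χ : G → ℂ) g⁻¹
      = (Nat.card (Subgroup.center G) : ℂ) * ((χ : G → ℂ) 1 * (χ : G → ℂ) 1) := by
    have hterm : ∀ g : G, (χ : G → ℂ) g * (χ : G → ℂ) g⁻¹
        = if g ∈ Subgroup.center G then (χ : G → ℂ) 1 * (χ : G → ℂ) 1 else 0 := by
      intro g
      by_cases hg : g ∈ Subgroup.center G
      · rw [if_pos hg, hcen g hg]
      · rw [if_neg hg, hvan g hg, zero_mul]
    rw [Finset.sum_congr rfl (fun g _ => hterm g), Finset.sum_ite, Finset.sum_const_zero, add_zero,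
      Finset.sum_const, nsmul_eq_mul]
    congr 2
    rw [Nat.card_eq_fintype_card, Fintype.card_subtype]
  rw [hsum] at horth
  have hcP : (Nat.card G : ℂ) ≠ 0 := by exact_mod_cast Nat.card_pos.ne'
  have h5 : (Nat.card (Subgroup.center G) : ℂ) * ((χ : G → ℂ) 1 * (χ : G → ℂ) 1)
      = (Nat.card G : ℂ) := by
    field_simp at horth
    rw [← horth]; ring
  rw [irr_one_eq_charDegree] at h5
  have h6 : ((charDegree (χ : G → ℂ) ^ 2 * Nat.card (Subgroup.center G) : ℕ) : ℂ)
      = (Nat.card G : ℂ) := by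
    push_cast; rw [← h5]; ring
  exact_mod_cast h6

/-- A faithful irreducible character forces a cyclic centre. -/
theorem isCyclic_center_of_faithful_irr (χ : IrrCharacter G)
    (hfaith : ∀ g : G, (χ : G → ℂ) g = (χ : G → ℂ) 1 → g = 1) :
    IsCyclic (Subgroup.center G) := by
  have h10 := irr_one_ne_zero χ
  have hmul : ∀ z ∈ Subgroup.center G, ∀ g : G,
      (χ : G → ℂ) (g * z) = (χ : G → ℂ) z / (χ : G → ℂ) 1 * (χ : G → ℂ) g := by
    intro z hz g
    obtain ⟨c, hc⟩ := Cfsg.Agent.Lib.helper19.irr_mul_center χ z hz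
    have h1 := hc 1
    rw [one_mul] at h1
    rw [hc g, h1]
    field_simp
  let f : Subgroup.center G →* ℂ :=
    { toFun := fun z => (χ : G → ℂ) z / (χ : G → ℂ) 1
      map_one' := by
        show (χ : G → ℂ) ((1 : Subgroup.center G) : G) / (χ : G → ℂ) 1 = 1
        rw [Subgroup.coe_one, div_self h10]
      map_mul' := by
        intro a b
        show (χ : G → ℂ) ((a : G) * (b : G)) / (χ : G → ℂ) 1 = _
        rw [hmul b b.2 a]
        field_simp }
  have hf : Function.Injective f := by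
    intro a b hab
    have h1 : f (a⁻¹ * b) = 1 := by rw [map_mul, ← hab, ← map_mul, inv_mul_cancel, map_one]
    have h2 : (χ : G → ℂ) ((a⁻¹ * b : Subgroup.center G) : G) = (χ : G → ℂ) 1 := by
      have : (χ : G → ℂ) ((a⁻¹ * b : Subgroup.center G) : G) / (χ : G → ℂ) 1 = 1 := h1
      rwa [div_eq_one_iff_eq h10] at this
    have h3 := hfaith _ h2
    have h4 : a⁻¹ * b = 1 := Subtype.ext h3
    exact inv_mul_eq_one.mp h4
  exact isCyclic_of_injective_ringHom f hf

/-- A subgroup of prime order is generated by any of its nonidentity elements. -/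
theorem mem_zpowers_of_card_prime {p : ℕ} (hp : p.Prime) {H : Subgroup G} (hH : Nat.card H = p)
    {z : G} (hz : z ∈ H) (hz1 : z ≠ 1) : H = Subgroup.zpowers z := by
  have hle : Subgroup.zpowers z ≤ H := (Subgroup.zpowers_le).mpr hz
  symm
  apply Subgroup.eq_of_le_of_card_ge hle
  have hdvd : Nat.card (Subgroup.zpowers z) ∣ p := by
    rw [← hH]; exact Subgroup.card_dvd_of_le hle
  rcases (Nat.dvd_prime hp).mp hdvd with h1 | h1
  · exfalso
    apply hz1
    have := Subgroup.card_eq_one.mp h1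
    rw [Subgroup.zpowers_eq_bot] at this
    exact this
  · rw [hH, h1]

/-- Under the Galois conjugacy property, a commutator subgroup of prime order forces a cyclic
centre. -/
theorem GalConjProp.isCyclic_center (hGC : GalConjProp G) {p : ℕ} (hp : p.Prime)
    (hD : Nat.card (commutator G) = p) : IsCyclic (Subgroup.center G) := by
  have hne : commutator G ≠ ⊥ := by
    intro h
    rw [h, Subgroup.card_bot] at hD
    exact hp.one_lt.ne hD
  obtain ⟨d, hd1⟩ := (Subgroup.ne_bot_iff_exists_ne_one.mp hne)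
  have hd1' : (d : G) ≠ 1 := fun h => hd1 (Subtype.ext h)
  obtain ⟨χ, hχ⟩ := exists_irr_ne_of_ne_one hd1'
  have hnl : charDegree (χ : G → ℂ) ≠ 1 := by
    intro h1
    apply hχ
    exact (irr_linear_iff χ.2).mp ((charDegree_eq_one_iff χ).mp h1) d d.2
  obtain ⟨K, hKn, hK⟩ := exists_ker_of_isCharacter (isCharacter_of_irr χ.2)
  have hKle : K ≤ commutator G := fun g hg => hGC.ker_le_commutator χ hnl g ((hK g).mp hg)
  have hKbot : K = ⊥ := by
    have hdvd : Nat.card K ∣ p := by rw [← hD]; exact Subgroup.card_dvd_of_le hKle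
    rcases (Nat.dvd_prime hp).mp hdvd with h1 | h1
    · exact Subgroup.card_eq_one.mp h1
    · exfalso
      have : K = commutator G := Subgroup.eq_of_le_of_card_ge hKle (by rw [h1, hD])
      apply hχ
      apply (hK d).mp
      rw [this]; exact d.2
  apply isCyclic_center_of_faithful_irr χ
  intro g hg
  have : g ∈ K := (hK g).mpr hg
  rw [hKbot] at this
  exact Subgroup.mem_bot.mp this

/-- The Galois conjugacy property passes to quotients. -/
theorem GalConjProp.quotient (hGC : GalConjProp G) (N : Subgroup G) [N.Normal] :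
    GalConjProp (G ⧸ N) := by
  intro χ ψ hχ hdeg
  let χ' : IrrCharacter G := ⟨_, isIrrCharacter_inflation N χ.2⟩
  let ψ' : IrrCharacter G := ⟨_, isIrrCharacter_inflation N ψ.2⟩
  have h1 : charDegree (χ' : G → ℂ) = charDegree (χ : G ⧸ N → ℂ) := rfl
  have h2 : charDegree (ψ' : G → ℂ) = charDegree (ψ : G ⧸ N → ℂ) := rfl
  obtain ⟨k, hk, hkψ⟩ := hGC χ' ψ' (by rw [h1]; exact hχ) (by rw [h1, h2]; exact hdeg)
  refine ⟨k, hk.coprime_dvd_right ?_, ?_⟩
  · rw [← Subgroup.index_eq_card]; exact Subgroup.index_dvd_card N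
  · intro g
    obtain ⟨g, rfl⟩ := QuotientGroup.mk_surjective g
    exact hkψ g

end Cfsg.Agent.Lib.helper21
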