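import Mathlib
import Cfsg.Agent.Lib.helper21.AutCard
import Cfsg.Agent.Lib.helper21.NC

set_option autoImplicit false

namespace Cfsg.Agent.Lib.helper21

open Subgroup

/-- An automorphism `α` of a finite abelian `p`-group with `α ^ q = 1`, `q` coprime to `p`,
fixing every element of order `p`, is trivial. -/
theorem mulAut_eq_one_of_fixes_order_p {H : Type*} [CommGroup H] {p : ℕ}
    [hp : Fact p.Prime] (hH : IsPGroup p H) (α : MulAut H) (q : ℕ) (hq : α ^ q = 1)
    (hcop : Nat.Coprime q p) (hfix : ∀ z : H, orderOf z = p → α z = z) : α = 1 := by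
  ext x
  by_contra hne
  have hne' : α x ≠ x := hne
  have hy1 : x / α x ≠ 1 := by
    intro h
    exact hne' (div_eq_one.mp h).symm
  have hν : ∏ i ∈ Finset.range q, (α ^ i) (x / α x) = 1 := by
    have h1 : ∀ i, (α ^ i) (x / α x) = (α ^ i) x / (α ^ (i + 1)) x := by
      intro i
      rw [map_div, pow_succ, MulAut.mul_apply]
    simp_rw [h1]
    rw [Finset.prod_range_div' (fun i => (α ^ i) x), pow_zero, hq]
    simp
  obtain ⟨k, hk⟩ := hH (x / α x)
  have hpo : p ∣ orderOf (x / α x) := by
    have h1 : orderOf (x / α x) ∣ p ^ k := orderOf_dvd_of_pow_eq_one hk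
    obtain ⟨j, hj, hj'⟩ := (Nat.dvd_prime_pow hp.out).mp h1
    rw [hj']
    have hj0 : j ≠ 0 := by
      rintro rfl
      rw [pow_zero, orderOf_eq_one_iff] at hj'
      exact hy1 hj'
    exact dvd_pow_self p hj0
  have ho0 : orderOf (x / α x) ≠ 0 := by
    intro h0
    have h1 : orderOf (x / α x) ∣ p ^ k := orderOf_dvd_of_pow_eq_one hk
    rw [h0, zero_dvd_iff] at h1
    exact (pow_pos hp.out.pos k).ne' h1
  have hzo : orderOf ((x / α x) ^ (orderOf (x / α x) / p)) = p :=
    orderOf_pow_orderOf_div ho0 hpo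
  have hzfix : ∀ i : ℕ, (α ^ i) ((x / α x) ^ (orderOf (x / α x) / p)) =
      (x / α x) ^ (orderOf (x / α x) / p) := by
    intro i
    induction i with
    | zero => simp
    | succ i ih => rw [pow_succ, MulAut.mul_apply, hfix _ hzo, ih]
  have h2 : ∏ i ∈ Finset.range q, (α ^ i) ((x / α x) ^ (orderOf (x / α x) / p)) =
      ((x / α x) ^ (orderOf (x / α x) / p)) ^ q := by
    rw [Finset.prod_congr rfl (fun i _ => hzfix i), Finset.prod_const, Finset.card_range]
  have h3 : ∏ i ∈ Finset.range q, (α ^ i) ((x / α x) ^ (orderOf (x / α x) / p)) = 1 := by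
    have h4 : ∀ i, (α ^ i) ((x / α x) ^ (orderOf (x / α x) / p)) =
        ((α ^ i) (x / α x)) ^ (orderOf (x / α x) / p) := fun i => by rw [map_pow]
    simp_rw [h4]
    rw [Finset.prod_pow, hν, one_pow]
  rw [h2] at h3
  have h4 : p ∣ q := by
    have h5 := orderOf_dvd_of_pow_eq_one h3
    rwa [hzo] at h5
  have h5 := Nat.Coprime.eq_one_of_dvd hcop.symm h4
  exact hp.out.one_lt.ne' h5

/-- The action of automorphisms on the elements of order `n`. -/
def mulAutPermOrderOf (H : Type*) [Group H] (n : ℕ) :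
    MulAut H →* Equiv.Perm {x : H // orderOf x = n} where
  toFun α := α.toEquiv.subtypeEquiv (fun x => by
    show orderOf x = n ↔ orderOf (α x) = n
    rw [MulEquiv.orderOf_eq])
  map_one' := by ext x; rfl
  map_mul' α β := by ext x; rfl

theorem mulAutPermOrderOf_apply (H : Type*) [Group H] (n : ℕ) (α : MulAut H)
    (x : {x : H // orderOf x = n}) : ((mulAutPermOrderOf H n α x : {x : H // orderOf x = n}) : H)
      = α x := rfl

/-- A permutation of a 3-element set with `σ ^ 3 = 1` and a fixed point is trivial. -/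
theorem perm_eq_one_of_card_three {I : Type*} [Finite I] (h3 : Nat.card I = 3)
    (σ : Equiv.Perm I) (i : I) (hσ : σ ^ 3 = 1) (hi : σ i = i) : σ = 1 := by
  have key : ∀ τ : Equiv.Perm (Fin 3), ∀ j : Fin 3, τ ^ 3 = 1 → τ j = j → τ = 1 := by decide
  let e : I ≃ Fin 3 := Finite.equivFinOfCardEq h3
  have h1 : (e.permCongrHom σ) ^ 3 = 1 := by rw [← map_pow, hσ, map_one]
  have h2 : e.permCongrHom σ (e i) = e i := by
    show e (σ (e.symm (e i))) = e i
    rw [Equiv.symm_apply_apply, hi]
  have h3' := key _ _ h1 h2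
  exact e.permCongrHom.injective (by rw [h3', map_one])

/-- A nontrivial permutation `σ` of a 3-element set with `σ ^ 3 = 1` generates a transitive
group. -/
theorem exists_pow_apply_eq_of_card_three {I : Type*} [Finite I] (h3 : Nat.card I = 3)
    (σ : Equiv.Perm I) (hσ1 : σ ≠ 1) (hσ : σ ^ 3 = 1) (i j : I) : ∃ k : ℕ, (σ ^ k) i = j := by
  have key : ∀ τ : Equiv.Perm (Fin 3), τ ≠ 1 → τ ^ 3 = 1 → ∀ a b : Fin 3,
      ∃ k : Fin 3, (τ ^ (k : ℕ)) a = b := by decide
  let e : I ≃ Fin 3 := Finite.equivFinOfCardEq h3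
  have h1 : (e.permCongrHom σ) ^ 3 = 1 := by rw [← map_pow, hσ, map_one]
  have h2 : e.permCongrHom σ ≠ 1 := by
    intro h
    apply hσ1
    exact e.permCongrHom.injective (by rw [h, map_one])
  obtain ⟨k, hk⟩ := key _ h2 h1 (e i) (e j)
  refine ⟨k, ?_⟩
  rw [← map_pow] at hk
  have h4 : e ((σ ^ (k : ℕ)) (e.symm (e i))) = e j := hk
  rw [Equiv.symm_apply_apply] at h4
  exact e.injective h4

section ThreeInvolutions

variable {M : Type*} [CommGroup M] [Finite M]

omit [Finite M] in
/-- A group of automorphisms of odd order of a finite abelian `2`-group acts faithfully on the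
involutions. -/
theorem eq_one_of_mulAutPermOrderOf_eq_one (hM : IsPGroup 2 M) (A : Subgroup (MulAut M))
    (hA : Odd (Nat.card A)) (α : MulAut M) (hα : α ∈ A) (h : mulAutPermOrderOf M 2 α = 1) :
    α = 1 := by
  have : Fact (Nat.Prime 2) := ⟨Nat.prime_two⟩
  apply mulAut_eq_one_of_fixes_order_p hM α (Nat.card A)
  · have h1 : (⟨α, hα⟩ : A) ^ Nat.card A = 1 := pow_card_eq_one'
    exact congrArg Subtype.val h1
  · exact hA.coprime_two_right
  · intro z hz
    have h1 := congrArg (fun σ => ((σ ⟨z, hz⟩ : {x : M // orderOf x = 2}) : M)) h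
    exact h1

/-- A group of automorphisms of odd order of a finite abelian `2`-group with exactly three
involutions has order `1` or `3`. -/
theorem card_eq_one_or_three_of_odd (hM : IsPGroup 2 M)
    (h3 : Nat.card {x : M // orderOf x = 2} = 3) (A : Subgroup (MulAut M))
    (hA : Odd (Nat.card A)) : Nat.card A = 1 ∨ Nat.card A = 3 := by
  have hinj : Function.Injective ((mulAutPermOrderOf M 2).comp A.subtype) := by
    rw [injective_iff_map_eq_one]
    intro a ha
    apply Subtype.ext
    exact eq_one_of_mulAutPermOrderOf_eq_one hM A hA a.1 a.2 ha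
  have h1 := Subgroup.card_dvd_of_injective _ hinj
  rw [Nat.card_perm, h3] at h1
  have h2 : Nat.card A ∣ 6 := h1
  have h4 := Nat.le_of_dvd (by norm_num) h2
  obtain ⟨k, hk⟩ := hA
  generalize Nat.card A = n at *
  interval_cases n <;> omega

/-- In the situation of `card_eq_one_or_three_of_odd`, an automorphism in `A` fixing a
nontrivial element is trivial. -/
theorem eq_one_of_fixes_of_odd (hM : IsPGroup 2 M)
    (h3 : Nat.card {x : M // orderOf x = 2} = 3) (A : Subgroup (MulAut M))
    (hA : Odd (Nat.card A)) (α : MulAut M) (hα : α ∈ A) (z : M) (hz1 : z ≠ 1)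
    (hz : α z = z) : α = 1 := by
  have : Fact (Nat.Prime 2) := ⟨Nat.prime_two⟩
  apply eq_one_of_mulAutPermOrderOf_eq_one hM A hA α hα
  obtain ⟨k, hk⟩ := hM z
  have hpo : 2 ∣ orderOf z := by
    have h1 : orderOf z ∣ 2 ^ k := orderOf_dvd_of_pow_eq_one hk
    obtain ⟨j, hj, hj'⟩ := (Nat.dvd_prime_pow Nat.prime_two).mp h1
    rw [hj']
    have hj0 : j ≠ 0 := by
      rintro rfl
      rw [pow_zero, orderOf_eq_one_iff] at hj'
      exact hz1 hj'
    exact dvd_pow_self 2 hj0
  have hwo : orderOf (z ^ (orderOf z / 2)) = 2 :=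
    orderOf_pow_orderOf_div (orderOf_pos z).ne' hpo
  have hσ3 : (mulAutPermOrderOf M 2 α) ^ 3 = 1 := by
    rw [← map_pow]
    have h1 : (⟨α, hα⟩ : A) ^ Nat.card A = 1 := pow_card_eq_one'
    have h2 : α ^ Nat.card A = 1 := congrArg Subtype.val h1
    rcases card_eq_one_or_three_of_odd hM h3 A hA with h | h
    · rw [h, pow_one] at h2
      rw [h2, one_pow, map_one]
    · rw [h] at h2
      rw [h2, map_one]
  apply perm_eq_one_of_card_three h3 _ ⟨z ^ (orderOf z / 2), hwo⟩ hσ3
  apply Subtype.ext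
  show α (z ^ (orderOf z / 2)) = z ^ (orderOf z / 2)
  rw [map_pow, hz]

/-- In the situation of `card_eq_one_or_three_of_odd`, if `A` is nontrivial it permutes the
three involutions transitively. -/
theorem exists_apply_eq_of_card_three (hM : IsPGroup 2 M)
    (h3 : Nat.card {x : M // orderOf x = 2} = 3) (A : Subgroup (MulAut M))
    (hA : Nat.card A = 3) (i j : M) (hi : orderOf i = 2) (hj : orderOf j = 2) :
    ∃ α ∈ A, α i = j := by
  have hodd : Odd (Nat.card A) := by rw [hA]; decide
  have hnt : Nontrivial A := by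
    rw [← Finite.one_lt_card_iff_nontrivial, hA]
    norm_num
  obtain ⟨a, ha⟩ := exists_ne (1 : A)
  have hσ1 : mulAutPermOrderOf M 2 a.1 ≠ 1 := by
    intro h
    apply ha
    apply Subtype.ext
    exact eq_one_of_mulAutPermOrderOf_eq_one hM A hodd a.1 a.2 h
  have hσ3 : (mulAutPermOrderOf M 2 a.1) ^ 3 = 1 := by
    rw [← map_pow]
    have h1 : a ^ Nat.card A = 1 := pow_card_eq_one'
    have h2 : a.1 ^ Nat.card A = 1 := congrArg Subtype.val h1
    rw [hA] at h2
    rw [h2, map_one]
  obtain ⟨k, hk⟩ := exists_pow_apply_eq_of_card_three h3 _ hσ1 hσ3 ⟨i, hi⟩ ⟨j, hj⟩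
  refine ⟨a.1 ^ k, A.pow_mem a.2 k, ?_⟩
  rw [← map_pow] at hk
  exact congrArg Subtype.val hk

end ThreeInvolutions

section ConjTransport

variable {G : Type*} [Group G] (P : Subgroup G) {M : Type*} [Group M] (e : P ≃* M)

/-- The conjugation action of `N(P)` on `P`, transported along an isomorphism `P ≃* M`. -/
def normalizerHomOfEquiv : normalizer (P : Set G) →* MulAut M :=
  (MulAut.congr e).toMonoidHom.comp P.normalizerMonoidHom

theorem normalizerHomOfEquiv_apply (n : normalizer (P : Set G)) (x : P) :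
    ((e.symm (normalizerHomOfEquiv P e n (e x)) : P) : G) = (n : G) * (x : G) * (n : G)⁻¹ := by
  show ((e.symm (e (P.normalizerMonoidHom n (e.symm (e x)))) : P) : G) = _
  rw [MulEquiv.symm_apply_apply, MulEquiv.symm_apply_apply]
  rfl

theorem normalizerHomOfEquiv_eq_one_iff (n : normalizer (P : Set G)) :
    normalizerHomOfEquiv P e n = 1 ↔ (n : G) ∈ centralizer (P : Set G) := by
  have h1 : normalizerHomOfEquiv P e n = 1 ↔ P.normalizerMonoidHom n = 1 := by
    constructor
    · intro h
      apply (MulAut.congr e).injective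
      rw [map_one]
      exact h
    · intro h
      show MulAut.congr e (P.normalizerMonoidHom n) = 1
      rw [h, map_one]
  rw [h1, ← MonoidHom.mem_ker, normalizerMonoidHom_ker, mem_subgroupOf]

theorem card_range_normalizerHomOfEquiv :
    Nat.card (normalizerHomOfEquiv P e).range =
      (centralizer (P : Set G)).relIndex (normalizer (P : Set G)) := by
  rw [← Subgroup.index_ker]
  have h1 : (normalizerHomOfEquiv P e).ker =
      (centralizer (P : Set G)).subgroupOf (normalizer (P : Set G)) := by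
    ext n
    rw [MonoidHom.mem_ker, normalizerHomOfEquiv_eq_one_iff, mem_subgroupOf]
  rw [h1]
  rfl

end ConjTransport

end Cfsg.Agent.Lib.helper21
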