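import Mathlib
import Cfsg.Agent.Lib.helper21.Homocyclic

set_option autoImplicit false

namespace Cfsg.Agent.Lib.helper21

open Subgroup

/-- In `ZMod (2 ^ m)` with `m ≥ 1`, the solutions of `2 * a = 0` are `0` and `2 ^ (m - 1)`. -/
theorem zmod_two_mul_eq_zero_iff (m : ℕ) (hm : 1 ≤ m) (a : ZMod (2 ^ m)) :
    2 * a = 0 ↔ a = 0 ∨ a = ((2 ^ (m - 1) : ℕ) : ZMod (2 ^ m)) := by
  have : NeZero (2 ^ m) := ⟨by positivity⟩
  have h2 : 2 ^ m = 2 * 2 ^ (m - 1) := by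
    rw [← pow_succ']
    congr 1
    omega
  constructor
  · intro h
    have h1 : ((2 * a.val : ℕ) : ZMod (2 ^ m)) = 0 := by
      push_cast
      rw [ZMod.natCast_zmod_val]
      exact h
    rw [ZMod.natCast_eq_zero_iff] at h1
    have h1' : 2 * 2 ^ (m - 1) ∣ 2 * a.val := by
      rw [← h2]
      exact h1
    have h3 : 2 ^ (m - 1) ∣ a.val := Nat.dvd_of_mul_dvd_mul_left (by norm_num) h1'
    obtain ⟨c, hc⟩ := h3
    have h4 : a.val < 2 ^ m := ZMod.val_lt a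
    have hc2 : c < 2 := by
      by_contra hcon
      push Not at hcon
      have h5 : 2 ^ (m - 1) * 2 ≤ 2 ^ (m - 1) * c := Nat.mul_le_mul_left _ hcon
      have h4' : 2 ^ (m - 1) * c < 2 * 2 ^ (m - 1) := by
        rw [← h2, ← hc]
        exact h4
      linarith
    interval_cases c
    · left
      rw [← ZMod.natCast_zmod_val a, hc]
      simp
    · right
      rw [← ZMod.natCast_zmod_val a, hc]
      simp
  · rintro (rfl | rfl)
    · simp
    · have h3 : ((2 * 2 ^ (m - 1) : ℕ) : ZMod (2 ^ m)) = 0 := by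
        rw [← h2]
        exact ZMod.natCast_self _
      push_cast at h3 ⊢
      exact h3

/-- `2 ^ (m - 1)` is nonzero in `ZMod (2 ^ m)` for `m ≥ 1`. -/
theorem zmod_two_pow_pred_ne_zero (m : ℕ) (hm : 1 ≤ m) :
    ((2 ^ (m - 1) : ℕ) : ZMod (2 ^ m)) ≠ 0 := by
  rw [Ne, ZMod.natCast_eq_zero_iff]
  intro h
  have h1 := Nat.le_of_dvd (by positivity) h
  have h2 : 2 ^ (m - 1) < 2 ^ m := Nat.pow_lt_pow_right (by norm_num) (by omega)
  omega

/-- The homocyclic group `Z/2^m × Z/2^m` (`m ≥ 1`) has exactly three involutions. -/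
theorem card_involutions_homocyclic (m : ℕ) (hm : 1 ≤ m) :
    Nat.card {x : Multiplicative (ZMod (2 ^ m) × ZMod (2 ^ m)) // orderOf x = 2} = 3 := by
  have : Fact (Nat.Prime 2) := ⟨Nat.prime_two⟩
  have hh0 := zmod_two_pow_pred_ne_zero m hm
  have key : ∀ x : Multiplicative (ZMod (2 ^ m) × ZMod (2 ^ m)), orderOf x = 2 ↔
      (x = Multiplicative.ofAdd (((2 ^ (m - 1) : ℕ) : ZMod (2 ^ m)), (0 : ZMod (2 ^ m))) ∨
       x = Multiplicative.ofAdd ((0 : ZMod (2 ^ m)), ((2 ^ (m - 1) : ℕ) : ZMod (2 ^ m))) ∨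
       x = Multiplicative.ofAdd (((2 ^ (m - 1) : ℕ) : ZMod (2 ^ m)),
        ((2 ^ (m - 1) : ℕ) : ZMod (2 ^ m)))) := by
    intro x
    obtain ⟨⟨a, b⟩, rfl⟩ : ∃ v, x = Multiplicative.ofAdd v := ⟨Multiplicative.toAdd x, rfl⟩
    rw [orderOf_eq_prime_iff]
    have h1 : (Multiplicative.ofAdd (a, b)) ^ 2 = 1 ↔ 2 * a = 0 ∧ 2 * b = 0 := by
      rw [← ofAdd_nsmul, ofAdd_eq_one]
      simp [Prod.ext_iff]
    have h2 : Multiplicative.ofAdd (a, b) ≠ 1 ↔ ¬ (a = 0 ∧ b = 0) := by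
      rw [Ne, ofAdd_eq_one]
      simp [Prod.ext_iff]
    rw [h1, h2, zmod_two_mul_eq_zero_iff m hm a, zmod_two_mul_eq_zero_iff m hm b]
    simp only [Multiplicative.ofAdd.injective.eq_iff, Prod.mk.injEq]
    constructor
    · rintro ⟨⟨ha | ha, hb | hb⟩, hne⟩
      · exact absurd ⟨ha, hb⟩ hne
      · right; left; exact ⟨ha, hb⟩
      · left; exact ⟨ha, hb⟩
      · right; right; exact ⟨ha, hb⟩
    · rintro (⟨ha, hb⟩ | ⟨ha, hb⟩ | ⟨ha, hb⟩)
      · exact ⟨⟨Or.inr ha, Or.inl hb⟩, fun h => hh0 (ha ▸ h.1)⟩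
      · exact ⟨⟨Or.inl ha, Or.inr hb⟩, fun h => hh0 (hb ▸ h.2)⟩
      · exact ⟨⟨Or.inr ha, Or.inr hb⟩, fun h => hh0 (ha ▸ h.1)⟩
  have hset : ({x : Multiplicative (ZMod (2 ^ m) × ZMod (2 ^ m)) | orderOf x = 2}).ncard = 3 := by
    rw [Set.ncard_eq_three]
    refine ⟨_, _, _, ?_, ?_, ?_, Set.ext (fun x => by
      simp only [Set.mem_ofPred_eq, Set.mem_insert_iff, Set.mem_singleton_iff]
      exact key x)⟩
    · intro h
      have h1 := Multiplicative.ofAdd.injective h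
      rw [Prod.mk.injEq] at h1
      exact hh0 h1.1
    · intro h
      have h1 := Multiplicative.ofAdd.injective h
      rw [Prod.mk.injEq] at h1
      exact hh0 h1.2.symm
    · intro h
      have h1 := Multiplicative.ofAdd.injective h
      rw [Prod.mk.injEq] at h1
      exact hh0 h1.1.symm
  rw [← hset, ← Nat.card_coe_set_eq]
  rfl

/-- The homocyclic group `Z/2^m × Z/2^m` is a `2`-group. -/
theorem isPGroup_homocyclic (m : ℕ) :
    IsPGroup 2 (Multiplicative (ZMod (2 ^ m) × ZMod (2 ^ m))) := by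
  have : NeZero (2 ^ m) := ⟨by positivity⟩
  apply IsPGroup.of_card (n := m + m)
  have h1 : Nat.card (Multiplicative (ZMod (2 ^ m) × ZMod (2 ^ m))) =
      Nat.card (ZMod (2 ^ m) × ZMod (2 ^ m)) := rfl
  rw [h1, Nat.card_prod, Nat.card_zmod, pow_add]

end Cfsg.Agent.Lib.helper21
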