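import Mathlib
import Cfsg.Agent.Lib.helper21.HomocyclicZMod
import Cfsg.Agent.Lib.helper21.SylowCosets

set_option autoImplicit false

namespace Cfsg.Agent.Lib.helper21

open Subgroup

section HomocyclicSylow

variable {G : Type*} [Group G] [Finite G] (P : Sylow 2 G) (m : ℕ)
  (e : (P : Subgroup G) ≃* Multiplicative (ZMod (2 ^ m) × ZMod (2 ^ m)))

include e in
omit [Finite G] in
theorem homocyclic_abelian :
    ∀ a ∈ (P : Subgroup G), ∀ b ∈ (P : Subgroup G), a * b = b * a := by
  intro a ha b hb
  have h1 : e (⟨a, ha⟩ * ⟨b, hb⟩) = e (⟨b, hb⟩ * ⟨a, ha⟩) := by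
    rw [map_mul, map_mul, mul_comm]
  exact congrArg Subtype.val (e.injective h1)

include e in
theorem homocyclic_odd_relIndex :
    Odd ((centralizer ((P : Subgroup G) : Set G)).relIndex
      (normalizer ((P : Subgroup G) : Set G))) := by
  have : Fact (Nat.Prime 2) := ⟨Nat.prime_two⟩
  have h1 := relIndex_centralizer_normalizer_dvd_relIndex (P : Subgroup G)
    (homocyclic_abelian P m e)
  have h2 := relIndex_normalizer_mul_card_sylow P
  have h3 : ¬ 2 ∣ (P : Subgroup G).index := P.not_dvd_index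
  rw [← Nat.not_even_iff_odd, even_iff_two_dvd]
  intro h4
  apply h3
  rw [← h2]
  exact Dvd.dvd.mul_right (h4.trans h1) _

include e in
/-- For a Sylow `2`-subgroup `P ≅ Z/2^m × Z/2^m` (`m ≥ 1`), `|N(P) : C(P)|` is `1` or `3`. -/
theorem homocyclic_relIndex (hm : 1 ≤ m) :
    (centralizer ((P : Subgroup G) : Set G)).relIndex (normalizer ((P : Subgroup G) : Set G)) = 1 ∨
    (centralizer ((P : Subgroup G) : Set G)).relIndex (normalizer ((P : Subgroup G) : Set G)) = 3 := by
  have h1 := card_eq_one_or_three_of_odd (isPGroup_homocyclic m) (card_involutions_homocyclic m hm)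
    (normalizerHomOfEquiv (P : Subgroup G) e).range
    (by rw [card_range_normalizerHomOfEquiv]; exact homocyclic_odd_relIndex P m e)
  rwa [card_range_normalizerHomOfEquiv] at h1

include e in
/-- For a Sylow `2`-subgroup `P ≅ Z/2^m × Z/2^m` (`m ≥ 1`), an element of `N(P)` commuting with
a nontrivial element of `P` centralizes `P`. -/
theorem homocyclic_centralizer_inf (hm : 1 ≤ m) (z : G) (hz : z ∈ (P : Subgroup G))
    (hz1 : z ≠ 1) :
    centralizer ({z} : Set G) ⊓ normalizer ((P : Subgroup G) : Set G) =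
      centralizer ((P : Subgroup G) : Set G) := by
  apply le_antisymm
  · rintro g ⟨hgz, hgN⟩
    rw [← normalizerHomOfEquiv_eq_one_iff (P : Subgroup G) e ⟨g, hgN⟩]
    apply eq_one_of_fixes_of_odd (isPGroup_homocyclic m) (card_involutions_homocyclic m hm)
      (normalizerHomOfEquiv (P : Subgroup G) e).range
      (by rw [card_range_normalizerHomOfEquiv]; exact homocyclic_odd_relIndex P m e)
      _ ⟨⟨g, hgN⟩, rfl⟩ (e ⟨z, hz⟩)
    · intro h
      apply hz1
      have h1 := e.injective (h.trans (map_one e).symm)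
      exact congrArg Subtype.val h1
    · apply e.symm.injective
      apply Subtype.ext
      rw [normalizerHomOfEquiv_apply, MulEquiv.symm_apply_apply]
      have h1 : g * z = z * g := mem_centralizer_singleton_iff.mp hgz
      show g * z * g⁻¹ = z
      rw [h1]
      group
  · exact le_inf (centralizer_le (Set.singleton_subset_iff.mpr hz)) (centralizer_le_normalizer _)

include e in
/-- For a Sylow `2`-subgroup `P ≅ Z/2^m × Z/2^m` (`m ≥ 1`): either `P` has a normal complement
or all involutions of `G` are conjugate. -/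
theorem homocyclic_complement_or_conj (hm : 1 ≤ m) :
    (∃ N : Subgroup G, N.Normal ∧ IsComplement' N (P : Subgroup G)) ∨
      ∀ s t : G, orderOf s = 2 → orderOf t = 2 → IsConj s t := by
  have : Fact (Nat.Prime 2) := ⟨Nat.prime_two⟩
  rcases homocyclic_relIndex P m e hm with h1 | h3
  · left
    have hNC : normalizer ((P : Subgroup G) : Set G) ≤ centralizer ((P : Subgroup G) : Set G) :=
      relIndex_eq_one.mp h1
    exact ⟨_, MonoidHom.normal_ker _, MonoidHom.ker_transferSylow_isComplement' P hNC⟩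
  · right
    have key : ∀ s : G, orderOf s = 2 → ∃ g : G, g * s * g⁻¹ ∈ (P : Subgroup G) := by
      intro s hs
      have hpg : IsPGroup 2 (zpowers s) :=
        IsPGroup.of_card (n := 1) (by rw [Nat.card_zpowers, hs, pow_one])
      obtain ⟨Q, hQ⟩ := hpg.exists_le_sylow
      obtain ⟨g, hg⟩ := MulAction.exists_smul_eq G Q P
      refine ⟨g, ?_⟩
      rw [← hg, Sylow.smul_def, Sylow.pointwise_smul_def]
      exact Subgroup.smul_mem_pointwise_smul s (MulAut.conj g) _ (hQ (mem_zpowers s))
    have hord : ∀ g s : G, orderOf (g * s * g⁻¹) = orderOf s := by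
      intro g s
      have h1 : g * s * g⁻¹ = g⁻¹⁻¹ * s * g⁻¹ := by rw [inv_inv]
      rw [h1, orderOf_inv_mul_mul]
    intro s t hs ht
    obtain ⟨g, hg⟩ := key s hs
    obtain ⟨k, hk⟩ := key t ht
    have hes : orderOf (e ⟨g * s * g⁻¹, hg⟩) = 2 := by
      rw [MulEquiv.orderOf_eq, Subgroup.orderOf_mk, hord, hs]
    have het : orderOf (e ⟨k * t * k⁻¹, hk⟩) = 2 := by
      rw [MulEquiv.orderOf_eq, Subgroup.orderOf_mk, hord, ht]
    obtain ⟨α, ⟨n, rfl⟩, hα⟩ := exists_apply_eq_of_card_three (isPGroup_homocyclic m)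
      (card_involutions_homocyclic m hm) (normalizerHomOfEquiv (P : Subgroup G) e).range
      (by rw [card_range_normalizerHomOfEquiv]; exact h3) _ _ hes het
    have h5 := normalizerHomOfEquiv_apply (P : Subgroup G) e n ⟨g * s * g⁻¹, hg⟩
    rw [hα, MulEquiv.symm_apply_apply] at h5
    have h6 : k * t * k⁻¹ = (n : G) * (g * s * g⁻¹) * (n : G)⁻¹ := h5
    rw [isConj_iff]
    refine ⟨k⁻¹ * (n : G) * g, ?_⟩
    have h7 : t = k⁻¹ * (k * t * k⁻¹) * k := by group
    rw [h7, h6]
    group

end HomocyclicSylow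

end Cfsg.Agent.Lib.helper21
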