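import Mathlib
import Cfsg.Agent.Lib.helper2.BGDefs
import Cfsg.Agent.Lib.helper20.D1EFinal
import Cfsg.Agent.Lib.helper4.CharDecomp
import Cfsg.Agent.Lib.helper81.Kernel
import Cfsg.Agent.Lib.helper81.Blocks
import Cfsg.Agent.Lib.helper72.BFB4d
import Cfsg.Agent.Lib.helper80.BFB3
import Cfsg.Agent.Lib.helper79.GaloisChar
import Cfsg.Agent.Lib.helper2.BGG2
import Cfsg.Agent.Lib.helper75.BGGC2

/-!
# S4504 piece G (`X_structure`): the principal block for `e = (p-1)/2` (helper21)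

Assembly of: `X_core` (helper2.BGG2), `helper21_X_functional` (helper75.BGGC2), `delta_inner`
(helper80.BFB3), `X_degree_lb` (helper72.BFB4d) and three small lemmas proved here
(`helper21_gd_char_decomp`, `helper21_gd_char_decomp_inner`, `helper21_gd_one_mem_X`).
-/

set_option autoImplicit false

open Cfsg Cfsg.Agent.Lib.helper20.D1E Cfsg.Agent.Lib.helper2.BF
open scoped ComplexConjugate

namespace Cfsg.Agent.Lib.helper2.BG

variable {G : Type*} [Group G] [Fintype G]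

/-- GA1 (own copy): decomposition of a character with natural multiplicities. -/
theorem helper21_gd_char_decomp (Ξ : G → ℂ) (hΞ : IsCharacter G Ξ) :
    ∃ m : IrrCharacter G → ℕ,
      (∀ ξ : IrrCharacter G, classInner Ξ (ξ : G → ℂ) = (m ξ : ℂ)) ∧
      (∀ g : G, Ξ g = ∑ ξ : IrrCharacter G, (m ξ : ℂ) * (ξ : G → ℂ) g) ∧
      charDegree Ξ = ∑ ξ : IrrCharacter G, m ξ * charDegree (ξ : G → ℂ) := by
  classical
  choose m hm using fun ξ : IrrCharacter G =>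
    Cfsg.Agent.Lib.helper4.exists_nat_classInner_irr hΞ ξ.2
  have hexp := Cfsg.Agent.Lib.helper4.classFunction_eq_sum_irr
    (Cfsg.Agent.Lib.helper4.isClassFunction_of_isCharacter hΞ)
  have hv : ∀ g : G, Ξ g = ∑ ξ : IrrCharacter G, (m ξ : ℂ) * (ξ : G → ℂ) g := by
    intro g
    have h1 := congrFun hexp g
    rw [Finset.sum_apply] at h1
    rw [h1]
    refine Finset.sum_congr rfl fun ξ _ => ?_
    rw [Pi.smul_apply, smul_eq_mul, hm ξ]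
  refine ⟨m, hm, hv, ?_⟩
  have h1 := Cfsg.Agent.Lib.helper81.isCharacter_one_eq_charDegree hΞ
  rw [hv 1] at h1
  have h2 : ((∑ ξ : IrrCharacter G, m ξ * charDegree (ξ : G → ℂ) : ℕ) : ℂ) =
      (charDegree Ξ : ℂ) := by
    push_cast
    rw [← h1]
    refine Finset.sum_congr rfl fun ξ _ => ?_
    rw [Cfsg.Agent.Lib.helper81.irr_one_eq_charDegree ξ]
  exact_mod_cast h2.symm

/-- GA2 (own copy): inner product of two decomposed functions. -/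
theorem helper21_gd_char_decomp_inner (Ξ₁ Ξ₂ : G → ℂ) (m₁ m₂ : IrrCharacter G → ℕ)
    (h₁ : ∀ g : G, Ξ₁ g = ∑ ξ : IrrCharacter G, (m₁ ξ : ℂ) * (ξ : G → ℂ) g)
    (h₂ : ∀ g : G, Ξ₂ g = ∑ ξ : IrrCharacter G, (m₂ ξ : ℂ) * (ξ : G → ℂ) g) :
    ∑ g : G, Ξ₁ g * conj (Ξ₂ g) =
      (Nat.card G : ℂ) * ∑ ξ : IrrCharacter G, ((m₁ ξ * m₂ ξ : ℕ) : ℂ) := by
  classical
  have hG : (Nat.card G : ℂ) ≠ 0 := by
    exact_mod_cast (Nat.card_pos (α := G)).ne'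
  have e1 : Ξ₁ = ∑ ξ : IrrCharacter G, (m₁ ξ : ℂ) • (ξ : G → ℂ) := by
    funext g; rw [h₁ g, Finset.sum_apply]; rfl
  have e2 : Ξ₂ = ∑ ξ : IrrCharacter G, (m₂ ξ : ℂ) • (ξ : G → ℂ) := by
    funext g; rw [h₂ g, Finset.sum_apply]; rfl
  have h3 := Cfsg.Agent.Lib.helper4.classInner_sum_irr_smul (G := G)
    (fun ξ => (m₁ ξ : ℂ)) (fun ξ => (m₂ ξ : ℂ))
  rw [← e1, ← e2] at h3
  unfold classInner at h3
  have h4 : ∑ g : G, Ξ₁ g * conj (Ξ₂ g) =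
      (Nat.card G : ℂ) * ∑ ξ : IrrCharacter G, (m₁ ξ : ℂ) * conj ((m₂ ξ : ℂ)) := by
    rw [← h3]; field_simp
  rw [h4]
  congr 1
  refine Finset.sum_congr rfl fun ξ _ => ?_
  rw [Complex.conj_natCast]; push_cast; ring

/-- GB (own copy): the trivial character is in `X` with sign `+1` when `2e + 1 = p ≥ 5`. -/
theorem helper21_gd_one_mem_X (p : ℕ) [Fact p.Prime] (P : Sylow p G) (H : Subgroup (ZMod p)ˣ)
    (M : Ideal AlgInt) (hM : IsPModular p M) (X Y : Set (IrrCharacter G))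
    (εX : IrrCharacter G → ℤ) (ε : ℤ) (hD : PBData p M P (Nat.card H) X Y εX ε)
    (hp5 : 5 ≤ p) (het : 2 * Nat.card H + 1 = p) :
    ∃ ξ₁ ∈ X, (∀ g : G, (ξ₁ : G → ℂ) g = 1) ∧ εX ξ₁ = 1 := by
  have hprime : M.IsPrime := hM.2.1.isPrime
  have hmem : Cfsg.Agent.Lib.helper81.trivChar G ∈ principalBlock M G :=
    Cfsg.Agent.Lib.helper81.trivChar_mem_principalBlock hprime
  rw [hD.union] at hmem
  have hdeg1 : charDegree (Cfsg.Agent.Lib.helper81.trivChar G : G → ℂ) = 1 := by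
    simp [charDegree, Cfsg.Agent.Lib.helper81.trivChar_apply]
  rcases hmem with hX | hY
  · refine ⟨Cfsg.Agent.Lib.helper81.trivChar G, hX,
      fun g => Cfsg.Agent.Lib.helper81.trivChar_apply g, ?_⟩
    have h1 := hD.degX _ hX
    rw [hdeg1] at h1
    rcases hD.signX _ hX with h | h
    · exact h
    · exfalso
      rw [h] at h1
      have h2 : (p : ℤ) ∣ -1 - ((1 : ℕ) : ℤ) := Int.modEq_iff_dvd.mp h1
      have h3 : (p : ℤ) ∣ 2 := by
        have h4 : (-1 - ((1 : ℕ) : ℤ)) = -2 := by norm_num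
        rw [h4] at h2
        exact (dvd_neg.mp h2)
      have h5 := Int.le_of_dvd (by norm_num) h3
      omega
  · exfalso
    have h1 := hD.degY _ hY
    rw [hdeg1] at h1
    have h2 : (p : ℤ) ∣ ε * (Nat.card H : ℤ) - ((1 : ℕ) : ℤ) := Int.modEq_iff_dvd.mp h1
    rcases hD.signY with h | h
    · rw [h, one_mul] at h2
      have h5 := Int.le_of_dvd (by push_cast; omega) h2
      push_cast at h5
      omega
    · rw [h] at h2
      have h3 : (p : ℤ) ∣ (Nat.card H : ℤ) + 1 := by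
        have h4 : -1 * (Nat.card H : ℤ) - ((1 : ℕ) : ℤ) = -((Nat.card H : ℤ) + 1) := by
          push_cast; ring
        rw [h4] at h2
        exact (dvd_neg.mp h2)
      have h5 := Int.le_of_dvd (by omega) h3
      omega

/-- G. -/
theorem X_structure (p : ℕ) [Fact p.Prime] (P : Sylow p G) (hP : Nat.card P = p)
    (x : G) (hx : x ∈ (P : Subgroup G)) (hx1 : x ≠ 1) (H : Subgroup (ZMod p)ˣ)
    (hH : ∀ r : (ZMod p)ˣ, r ∈ H ↔ ∃ n : G, n * x * n⁻¹ = x ^ ((r : ZMod p).val))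
    (M : Ideal AlgInt) (hM : IsPModular p M) (X Y : Set (IrrCharacter G))
    (εX : IrrCharacter G → ℤ) (ε : ℤ) (hD : PBData p M P (Nat.card H) X Y εX ε)
    (hgen : Subgroup.normalClosure ({x} : Set G) = ⊤) (hp5 : 5 ≤ p)
    (ψ : IrrCharacter G) (he : Nat.card H = charDegree (ψ : G → ℂ))
    (hdeg : 2 * charDegree (ψ : G → ℂ) + 1 = p)
    (mp : ℕ) (hmp : mp.Coprime (Nat.card G))
    (hmreg : ∀ g : G, ¬ p ∣ orderOf g → g ^ mp = g)
    (hne : (ψ : G → ℂ) (x ^ mp) ≠ (ψ : G → ℂ) x) :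
    (∃ ξ ∈ X, εX ξ = -1 ∧ charDegree (ξ : G → ℂ) = p - 1) ∧
    (∑ g : G, ((ψ : G → ℂ) g * conj ((ψ : G → ℂ) g)) *
        (conj ((ψ : G → ℂ) g) * (ψ : G → ℂ) (g ^ mp)) = 0) ∧
    (∀ h : G, ¬ p ∣ orderOf h → ∀ υ ∈ Y,
      ∑ᶠ ξ ∈ X, (ξ : G → ℂ) h / (ξ : G → ℂ) 1 + (υ : G → ℂ) h / (2 * (υ : G → ℂ) 1) =
        1 + ((ψ : G → ℂ) h * conj ((ψ : G → ℂ) h) - 1) / ((p : ℂ) + 1)
          + (ψ : G → ℂ) h * conj ((ψ : G → ℂ) h) / ((p : ℂ) - 1)) := by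
  classical
  have hp : p.Prime := Fact.out
  have hψc : IsCharacter G (ψ : G → ℂ) := Cfsg.Agent.Lib.helper81.irr_isCharacter ψ
  have hψ'irr : IsIrrCharacter G (fun g => (ψ : G → ℂ) (g ^ mp)) :=
    Cfsg.Agent.Lib.helper79.isIrrCharacter_pow_coprime mp hmp ψ.2
  let ψ' : IrrCharacter G := ⟨_, hψ'irr⟩
  have hψ'v : ∀ g, (ψ' : G → ℂ) g = (ψ : G → ℂ) (g ^ mp) := fun g => rfl
  have hneψ : ψ ≠ ψ' := by
    intro heq
    apply hne
    rw [← hψ'v, ← heq]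
  have hreg : ∀ g : G, ¬ p ∣ orderOf g → (ψ' : G → ℂ) g = (ψ : G → ℂ) g := by
    intro g hg
    rw [hψ'v, hmreg g hg]
  have hdelta := fun ξ hξ => delta_inner p P hP x hx hx1 H M X Y εX ε hD ψ ψ' hneψ hreg ξ hξ
  have hψ'c : IsCharacter G (ψ' : G → ℂ) := Cfsg.Agent.Lib.helper81.irr_isCharacter ψ'
  have hΞ1 : IsCharacter G (fun g => (ψ : G → ℂ) g * conj ((ψ : G → ℂ) g)) :=
    Cfsg.Agent.Lib.helper4.isCharacter_mul hψc (Cfsg.Agent.Lib.helper4.isCharacter_conj hψc)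
  have hΞ2 : IsCharacter G (fun g => (ψ : G → ℂ) g * conj ((ψ' : G → ℂ) g)) :=
    Cfsg.Agent.Lib.helper4.isCharacter_mul hψc (Cfsg.Agent.Lib.helper4.isCharacter_conj hψ'c)
  obtain ⟨m₁, hm₁c, hm₁v, hm₁d⟩ := helper21_gd_char_decomp _ hΞ1
  obtain ⟨m₂, hm₂c, hm₂v, hm₂d⟩ := helper21_gd_char_decomp _ hΞ2
  set d : ℕ := charDegree (ψ : G → ℂ) with hd
  have hψ1 : (ψ : G → ℂ) 1 = (d : ℂ) := Cfsg.Agent.Lib.helper81.irr_one_eq_charDegree ψ
  have hψ'1 : (ψ' : G → ℂ) 1 = (d : ℂ) := by rw [hψ'v, one_pow, hψ1]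
  have hdeg1 : charDegree (fun g => (ψ : G → ℂ) g * conj ((ψ : G → ℂ) g)) = d * d := by
    have h1 := Cfsg.Agent.Lib.helper81.isCharacter_one_eq_charDegree hΞ1
    simp only [hψ1, Complex.conj_natCast] at h1
    exact_mod_cast h1.symm
  have hdeg2 : charDegree (fun g => (ψ : G → ℂ) g * conj ((ψ' : G → ℂ) g)) = d * d := by
    have h1 := Cfsg.Agent.Lib.helper81.isCharacter_one_eq_charDegree hΞ2
    simp only [hψ1, hψ'1, Complex.conj_natCast] at h1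
    exact_mod_cast h1.symm
  have hd2 : 2 ≤ d := by omega
  -- finiteness of X
  haveI hXfin : Finite X := Nat.finite_of_card_ne_zero (by rw [hD.cardX, he]; omega)
  have hXf : X.Finite := Set.toFinite X
  set Xf : Finset (IrrCharacter G) := hXf.toFinset with hXfdef
  have hXfcard : Xf.card = d := by
    rw [← he, ← hD.cardX, _root_.Nat.card_coe_set_eq, Set.ncard_eq_toFinset_card X hXf]
  have hmemXf : ∀ ξ, ξ ∈ Xf ↔ ξ ∈ X := fun ξ => Set.Finite.mem_toFinset hXf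
  -- the trivial character
  obtain ⟨ξ₁, hξ₁X, hξ₁v, hξ₁ε⟩ :=
    helper21_gd_one_mem_X p P H M hM X Y εX ε hD hp5 (by rw [he]; exact hdeg)
  have hodd : p ≠ 2 := by omega
  have hnt : ∀ ξ : IrrCharacter G, ξ ≠ ξ₁ → ∃ g : G, (ξ : G → ℂ) g ≠ 1 := by
    intro ξ hξ
    by_contra hcon
    push Not at hcon
    exact hξ (Subtype.ext (funext fun g => by rw [hcon g, hξ₁v g]))
  have hξ₁deg : charDegree (ξ₁ : G → ℂ) = 1 := by
    have h1 := Cfsg.Agent.Lib.helper81.irr_one_eq_charDegree ξ₁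
    rw [hξ₁v 1] at h1
    exact_mod_cast h1.symm
  have hdiff : ∀ ξ ∈ Xf, (m₁ ξ : ℤ) - (m₂ ξ : ℤ) = εX ξ := by
    intro ξ hξ
    have h1 := hdelta ξ ((hmemXf ξ).mp hξ)
    rw [hm₁c, hm₂c] at h1
    exact_mod_cast h1
  have hm₁t : m₁ ξ₁ = 1 := by
    have h1 := hm₁c ξ₁
    have h2 : classInner (fun g => (ψ : G → ℂ) g * conj ((ψ : G → ℂ) g)) (ξ₁ : G → ℂ) =
        classInner (ψ : G → ℂ) (ψ : G → ℂ) := by
      unfold classInner
      congr 1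
      refine Finset.sum_congr rfl fun g _ => ?_
      rw [hξ₁v g]; simp
    rw [h2, Cfsg.Agent.Lib.helper4.classInner_irr_self ψ.2] at h1
    exact_mod_cast h1.symm
  have hm₂t : m₂ ξ₁ = 0 := by
    have h1 := hm₂c ξ₁
    have h2 : classInner (fun g => (ψ : G → ℂ) g * conj ((ψ' : G → ℂ) g)) (ξ₁ : G → ℂ) =
        classInner (ψ : G → ℂ) (ψ' : G → ℂ) := by
      unfold classInner
      congr 1
      refine Finset.sum_congr rfl fun g _ => ?_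
      rw [hξ₁v g]; simp
    rw [h2, Cfsg.Agent.Lib.helper4.classInner_irr_ne ψ.2 ψ'.2
      (fun h => hneψ (Subtype.ext h))] at h1
    exact_mod_cast h1.symm
  obtain ⟨hA, hB, hC, hzero0, hcase0⟩ := X_core (fun ξ : IrrCharacter G => charDegree (ξ : G → ℂ))
    Xf εX m₁ m₂ ξ₁ d p hdeg hp5 ((hmemXf _).mpr hξ₁X) hξ₁ε hξ₁deg hm₁t hm₂t
    (fun ξ hξ => hD.signX ξ ((hmemXf ξ).mp hξ))
    (fun ξ hξ => hD.degX ξ ((hmemXf ξ).mp hξ))
    (fun ξ hξ hne1 hε1 => (X_degree_lb p P hP x hx hx1 H M X Y εX ε hD hodd hgen ξ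
      ((hmemXf ξ).mp hξ) (hnt ξ hne1)).1 hε1)
    (fun ξ hξ hε1 => (X_degree_lb p P hP x hx hx1 H M X Y εX ε hD hodd hgen ξ
      ((hmemXf ξ).mp hξ) (hnt ξ (by rintro rfl; rw [hξ₁ε] at hε1; norm_num at hε1))).2 hε1)
    hXfcard hdiff (by rw [sq, ← hdeg1]; exact hm₁d.symm) (by rw [sq, ← hdeg2]; exact hm₂d.symm)
    (fun ξ => Cfsg.Agent.Lib.helper81.irr_charDegree_pos ξ)
  have hzero : ∀ ξ : IrrCharacter G, m₁ ξ * m₂ ξ = 0 := fun ξ =>
    (Finset.sum_eq_zero_iff.mp hzero0) ξ (Finset.mem_univ ξ)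
  have hcase : ((∀ ξ, ξ ∉ Xf → m₁ ξ = 0) ∧
      ∑ ξ ∈ Xf, εX ξ * (charDegree (ξ : G → ℂ) : ℤ) = (d : ℤ)) ∨
     ((∀ ξ, ξ ∉ Xf → m₂ ξ = 0) ∧
      ∑ ξ ∈ Xf, εX ξ * (charDegree (ξ : G → ℂ) : ℤ) = -((d : ℤ) + 1)) := by
    rcases hcase0 with ⟨h1, h2⟩ | ⟨h1, h2⟩
    · left
      refine ⟨fun ξ hξ => ?_, h2⟩
      rw [h1 ξ, if_neg (fun h => hξ h.1)]
    · right
      refine ⟨fun ξ hξ => ?_, h2⟩
      rw [h1 ξ, if_neg (fun h => hξ h.1)]
  refine ⟨?_, ?_, ?_⟩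
  · obtain ⟨ξ, hξ, hε⟩ := hC
    exact ⟨ξ, (hmemXf ξ).mp hξ, hε, hB ξ hξ hε⟩
  · have h1 := helper21_gd_char_decomp_inner _ _ m₁ m₂ hm₁v hm₂v
    have h2 : ∑ ξ : IrrCharacter G, ((m₁ ξ * m₂ ξ : ℕ) : ℂ) = 0 :=
      Finset.sum_eq_zero fun ξ _ => by rw [hzero ξ]; simp
    rw [h2, mul_zero] at h1
    rw [← h1]
    refine Finset.sum_congr rfl fun g _ => ?_
    simp only [map_mul, Complex.conj_conj, hψ'v]
  · intro h hh υ hυ
    -- finsum to finset sums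
    have hfs : ∀ F : IrrCharacter G → ℂ, ∑ᶠ ξ ∈ X, F ξ = ∑ ξ ∈ Xf, F ξ := fun F =>
      finsum_mem_eq_finite_toFinset_sum F hXf
    rw [hfs]
    have hrel := hD.relY υ hυ h hh
    rw [hfs] at hrel
    have hrel1 := hD.relY υ hυ 1 (by rw [orderOf_one]; exact hp.one_lt.ne' ∘ Nat.dvd_one.mp)
    rw [hfs] at hrel1
    have hυ1 : (υ : G → ℂ) 1 = (charDegree (υ : G → ℂ) : ℂ) :=
      Cfsg.Agent.Lib.helper81.irr_one_eq_charDegree υ
    have hυpos := Cfsg.Agent.Lib.helper81.irr_charDegree_pos υ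
    have hrel1' : ε * (charDegree (υ : G → ℂ) : ℤ) =
        ∑ ξ ∈ Xf, εX ξ * (charDegree (ξ : G → ℂ) : ℤ) := by
      have h3 : ((ε * (charDegree (υ : G → ℂ) : ℤ) : ℤ) : ℂ) =
          ((∑ ξ ∈ Xf, εX ξ * (charDegree (ξ : G → ℂ) : ℤ) : ℤ) : ℂ) := by
        push_cast
        rw [← hυ1, hrel1]
        refine Finset.sum_congr rfl fun ξ _ => ?_
        rw [Cfsg.Agent.Lib.helper81.irr_one_eq_charDegree ξ]
      exact_mod_cast h3
    obtain ⟨hf1, hf2⟩ := helper21_X_functional Xf ξ₁ εX (fun ξ => charDegree (ξ : G → ℂ))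
      m₁ m₂ p hp5 ((hmemXf _).mpr hξ₁X) hξ₁ε hξ₁deg
      (fun ξ hξ => hD.signX ξ ((hmemXf ξ).mp hξ)) hA hB hdiff hzero
      (fun ξ => (ξ : G → ℂ) h) (hξ₁v h)
    have hsumeq : ∑ ξ ∈ Xf, (ξ : G → ℂ) h / (ξ : G → ℂ) 1 =
        ∑ ξ ∈ Xf, (ξ : G → ℂ) h / (charDegree (ξ : G → ℂ) : ℂ) :=
      Finset.sum_congr rfl fun ξ _ => by rw [Cfsg.Agent.Lib.helper81.irr_one_eq_charDegree ξ]
    rw [hsumeq]
    have hpC : (p : ℂ) = 2 * (d : ℂ) + 1 := by rw [← hdeg]; push_cast; ring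
    have hdC : (d : ℂ) ≠ 0 := by exact_mod_cast (by omega : d ≠ 0)
    have hdC1 : (d : ℂ) + 1 ≠ 0 := by exact_mod_cast (by omega : d + 1 ≠ 0)
    have hq1 : 2 * (d : ℂ) + 1 + 1 ≠ 0 := by
      have h5 : 2 * (d : ℂ) + 1 + 1 = 2 * ((d : ℂ) + 1) := by ring
      rw [h5]; exact mul_ne_zero two_ne_zero hdC1
    have hq2 : 2 * (d : ℂ) + 1 - 1 ≠ 0 := by
      have h5 : 2 * (d : ℂ) + 1 - 1 = 2 * (d : ℂ) := by ring
      rw [h5]; exact mul_ne_zero two_ne_zero hdC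
    have hq3 : 2 * ((d : ℂ) + 1) ≠ 0 := mul_ne_zero two_ne_zero hdC1
    have hq4 : 2 * (d : ℂ) ≠ 0 := mul_ne_zero two_ne_zero hdC
    rcases hcase with ⟨hoff, hsum⟩ | ⟨hoff, hsum⟩
    · -- ε = 1, υ(1) = d
      rw [hsum] at hrel1'
      have hε : ε = 1 := by
        rcases hD.signY with h | h
        · exact h
        · exfalso; rw [h] at hrel1'; omega
      have hυd : charDegree (υ : G → ℂ) = d := by
        rw [hε] at hrel1'; omega
      rw [hf1 hoff, ← hm₁v h, ← hrel, hε, hυ1, hυd, hpC]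
      push_cast
      field_simp
      ring
    · -- ε = -1, υ(1) = d + 1
      rw [hsum] at hrel1'
      have hε : ε = -1 := by
        rcases hD.signY with h | h
        · exfalso; rw [h] at hrel1'; omega
        · exact h
      have hυd : charDegree (υ : G → ℂ) = d + 1 := by
        rw [hε] at hrel1'; omega
      have hw : (ψ : G → ℂ) h * conj ((ψ' : G → ℂ) h) =
          (ψ : G → ℂ) h * conj ((ψ : G → ℂ) h) := by rw [hreg h hh]
      rw [hf2 hoff, ← hm₂v h, ← hrel, hε, hυ1, hυd, hw, hpC]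
      push_cast
      field_simp
      ring

end Cfsg.Agent.Lib.helper2.BG
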