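import Mathlib
import Cfsg.Prelude.Def_Characters
import Cfsg.Prelude.Def_Blocks
import Cfsg.Agent.Lib.helper4.Induction
import Cfsg.Agent.Lib.helper4.CharDecomp
import Cfsg.Agent.Lib.helper4.Exceptional
import Cfsg.Agent.Lib.helper19.AbelianOver
import Cfsg.Agent.Lib.helper32.Coh3
import Cfsg.Agent.Lib.helper82.CharQuot
import Cfsg.Agent.Lib.helper21.PrimeTI
import Cfsg.Agent.Lib.helper21.TIChar

set_option autoImplicit false

/-!
# Brauer–Leonard setup (helper21 library)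

`P ≤ C ≤ N ≤ G` with `P` central in `C`, `N` normalizing `P` and `C`, a retraction
`π : C → P`, elements of `C` with `π c ≠ 1` being conjugate into `C` only by elements of `N`,
and `N / C` acting semiregularly on `P`.  Class functions on `C`, their weights on `P`, twists
by linear characters `κ ∘ π`, and conjugation by `N`.
-/

namespace Cfsg.Agent.Lib.helper21

open Cfsg Cfsg.Agent.Lib.helper4
open scoped ComplexConjugate

universe u

/-- Data for the Brauer–Leonard argument. -/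
structure BLData (G : Type u) [Group G] where
  P : Subgroup G
  C : Subgroup G
  N : Subgroup G
  hPC : P ≤ C
  hCN : C ≤ N
  hNP : N ≤ Subgroup.normalizer (P : Set G)
  hNC : N ≤ Subgroup.normalizer (C : Set G)
  hcent : ∀ y ∈ P, ∀ c ∈ C, y * c = c * y
  π : ↥C →* ↥P
  hπ : ∀ y : ↥P, π ⟨(y : G), hPC y.2⟩ = y
  hTI : ∀ c : ↥C, π c ≠ 1 → ∀ g : G, g⁻¹ * (c : G) * g ∈ C → g ∈ N
  hsemi : ∀ x ∈ N, x ∉ C → ∀ y ∈ P, x⁻¹ * y * x = y → y = 1

/-- A homomorphism from a finite group to `ℂˣ` takes values of norm one. -/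
theorem unit_conj_eq_inv {H : Type*} [Group H] [Finite H] (f : H →* ℂˣ) (h : H) :
    conj ((f h : ℂˣ) : ℂ) = (((f h)⁻¹ : ℂˣ) : ℂ) := by
  have hpow : ((f h : ℂˣ) : ℂ) ^ orderOf h = 1 := by
    rw [← Units.val_pow_eq_pow_val, ← map_pow, pow_orderOf_eq_one, map_one, Units.val_one]
  have hn : ‖((f h : ℂˣ) : ℂ)‖ = 1 :=
    Complex.norm_eq_one_of_pow_eq_one hpow (orderOf_pos h).ne'
  rw [Units.val_inv_eq_inv_val, Complex.inv_eq_conj hn]

namespace BLData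

variable {G : Type u} [Group G] (D : BLData G)

/-- The inclusion of `P` in `C`. -/
def ι : ↥D.P →* ↥D.C := Subgroup.inclusion D.hPC

theorem ι_coe (y : ↥D.P) : ((D.ι y : ↥D.C) : G) = (y : G) := rfl

theorem π_ι (y : ↥D.P) : D.π (D.ι y) = y := D.hπ y

theorem comm_P (a b : ↥D.P) : a * b = b * a :=
  Subtype.ext (D.hcent a a.2 b (D.hPC b.2))

theorem ι_mul_comm (y : ↥D.P) (c : ↥D.C) : D.ι y * c = c * D.ι y :=
  Subtype.ext (D.hcent y y.2 c c.2)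

theorem ι_mem_center (y : ↥D.P) : D.ι y ∈ Subgroup.center ↥D.C :=
  Subgroup.mem_center_iff.mpr (fun c => (D.ι_mul_comm y c).symm)

/-- Conjugation by `x ∈ N` as an automorphism of `C`: `c ↦ x⁻¹ c x`. -/
def cj (x : ↥D.N) : ↥D.C ≃* ↥D.C where
  toFun c := ⟨(x : G)⁻¹ * c * x, conj_mem_of_mem_normalizer (D.hNC x.2) c.2⟩
  invFun c := ⟨(x : G) * c * (x : G)⁻¹, by
    have h := conj_mem_of_mem_normalizer (D.hNC (inv_mem x.2)) c.2
    simpa using h⟩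
  left_inv c := Subtype.ext (by simp [mul_assoc])
  right_inv c := Subtype.ext (by simp [mul_assoc])
  map_mul' a b := Subtype.ext (by simp [mul_assoc])

theorem cj_coe (x : ↥D.N) (c : ↥D.C) : ((D.cj x c : ↥D.C) : G) = (x : G)⁻¹ * c * x := rfl

theorem cj_one (c : ↥D.C) : D.cj 1 c = c := Subtype.ext (by simp [cj_coe])

theorem cj_mul (a b : ↥D.N) (c : ↥D.C) : D.cj (a * b) c = D.cj b (D.cj a c) :=
  Subtype.ext (by simp [cj_coe, mul_assoc])

/-- Conjugate of a function on `C` by `x ∈ N`. -/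
def cF (x : ↥D.N) (F : ↥D.C → ℂ) : ↥D.C → ℂ := fun c => F (D.cj x c)

theorem cF_apply (x : ↥D.N) (F : ↥D.C → ℂ) (c : ↥D.C) : D.cF x F c = F (D.cj x c) := rfl

theorem cF_one (F : ↥D.C → ℂ) : D.cF 1 F = F :=
  funext fun c => by rw [cF_apply, cj_one]

theorem cF_mul (a b : ↥D.N) (F : ↥D.C → ℂ) : D.cF (a * b) F = D.cF a (D.cF b F) :=
  funext fun c => by simp only [cF_apply, cj_mul]

theorem cF_inv_cF (x : ↥D.N) (F : ↥D.C → ℂ) : D.cF x⁻¹ (D.cF x F) = F := by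
  rw [← cF_mul, inv_mul_cancel, cF_one]

theorem cF_mul_fun (x : ↥D.N) (F F' : ↥D.C → ℂ) : D.cF x (F * F') = D.cF x F * D.cF x F' := rfl

theorem cF_sub (x : ↥D.N) (F F' : ↥D.C → ℂ) : D.cF x (F - F') = D.cF x F - D.cF x F' := rfl

theorem cF_conj (x : ↥D.N) (F : ↥D.C → ℂ) :
    D.cF x (fun c => conj (F c)) = fun c => conj (D.cF x F c) := rfl

theorem cF_of_mem (x : ↥D.N) (hx : (x : G) ∈ D.C) {F : ↥D.C → ℂ}
    (hF : IsClassFunction ↥D.C F) : D.cF x F = F := by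
  funext c
  have h1 : D.cj x c = (⟨(x : G), hx⟩ : ↥D.C)⁻¹ * c * (⟨(x : G), hx⟩ : ↥D.C)⁻¹⁻¹ :=
    Subtype.ext (by simp [cj_coe])
  rw [cF_apply, h1]
  exact hF c _

theorem cF_restrict (x : ↥D.N) {χ : G → ℂ} (hχ : IsClassFunction G χ) :
    D.cF x (fun c : ↥D.C => χ c) = fun c : ↥D.C => χ c := by
  funext c
  show χ ((x : G)⁻¹ * c * x) = χ c
  have h := hχ (c : G) (x : G)⁻¹
  simpa using h

theorem classInner_cF [Fintype ↥D.C] (x : ↥D.N) (F F' : ↥D.C → ℂ) :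
    classInner (D.cF x F) (D.cF x F') = classInner F F' := by
  unfold classInner
  congr 1
  exact Fintype.sum_equiv (D.cj x).toEquiv _ _ (fun c => rfl)

theorem isIrrCharacter_cF [Finite G] (x : ↥D.N) {ξ : ↥D.C → ℂ}
    (hξ : IsIrrCharacter ↥D.C ξ) : IsIrrCharacter ↥D.C (D.cF x ξ) :=
  isIrrCharacter_comp_equiv (D.cj x) hξ

/-- Conjugate of a linear character of `P` by `x ∈ N`. -/
def cjw (x : ↥D.N) (w : ↥D.P →* ℂˣ) : ↥D.P →* ℂˣ :=
  w.comp (cjHom D.P (x : G) (D.hNP x.2))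

theorem cjw_apply (x : ↥D.N) (w : ↥D.P →* ℂˣ) (y : ↥D.P) :
    D.cjw x w y = w (cjHom D.P (x : G) (D.hNP x.2) y) := rfl

theorem cjw_one (w : ↥D.P →* ℂˣ) : D.cjw 1 w = w :=
  MonoidHom.ext fun y => by
    rw [cjw_apply]
    congr 1
    exact Subtype.ext (by simp [cjHom])

theorem cjw_mul (a b : ↥D.N) (w : ↥D.P →* ℂˣ) : D.cjw (a * b) w = D.cjw a (D.cjw b w) :=
  MonoidHom.ext fun y => by
    rw [cjw_apply, cjw_apply, cjw_apply]
    congr 1
    exact Subtype.ext (by simp [cjHom, mul_assoc])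

theorem cjw_inv_cjw (x : ↥D.N) (w : ↥D.P →* ℂˣ) : D.cjw x⁻¹ (D.cjw x w) = w := by
  rw [← cjw_mul, inv_mul_cancel, cjw_one]

theorem cjw_one_right (x : ↥D.N) : D.cjw x 1 = 1 := rfl

theorem cjw_of_mem (x : ↥D.N) (hx : (x : G) ∈ D.C) (w : ↥D.P →* ℂˣ) : D.cjw x w = w :=
  MonoidHom.ext fun y => by
    rw [cjw_apply]
    congr 1
    apply Subtype.ext
    show (x : G)⁻¹ * (y : G) * (x : G) = (y : G)
    rw [mul_assoc, D.hcent y y.2 x hx, inv_mul_cancel_left]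

theorem cj_ι (x : ↥D.N) (y : ↥D.P) :
    D.cj x (D.ι y) = D.ι (cjHom D.P (x : G) (D.hNP x.2) y) := Subtype.ext rfl

/-- Semiregularity: an element of `N ∖ C` fixes no nontrivial linear character of `P`. -/
theorem cjw_eq_self [Finite G] (x : ↥D.N) (hx : (x : G) ∉ D.C) {w : ↥D.P →* ℂˣ}
    (h : D.cjw x w = w) : w = 1 := by
  let f : ↥D.P → ↥D.P := fun y => cjHom D.P (x : G) (D.hNP x.2) y * y⁻¹
  have hinj : Function.Injective f := by
    intro a b hab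
    have hab' : cjHom D.P (x : G) (D.hNP x.2) a * a⁻¹ =
        cjHom D.P (x : G) (D.hNP x.2) b * b⁻¹ := hab
    have h1 : cjHom D.P (x : G) (D.hNP x.2) (b⁻¹ * a) = b⁻¹ * a := by
      rw [map_mul, map_inv]
      calc (cjHom D.P (x : G) (D.hNP x.2) b)⁻¹ * cjHom D.P (x : G) (D.hNP x.2) a
          = (cjHom D.P (x : G) (D.hNP x.2) b)⁻¹ *
              (cjHom D.P (x : G) (D.hNP x.2) a * a⁻¹) * a := by group
        _ = (cjHom D.P (x : G) (D.hNP x.2) b)⁻¹ *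
              (cjHom D.P (x : G) (D.hNP x.2) b * b⁻¹) * a := by rw [hab']
        _ = b⁻¹ * a := by group
    have h2 : (b⁻¹ * a : ↥D.P) = 1 := by
      have h3 := D.hsemi x x.2 hx ((b⁻¹ * a : ↥D.P) : G) (b⁻¹ * a : ↥D.P).2
        (congrArg Subtype.val h1)
      exact Subtype.ext h3
    exact (inv_mul_eq_one.mp h2).symm
  have hsurj : Function.Surjective f := Finite.surjective_of_injective hinj
  refine MonoidHom.ext fun y => ?_
  obtain ⟨z, rfl⟩ := hsurj y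
  have h4 : w (cjHom D.P (x : G) (D.hNP x.2) z) = w z :=
    congrArg (fun v : ↥D.P →* ℂˣ => v z) h
  show w (cjHom D.P (x : G) (D.hNP x.2) z * z⁻¹) = 1
  rw [map_mul, h4, map_inv, mul_inv_cancel]

/-- The linear character `κ ∘ π` of `C`, as a function. -/
noncomputable def tw (κ : ↥D.P →* ℂˣ) : ↥D.C → ℂ := fun c => ((κ (D.π c) : ℂˣ) : ℂ)

theorem tw_apply (κ : ↥D.P →* ℂˣ) (c : ↥D.C) : D.tw κ c = ((κ (D.π c) : ℂˣ) : ℂ) := rfl

theorem tw_one : D.tw 1 = 1 := funext fun c => by simp [tw]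

theorem tw_apply_one (κ : ↥D.P →* ℂˣ) : D.tw κ 1 = 1 := by simp [tw]

theorem tw_mul (κ κ' : ↥D.P →* ℂˣ) : D.tw (κ * κ') = D.tw κ * D.tw κ' :=
  funext fun c => by simp [tw]

theorem conj_tw [Finite G] (κ : ↥D.P →* ℂˣ) (c : ↥D.C) : conj (D.tw κ c) = D.tw κ⁻¹ c := by
  rw [tw_apply, unit_conj_eq_inv, tw_apply, MonoidHom.inv_apply]

theorem isIrrCharacter_tw (κ : ↥D.P →* ℂˣ) : IsIrrCharacter ↥D.C (D.tw κ) :=
  Cfsg.Agent.Lib.helper82.isIrrCharacter_of_hom (κ.comp D.π)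

theorem isIrrCharacter_mul_tw [Fintype ↥D.C] {ξ : ↥D.C → ℂ} (hξ : IsIrrCharacter ↥D.C ξ)
    (κ : ↥D.P →* ℂˣ) : IsIrrCharacter ↥D.C (ξ * D.tw κ) :=
  Cfsg.Agent.Lib.helper19.isIrr_mul_linear ξ (D.tw κ) hξ (D.isIrrCharacter_tw κ)
    (D.tw_apply_one κ)

/-- `F` has weight `w` on the central subgroup `P`. -/
def HasWt (F : ↥D.C → ℂ) (w : ↥D.P →* ℂˣ) : Prop :=
  ∀ (y : ↥D.P) (c : ↥D.C), F (D.ι y * c) = ((w y : ℂˣ) : ℂ) * F c

theorem hasWt_tw (κ : ↥D.P →* ℂˣ) : D.HasWt (D.tw κ) κ := by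
  intro y c
  rw [tw_apply, tw_apply, map_mul, D.π_ι, map_mul, Units.val_mul]

theorem hasWt_mul {F F' : ↥D.C → ℂ} {w w' : ↥D.P →* ℂˣ} (h : D.HasWt F w)
    (h' : D.HasWt F' w') : D.HasWt (F * F') (w * w') := by
  intro y c
  rw [Pi.mul_apply, Pi.mul_apply, h, h', MonoidHom.mul_apply, Units.val_mul]
  ring

theorem hasWt_conj [Finite G] {F : ↥D.C → ℂ} {w : ↥D.P →* ℂˣ} (h : D.HasWt F w) :
    D.HasWt (fun c => conj (F c)) w⁻¹ := by
  intro y c
  show conj (F (D.ι y * c)) = (((w⁻¹ y : ℂˣ)) : ℂ) * conj (F c)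
  rw [h, map_mul, unit_conj_eq_inv, MonoidHom.inv_apply]

theorem hasWt_cF {F : ↥D.C → ℂ} {w : ↥D.P →* ℂˣ} (h : D.HasWt F w) (x : ↥D.N) :
    D.HasWt (D.cF x F) (D.cjw x w) := by
  intro y c
  rw [cF_apply, map_mul, cj_ι, h]
  rfl

theorem hasWt_unique {F : ↥D.C → ℂ} {w w' : ↥D.P →* ℂˣ} (h : D.HasWt F w)
    (h' : D.HasWt F w') (h1 : F 1 ≠ 0) : w = w' := by
  refine MonoidHom.ext fun y => Units.ext ?_
  have e1 := h y 1
  have e2 := h' y 1
  rw [e1] at e2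
  exact mul_right_cancel₀ h1 e2

theorem classInner_eq_zero_of_hasWt [Finite G] [Fintype ↥D.C] {F F' : ↥D.C → ℂ}
    {w w' : ↥D.P →* ℂˣ} (h : D.HasWt F w) (h' : D.HasWt F' w') (hne : w ≠ w') :
    classInner F F' = 0 := by
  obtain ⟨y, hy⟩ : ∃ y, w y ≠ w' y := by
    by_contra hcon
    push Not at hcon
    exact hne (MonoidHom.ext hcon)
  have hS : ∑ c : ↥D.C, F c * conj (F' c) =
      (((w y : ℂˣ) : ℂ) * (((w' y)⁻¹ : ℂˣ) : ℂ)) * ∑ c : ↥D.C, F c * conj (F' c) := by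
    rw [Finset.mul_sum]
    rw [← Equiv.sum_comp (Equiv.mulLeft (D.ι y)) (fun c => F c * conj (F' c))]
    refine Finset.sum_congr rfl (fun c _ => ?_)
    simp only [Equiv.coe_mulLeft]
    rw [h, h', map_mul, unit_conj_eq_inv]
    ring
  have hne1 : ((w y : ℂˣ) : ℂ) * (((w' y)⁻¹ : ℂˣ) : ℂ) ≠ 1 := by
    intro h1
    apply hy
    have h2 : w y * (w' y)⁻¹ = 1 := Units.ext (by rw [Units.val_mul]; exact h1)
    exact mul_inv_eq_one.mp h2
  have hS0 : ∑ c : ↥D.C, F c * conj (F' c) = 0 := by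
    have h3 : (1 - ((w y : ℂˣ) : ℂ) * (((w' y)⁻¹ : ℂˣ) : ℂ)) *
        ∑ c : ↥D.C, F c * conj (F' c) = 0 := by
      rw [sub_mul, one_mul, ← hS, sub_self]
    rcases mul_eq_zero.mp h3 with h0 | h0
    · exact absurd (sub_eq_zero.mp h0).symm hne1
    · exact h0
  unfold classInner
  rw [hS0, mul_zero]

/-- Every irreducible character of `C` has a weight on `P`. -/
theorem exists_hasWt [Finite G] {ξ : ↥D.C → ℂ} (hξ : IsIrrCharacter ↥D.C ξ) :
    ∃ w : ↥D.P →* ℂˣ, D.HasWt ξ w := by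
  have h0 : ξ 1 ≠ 0 := irr_degree_ne_zero hξ
  have key : ∀ (y : ↥D.P) (c : ↥D.C), ξ (D.ι y * c) = ξ (D.ι y) / ξ 1 * ξ c := by
    intro y c
    rw [D.ι_mul_comm y c]
    exact irr_mul_center_eq ⟨ξ, hξ⟩ (D.ι_mem_center y) c
  let w₀ : ↥D.P →* ℂ :=
    { toFun := fun y => ξ (D.ι y) / ξ 1
      map_one' := by
        show ξ (D.ι 1) / ξ 1 = 1
        rw [map_one]; exact div_self h0
      map_mul' := fun a b => by
        show ξ (D.ι (a * b)) / ξ 1 = ξ (D.ι a) / ξ 1 * (ξ (D.ι b) / ξ 1)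
        rw [map_mul, key a (D.ι b)]; ring }
  refine ⟨w₀.toHomUnits, fun y c => ?_⟩
  rw [MonoidHom.coe_toHomUnits]
  exact key y c

/-- The number of elements of `N` lying in `C`. -/
theorem card_filter_mem_C [Fintype ↥D.N] [DecidablePred fun x : ↥D.N => (x : G) ∈ D.C] :
    (Finset.univ.filter (fun x : ↥D.N => (x : G) ∈ D.C)).card = Nat.card ↥D.C := by
  rw [← Fintype.card_subtype, ← Nat.card_eq_fintype_card]
  exact Nat.card_congr
    ⟨fun x => ⟨x.1.1, x.2⟩, fun c => ⟨⟨c.1, D.hCN c.2⟩, c.2⟩, fun _ => rfl, fun _ => rfl⟩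

theorem sum_ite_mem_C [Fintype ↥D.N] [DecidablePred fun x : ↥D.N => (x : G) ∈ D.C] (a : ℂ) :
    ∑ x : ↥D.N, (if (x : G) ∈ D.C then a else 0) = (Nat.card ↥D.C : ℂ) * a := by
  rw [← Finset.sum_filter, Finset.sum_const, card_filter_mem_C, nsmul_eq_mul]

end BLData

end Cfsg.Agent.Lib.helper21
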