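import Mathlib
import Cfsg.Agent.Lib.helper21.BLBasic

set_option autoImplicit false

/-!
# Brauer–Leonard: induction from `C` (helper21 library)

Induced class functions from `C` vanishing where `π c = 1`, the norm-two computation giving
exceptional characters, and the decomposition of the restriction of an irreducible character
to `C`.
-/

namespace Cfsg.Agent.Lib.helper21

open Cfsg Cfsg.Agent.Lib.helper4
open scoped ComplexConjugate

universe u

section General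

variable {G : Type u} [Group G] [Fintype G]

/-- `ψ · conj (β^G) = (ψ_H · conj β)^G` for a class function `ψ`. -/
theorem mul_conj_indFun (H : Subgroup G) {ψ : G → ℂ} (hψ : IsClassFunction G ψ) (β : ↥H → ℂ)
    (g : G) :
    ψ g * conj (indFun H β g) = indFun H (fun c : ↥H => ψ c * conj (β c)) g := by
  rw [indFun_apply, indFun_apply, map_mul, map_inv₀, Complex.conj_natCast, map_sum]
  rw [mul_left_comm, Finset.mul_sum]
  congr 1
  refine Finset.sum_congr rfl (fun x _ => ?_)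
  by_cases hx : x⁻¹ * g * x ∈ H
  · rw [extendByZero_apply_mem H _ hx, extendByZero_apply_mem H _ hx]
    have h1 : ψ (x⁻¹ * g * x) = ψ g := by simpa using hψ g x⁻¹
    show ψ g * conj (β ⟨_, hx⟩) = ψ (x⁻¹ * g * x) * conj (β ⟨_, hx⟩)
    rw [h1]
  · rw [extendByZero_apply_of_not_mem H _ hx, extendByZero_apply_of_not_mem H _ hx, map_zero,
      mul_zero]

end General

namespace BLData

variable {G : Type u} [Group G] [Fintype G] (D : BLData G) [Fintype ↥D.C] [Fintype ↥D.N]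

/-- Induction from `C` of a function vanishing where `π c = 1`, evaluated on `C`. -/
theorem indFun_coe_eq (β : ↥D.C → ℂ) (hβ : ∀ c : ↥D.C, D.π c = 1 → β c = 0) (c : ↥D.C) :
    indFun D.C β (c : G) = (Nat.card ↥D.C : ℂ)⁻¹ * ∑ x : ↥D.N, D.cF x β c := by
  classical
  rw [indFun_apply]
  congr 1
  have hvan : ∀ g : G, g ∉ D.N → extendByZero D.C β (g⁻¹ * (c : G) * g) = 0 := by
    intro g hg
    by_cases hmem : g⁻¹ * (c : G) * g ∈ D.C
    · rw [extendByZero_apply_mem _ _ hmem]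
      apply hβ
      by_contra hπ
      apply hg
      have h1 := D.hTI ⟨_, hmem⟩ hπ g⁻¹ (by simpa [mul_assoc] using c.2)
      simpa using inv_mem h1
    · exact extendByZero_apply_of_not_mem _ _ hmem
  have h2 : ∀ g : G, extendByZero D.C β (g⁻¹ * (c : G) * g) =
      extendByZero D.N (fun x : ↥D.N => D.cF x β c) g := by
    intro g
    by_cases hg : g ∈ D.N
    · rw [extendByZero_apply_mem D.N _ hg,
        extendByZero_apply_mem D.C β (conj_mem_of_mem_normalizer (D.hNC hg) c.2)]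
      rfl
    · rw [hvan g hg, extendByZero_apply_of_not_mem D.N _ hg]
  simp only [h2]
  exact sum_extendByZero D.N _

theorem classInner_indFun_indFun' (β β' : ↥D.C → ℂ)
    (hβ' : ∀ c : ↥D.C, D.π c = 1 → β' c = 0) :
    classInner (indFun D.C β) (indFun D.C β') =
      (Nat.card ↥D.C : ℂ)⁻¹ * ∑ x : ↥D.N, classInner β (D.cF x β') := by
  rw [frobenius_reciprocity D.C β (isClassFunction_indFun D.C β')]
  have h1 : (fun c : ↥D.C => indFun D.C β' (c : G)) =
      (Nat.card ↥D.C : ℂ)⁻¹ • ∑ x : ↥D.N, D.cF x β' := by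
    funext c
    rw [D.indFun_coe_eq β' hβ' c, Pi.smul_apply, Finset.sum_apply, smul_eq_mul]
  rw [h1, classInner_smul_right, classInner_sum_right, map_inv₀, Complex.conj_natCast]

theorem norm_indFun_twist {φ₁ : ↥D.C → ℂ} (hφ₁ : IsIrrCharacter ↥D.C φ₁)
    {l₁ κ : ↥D.P →* ℂˣ} (hw : D.HasWt φ₁ l₁) (hκ : κ ≠ 1)
    (h1 : ∀ x : ↥D.N, (x : G) ∉ D.C → D.cjw x l₁ ≠ l₁)
    (h2 : ∀ x : ↥D.N, D.cjw x (l₁ * κ) ≠ l₁)
    (h3 : ∀ x : ↥D.N, D.cjw x l₁ ≠ l₁ * κ)
    (h4 : ∀ x : ↥D.N, (x : G) ∉ D.C → D.cjw x (l₁ * κ) ≠ l₁ * κ) :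
    classInner (indFun D.C (φ₁ - φ₁ * D.tw κ)) (indFun D.C (φ₁ - φ₁ * D.tw κ)) = 2 := by
  classical
  have hfin : Finite G := Finite.of_fintype G
  have hC : (Nat.card ↥D.C : ℂ) ≠ 0 := by exact_mod_cast (Nat.card_pos (α := ↥D.C)).ne'
  have hφ₂ : IsIrrCharacter ↥D.C (φ₁ * D.tw κ) := D.isIrrCharacter_mul_tw hφ₁ κ
  have hw₂ : D.HasWt (φ₁ * D.tw κ) (l₁ * κ) := D.hasWt_mul hw (D.hasWt_tw κ)
  have hβ : ∀ c : ↥D.C, D.π c = 1 → (φ₁ - φ₁ * D.tw κ) c = 0 := by
    intro c hc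
    rw [Pi.sub_apply, Pi.mul_apply, tw_apply, hc, map_one, Units.val_one, mul_one, sub_self]
  have hne12 : l₁ ≠ l₁ * κ := fun h =>
    hκ (mul_left_cancel (h.symm.trans (mul_one l₁).symm))
  rw [D.classInner_indFun_indFun' _ _ hβ]
  have hterm : ∀ x : ↥D.N, classInner (φ₁ - φ₁ * D.tw κ) (D.cF x (φ₁ - φ₁ * D.tw κ)) =
      if (x : G) ∈ D.C then 2 else 0 := by
    intro x
    rw [cF_sub, classInner_sub_left, classInner_sub_right, classInner_sub_right]
    by_cases hx : (x : G) ∈ D.C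
    · rw [if_pos hx, D.cF_of_mem x hx (isClassFunction_of_isIrrCharacter hφ₁),
        D.cF_of_mem x hx (isClassFunction_of_isIrrCharacter hφ₂)]
      rw [classInner_irr_self hφ₁, classInner_irr_self hφ₂,
        D.classInner_eq_zero_of_hasWt hw hw₂ hne12,
        D.classInner_eq_zero_of_hasWt hw₂ hw (Ne.symm hne12)]
      norm_num
    · rw [if_neg hx]
      rw [D.classInner_eq_zero_of_hasWt hw (D.hasWt_cF hw x) (Ne.symm (h1 x hx)),
        D.classInner_eq_zero_of_hasWt hw (D.hasWt_cF hw₂ x) (Ne.symm (h2 x)),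
        D.classInner_eq_zero_of_hasWt hw₂ (D.hasWt_cF hw x) (Ne.symm (h3 x)),
        D.classInner_eq_zero_of_hasWt hw₂ (D.hasWt_cF hw₂ x) (Ne.symm (h4 x hx))]
      norm_num
  rw [Finset.sum_congr rfl (fun x _ => hterm x), D.sum_ite_mem_C, ← mul_assoc,
    inv_mul_cancel₀ hC, one_mul]

/-- The key inequality: twisting one constituent of `ψ_C` gives another irreducible character
`ψ'` of `G`, and `[ψ ψ̄', θ]` is a natural number. -/
theorem twist_ineq {ψ θ : G → ℂ} (hψ : IsIrrCharacter G ψ) (hθ : IsIrrCharacter G θ)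
    {φ₁ : ↥D.C → ℂ} (hφ₁ : IsIrrCharacter ↥D.C φ₁)
    {l₁ κ : ↥D.P →* ℂˣ} (hw : D.HasWt φ₁ l₁) (hκ : κ ≠ 1)
    (h1 : ∀ x : ↥D.N, (x : G) ∉ D.C → D.cjw x l₁ ≠ l₁)
    (h2 : ∀ x : ↥D.N, D.cjw x (l₁ * κ) ≠ l₁)
    (h3 : ∀ x : ↥D.N, D.cjw x l₁ ≠ l₁ * κ)
    (h4 : ∀ x : ↥D.N, (x : G) ∉ D.C → D.cjw x (l₁ * κ) ≠ l₁ * κ)
    (hm1 : classInner φ₁ (fun c : ↥D.C => ψ c) = 1)
    (hm0 : classInner (φ₁ * D.tw κ) (fun c : ↥D.C => ψ c) = 0) :
    ∃ k : ℕ, classInner (ψ * fun g => conj (ψ g)) θ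
      - classInner ((fun c : ↥D.C => ψ c) * fun c => conj (φ₁ c)) (fun c : ↥D.C => θ c)
      + classInner ((fun c : ↥D.C => ψ c) * (fun c => conj (φ₁ c)) * D.tw κ⁻¹)
          (fun c : ↥D.C => θ c) = (k : ℂ) := by
  classical
  have hfin : Finite G := Finite.of_fintype G
  have hφ₂ := D.isIrrCharacter_mul_tw hφ₁ κ
  have hnorm := D.norm_indFun_twist hφ₁ hw hκ h1 h2 h3 h4
  obtain ⟨β, hβdef⟩ : ∃ β : ↥D.C → ℂ, β = φ₁ - φ₁ * D.tw κ := ⟨_, rfl⟩
  rw [← hβdef] at hnorm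
  have hgen : IsGeneralizedCharacter G (indFun D.C β) :=
    isGeneralizedCharacter_indFun D.C ⟨φ₁, φ₁ * D.tw κ, isCharacter_of_isIrrCharacter hφ₁,
      isCharacter_of_isIrrCharacter hφ₂, hβdef⟩
  have hone : indFun D.C β 1 = 0 := by
    rw [indFun_one, hβdef, Pi.sub_apply, Pi.mul_apply, D.tw_apply_one, mul_one, sub_self,
      mul_zero]
  obtain ⟨A, B, hA, hB, hAB, hAB'⟩ := exists_irr_sub_irr_of_norm_two hgen hnorm hone
  have hψcf := isClassFunction_of_isIrrCharacter hψ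
  have hin : classInner (indFun D.C β) ψ = 1 := by
    rw [frobenius_reciprocity D.C β hψcf, hβdef, classInner_sub_left, hm1, hm0, sub_zero]
  have hAψ : A = ψ := by
    by_contra hne
    rw [hAB', classInner_sub_left, classInner_irr_ne hA hψ hne, zero_sub] at hin
    by_cases hBψ : B = ψ
    · rw [hBψ, classInner_irr_self hψ] at hin
      norm_num at hin
    · rw [classInner_irr_ne hB hψ hBψ] at hin
      norm_num at hin
  have hB' : B = ψ - indFun D.C β := by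
    rw [hAB', hAψ]; abel
  have hchar : IsCharacter G (ψ * fun g => conj (B g)) :=
    isCharacter_mul (isCharacter_of_isIrrCharacter hψ)
      (isCharacter_conj (isCharacter_of_isIrrCharacter hB))
  obtain ⟨k, hk⟩ := exists_nat_classInner_irr hchar hθ
  refine ⟨k, ?_⟩
  rw [← hk]
  have hexp : (ψ * fun g => conj (B g)) = (ψ * fun g => conj (ψ g)) -
      indFun D.C (fun c : ↥D.C => ψ c * conj (β c)) := by
    funext g
    show ψ g * conj (B g) = ψ g * conj (ψ g) -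
      indFun D.C (fun c : ↥D.C => ψ c * conj (β c)) g
    rw [← mul_conj_indFun D.C hψcf β g, hB', Pi.sub_apply, map_sub, mul_sub]
  rw [hexp, classInner_sub_left,
    frobenius_reciprocity D.C _ (isClassFunction_of_isIrrCharacter hθ)]
  have hβ2 : (fun c : ↥D.C => ψ c * conj (β c)) =
      ((fun c : ↥D.C => ψ c) * fun c => conj (φ₁ c)) -
        ((fun c : ↥D.C => ψ c) * (fun c => conj (φ₁ c)) * D.tw κ⁻¹) := by
    funext c
    simp only [hβdef, Pi.sub_apply, Pi.mul_apply, map_sub, map_mul, D.conj_tw]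
    ring
  rw [hβ2, classInner_sub_left]
  ring

theorem classInner_cF_self {φ : ↥D.C → ℂ} (hφ : IsIrrCharacter ↥D.C φ)
    {lam : ↥D.P →* ℂˣ} (hw : D.HasWt φ lam) (hlam : lam ≠ 1) (z : ↥D.N)
    [Decidable ((z : G) ∈ D.C)] :
    classInner φ (D.cF z φ) = if (z : G) ∈ D.C then 1 else 0 := by
  have hfin : Finite G := Finite.of_fintype G
  by_cases hz : (z : G) ∈ D.C
  · rw [if_pos hz, D.cF_of_mem z hz (isClassFunction_of_isIrrCharacter hφ),
      classInner_irr_self hφ]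
  · rw [if_neg hz]
    exact D.classInner_eq_zero_of_hasWt hw (D.hasWt_cF hw z)
      (fun h => hlam (D.cjw_eq_self z hz h.symm))

theorem sum_classInner_cF {φ : ↥D.C → ℂ} (hφ : IsIrrCharacter ↥D.C φ)
    {lam : ↥D.P →* ℂˣ} (hw : D.HasWt φ lam) (hlam : lam ≠ 1) (x : ↥D.N) :
    ∑ z : ↥D.N, classInner (D.cF x φ) (D.cF z φ) = (Nat.card ↥D.C : ℂ) := by
  classical
  have h1 : ∀ z : ↥D.N, classInner (D.cF x φ) (D.cF z φ) =
      classInner φ (D.cF (x⁻¹ * z) φ) := by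
    intro z
    rw [← D.classInner_cF x⁻¹ (D.cF x φ) (D.cF z φ), D.cF_inv_cF, ← D.cF_mul]
  rw [Finset.sum_congr rfl (fun z _ => h1 z)]
  have h2 : ∑ z : ↥D.N, classInner φ (D.cF (x⁻¹ * z) φ) =
      ∑ z : ↥D.N, classInner φ (D.cF z φ) :=
    Fintype.sum_equiv (Equiv.mulLeft x⁻¹) _ _ (fun z => rfl)
  rw [h2, Finset.sum_congr rfl (fun z _ => D.classInner_cF_self hφ hw hlam z),
    D.sum_ite_mem_C, mul_one]

/-- If `‖ψ_C‖² ≤ |N : C|` and `ψ_C` has an irreducible constituent `φ` of nontrivial weight,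
then `ψ_C` is the sum of the `N`-conjugates of `φ`. -/
theorem restrict_eq_avg {ψ : G → ℂ} (hψ : IsIrrCharacter G ψ) (e : ℕ)
    (he : Nat.card ↥D.N = e * Nat.card ↥D.C)
    (hnorm : (classInner (fun c : ↥D.C => ψ c) (fun c : ↥D.C => ψ c)).re ≤ e)
    {φ : ↥D.C → ℂ} (hφ : IsIrrCharacter ↥D.C φ) {lam : ↥D.P →* ℂˣ} (hw : D.HasWt φ lam)
    (hlam : lam ≠ 1) (hφψ : classInner φ (fun c : ↥D.C => ψ c) ≠ 0) :
    (fun c : ↥D.C => ψ c) = (Nat.card ↥D.C : ℂ)⁻¹ • ∑ x : ↥D.N, D.cF x φ := by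
  classical
  have hfin : Finite G := Finite.of_fintype G
  obtain ⟨Ψ, hΨdef⟩ : ∃ Ψ : ↥D.C → ℂ, Ψ = fun c : ↥D.C => ψ c := ⟨_, rfl⟩
  obtain ⟨Φ, hΦdef⟩ : ∃ Φ : ↥D.C → ℂ, Φ = (Nat.card ↥D.C : ℂ)⁻¹ • ∑ x : ↥D.N, D.cF x φ :=
    ⟨_, rfl⟩
  rw [← hΨdef] at hnorm hφψ ⊢
  rw [← hΦdef]
  have hC : (Nat.card ↥D.C : ℂ) ≠ 0 := by exact_mod_cast (Nat.card_pos (α := ↥D.C)).ne'
  have hΨchar : IsCharacter ↥D.C Ψ := by
    rw [hΨdef]; exact isCharacter_restrict D.C (isCharacter_of_isIrrCharacter hψ)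
  obtain ⟨n, hn⟩ := exists_nat_classInner (isCharacter_of_isIrrCharacter hφ) hΨchar
  have hn1 : 1 ≤ n := by
    rcases Nat.eq_zero_or_pos n with h0 | h0
    · exfalso; apply hφψ; rw [hn, h0]; simp
    · exact h0
  have hcfΨ : ∀ x : ↥D.N, D.cF x Ψ = Ψ := fun x => by
    rw [hΨdef]; exact D.cF_restrict x (isClassFunction_of_isIrrCharacter hψ)
  have hNe : (Nat.card ↥D.N : ℂ) = (e : ℂ) * (Nat.card ↥D.C : ℂ) := by
    rw [he]; push_cast; ring
  have hΦΨ : classInner Φ Ψ = (e : ℂ) * n := by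
    rw [hΦdef, classInner_smul_left, classInner_sum_left]
    have h1 : ∀ x : ↥D.N, classInner (D.cF x φ) Ψ = n := by
      intro x
      have h2 := D.classInner_cF x φ Ψ
      rw [hcfΨ x] at h2
      rw [h2, hn]
    rw [Finset.sum_congr rfl (fun x _ => h1 x), Finset.sum_const, Finset.card_univ,
      nsmul_eq_mul, ← Nat.card_eq_fintype_card, hNe]
    field_simp
  have hΨΦ : classInner Ψ Φ = (e : ℂ) * n := by
    rw [← classInner_conj_symm, hΦΨ]; simp
  have hΦΦ : classInner Φ Φ = (e : ℂ) := by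
    rw [hΦdef, classInner_smul_left, classInner_smul_right, classInner_sum_left]
    have h1 : ∀ x : ↥D.N, classInner (D.cF x φ) (∑ z : ↥D.N, D.cF z φ) =
        (Nat.card ↥D.C : ℂ) := by
      intro x
      rw [classInner_sum_right]
      exact D.sum_classInner_cF hφ hw hlam x
    rw [Finset.sum_congr rfl (fun x _ => h1 x), Finset.sum_const, Finset.card_univ,
      nsmul_eq_mul, ← Nat.card_eq_fintype_card, hNe, map_inv₀, Complex.conj_natCast]
    field_simp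
  have hcast : ((e : ℂ) * (n : ℂ)) = (((e * n : ℕ) : ℝ) : ℂ) := by push_cast; ring
  have hcast' : (e : ℂ) = ((e : ℝ) : ℂ) := by push_cast; ring
  have hsub : classInner (Ψ - Φ) (Ψ - Φ) =
      classInner Ψ Ψ - (((e * n : ℕ) : ℝ) : ℂ) - (((e * n : ℕ) : ℝ) : ℂ) + ((e : ℝ) : ℂ) := by
    rw [classInner_sub_left, classInner_sub_right, classInner_sub_right, hΨΦ, hΦΨ, hΦΦ,
      ← hcast, ← hcast']
    ring
  have hre : (classInner (Ψ - Φ) (Ψ - Φ)).re ≤ 0 := by
    rw [hsub]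
    simp only [Complex.sub_re, Complex.add_re, Complex.ofReal_re]
    have h5 : (e : ℝ) ≤ ((e * n : ℕ) : ℝ) := by
      exact_mod_cast Nat.le_mul_of_pos_right e hn1
    linarith
  have hzero : classInner (Ψ - Φ) (Ψ - Φ) = 0 := by
    apply Complex.ext
    · exact le_antisymm hre (Cfsg.Agent.Lib.helper32.classInner_self_re_nonneg _)
    · exact Cfsg.Agent.Lib.helper32.classInner_self_im _
  exact sub_eq_zero.mp (Cfsg.Agent.Lib.helper32.classInner_self_eq_zero hzero)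

end BLData

end Cfsg.Agent.Lib.helper21
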