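import Mathlib
import Cfsg.Agent.Lib.helper21.BLInd

set_option autoImplicit false

/-!
# Brauer–Leonard: the counting argument (helper21 library)

`no_mixed`: if `ψ` is an irreducible character of `G` whose restriction to `C` is the sum of the
`N`-conjugates of an irreducible `φ` of nontrivial weight, and `ψ(1)²` is at most the number of
nontrivial linear characters of `P` outside the `N`-orbit of the weight of `φ`, then no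
irreducible constituent `θ` of `ψ ψ̄` restricts to `C` with both a `P`-trivial and a
`P`-nontrivial irreducible constituent.
-/

namespace Cfsg.Agent.Lib.helper21

open Cfsg Cfsg.Agent.Lib.helper4
open scoped ComplexConjugate

universe u

/-- The purely arithmetic core of the counting argument. -/
theorem bl_count {I X : Type*} [Fintype I] [Fintype X] [DecidableEq I] (T : Finset I)
    (n : I → ℕ) (h g1 Gs : X → I → ℝ) (γ1 γt : I → ℝ) (m a e cC : ℕ)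
    (hX : Fintype.card X = e * cC) (hcC : 0 < cC) (he : 0 < e) (ha : 0 < a)
    (hi : ∀ x, (m : ℝ) * (∑ ξ, (n ξ : ℝ) * g1 x ξ - a) ≤ ∑ ξ, (n ξ : ℝ) * h x ξ)
    (hii : ∀ x, ∀ ξ ∈ T, h x ξ = 0)
    (hiii : ∀ x ξ, h x ξ ≤ Gs x ξ - g1 x ξ)
    (hiv : ∀ x, 1 ≤ ∑ ξ ∈ T, (n ξ : ℝ) * g1 x ξ)
    (hv1 : ∀ ξ, ∑ x, g1 x ξ = cC * γ1 ξ) (hv2 : ∀ ξ, ∑ x, Gs x ξ = cC * γt ξ)
    (hvi : ∀ ξ, γt ξ ≤ m) (hvii : ∀ ξ, (a : ℝ) * n ξ ≤ γ1 ξ)
    (hviii : e ≤ (Finset.univ.filter (fun ξ => ξ ∉ T ∧ n ξ ≠ 0)).card) : False := by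
  have hm0 : (0 : ℝ) ≤ m := Nat.cast_nonneg m
  have hcCr : (0 : ℝ) < cC := by exact_mod_cast hcC
  have her : (0 : ℝ) < e := by exact_mod_cast he
  have har : (1 : ℝ) ≤ a := by exact_mod_cast ha
  have s1 : ∀ x, (m : ℝ) * (1 + ∑ ξ ∈ Tᶜ, (n ξ : ℝ) * g1 x ξ - a) ≤
      ∑ ξ ∈ Tᶜ, (n ξ : ℝ) * Gs x ξ - ∑ ξ ∈ Tᶜ, (n ξ : ℝ) * g1 x ξ := by
    intro x
    have e1 : ∑ ξ, (n ξ : ℝ) * g1 x ξ =
        ∑ ξ ∈ T, (n ξ : ℝ) * g1 x ξ + ∑ ξ ∈ Tᶜ, (n ξ : ℝ) * g1 x ξ :=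
      (Finset.sum_add_sum_compl T _).symm
    have e2 : ∑ ξ, (n ξ : ℝ) * h x ξ = ∑ ξ ∈ Tᶜ, (n ξ : ℝ) * h x ξ := by
      rw [← Finset.sum_add_sum_compl T,
        Finset.sum_eq_zero (fun ξ hξ => by rw [hii x ξ hξ, mul_zero]), zero_add]
    have e3 : ∑ ξ ∈ Tᶜ, (n ξ : ℝ) * h x ξ ≤
        ∑ ξ ∈ Tᶜ, (n ξ : ℝ) * Gs x ξ - ∑ ξ ∈ Tᶜ, (n ξ : ℝ) * g1 x ξ := by
      rw [← Finset.sum_sub_distrib]
      refine Finset.sum_le_sum (fun ξ _ => ?_)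
      rw [← mul_sub]
      exact mul_le_mul_of_nonneg_left (hiii x ξ) (Nat.cast_nonneg _)
    have e4 := hi x
    have e5 := hiv x
    calc (m : ℝ) * (1 + ∑ ξ ∈ Tᶜ, (n ξ : ℝ) * g1 x ξ - a)
        ≤ (m : ℝ) * (∑ ξ, (n ξ : ℝ) * g1 x ξ - a) := by
          apply mul_le_mul_of_nonneg_left _ hm0
          rw [e1]; linarith
      _ ≤ ∑ ξ, (n ξ : ℝ) * h x ξ := e4
      _ = ∑ ξ ∈ Tᶜ, (n ξ : ℝ) * h x ξ := e2
      _ ≤ _ := e3
  have hU : ∑ x : X, ∑ ξ ∈ Tᶜ, (n ξ : ℝ) * g1 x ξ = cC * ∑ ξ ∈ Tᶜ, (n ξ : ℝ) * γ1 ξ := by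
    rw [Finset.sum_comm, Finset.mul_sum]
    refine Finset.sum_congr rfl (fun ξ _ => ?_)
    rw [← Finset.mul_sum, hv1]; ring
  have hV : ∑ x : X, ∑ ξ ∈ Tᶜ, (n ξ : ℝ) * Gs x ξ = cC * ∑ ξ ∈ Tᶜ, (n ξ : ℝ) * γt ξ := by
    rw [Finset.sum_comm, Finset.mul_sum]
    refine Finset.sum_congr rfl (fun ξ _ => ?_)
    rw [← Finset.mul_sum, hv2]; ring
  have hsum := Finset.sum_le_sum (fun x (_ : x ∈ (Finset.univ : Finset X)) => s1 x)
  have hL : ∑ x : X, (m : ℝ) * (1 + ∑ ξ ∈ Tᶜ, (n ξ : ℝ) * g1 x ξ - a) =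
      (m : ℝ) * ((e : ℝ) * cC * (1 - a) + cC * ∑ ξ ∈ Tᶜ, (n ξ : ℝ) * γ1 ξ) := by
    rw [← Finset.mul_sum]
    congr 1
    have h1 : ∀ x : X, (1 + ∑ ξ ∈ Tᶜ, (n ξ : ℝ) * g1 x ξ - a) =
        (1 - (a : ℝ)) + ∑ ξ ∈ Tᶜ, (n ξ : ℝ) * g1 x ξ := fun x => by ring
    rw [Finset.sum_congr rfl (fun x _ => h1 x), Finset.sum_add_distrib, hU, Finset.sum_const,
      Finset.card_univ, hX, nsmul_eq_mul]
    push_cast; ring
  have hR : ∑ x : X, (∑ ξ ∈ Tᶜ, (n ξ : ℝ) * Gs x ξ - ∑ ξ ∈ Tᶜ, (n ξ : ℝ) * g1 x ξ) =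
      cC * ∑ ξ ∈ Tᶜ, (n ξ : ℝ) * γt ξ - cC * ∑ ξ ∈ Tᶜ, (n ξ : ℝ) * γ1 ξ := by
    rw [Finset.sum_sub_distrib, hU, hV]
  rw [hL, hR] at hsum
  obtain ⟨A1, hA1⟩ : ∃ A1 : ℝ, A1 = ∑ ξ ∈ Tᶜ, (n ξ : ℝ) * γ1 ξ := ⟨_, rfl⟩
  obtain ⟨At, hAt⟩ : ∃ At : ℝ, At = ∑ ξ ∈ Tᶜ, (n ξ : ℝ) * γt ξ := ⟨_, rfl⟩
  rw [← hA1, ← hAt] at hsum
  have key2 : (m : ℝ) * ((e : ℝ) * (1 - a) + A1) ≤ At - A1 := by
    have h1 : (cC : ℝ) * ((m : ℝ) * ((e : ℝ) * (1 - a) + A1)) ≤ (cC : ℝ) * (At - A1) := by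
      calc (cC : ℝ) * ((m : ℝ) * ((e : ℝ) * (1 - a) + A1))
          = (m : ℝ) * ((e : ℝ) * cC * (1 - a) + cC * A1) := by ring
        _ ≤ cC * At - cC * A1 := hsum
        _ = (cC : ℝ) * (At - A1) := by ring
    exact le_of_mul_le_mul_left h1 hcCr
  have hc1 : (1 : ℝ) ≤ ((m : ℝ) + 1) * a - m := by nlinarith
  have lower : (((m : ℝ) + 1) * a - m) * e ≤ ((m : ℝ) + 1) * A1 - At := by
    have hexp : ((m : ℝ) + 1) * A1 - At =
        ∑ ξ ∈ Tᶜ, (n ξ : ℝ) * (((m : ℝ) + 1) * γ1 ξ - γt ξ) := by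
      rw [hA1, hAt, Finset.mul_sum, ← Finset.sum_sub_distrib]
      exact Finset.sum_congr rfl (fun ξ _ => by ring)
    have hterm : ∀ ξ ∈ Tᶜ, (if n ξ ≠ 0 then (((m : ℝ) + 1) * a - m) else 0) ≤
        (n ξ : ℝ) * (((m : ℝ) + 1) * γ1 ξ - γt ξ) := by
      intro ξ _
      by_cases hn : n ξ = 0
      · rw [if_neg (not_not.mpr hn), hn]; simp
      · rw [if_pos hn]
        have hn1 : (1 : ℝ) ≤ n ξ := by exact_mod_cast Nat.one_le_iff_ne_zero.mpr hn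
        have h1 := hvii ξ
        have h2 := hvi ξ
        have h3 : (a : ℝ) ≤ γ1 ξ := by nlinarith
        have h4 : ((m : ℝ) + 1) * a - m ≤ ((m : ℝ) + 1) * γ1 ξ - γt ξ := by nlinarith
        have h5 : (0 : ℝ) ≤ ((m : ℝ) + 1) * γ1 ξ - γt ξ := by linarith
        nlinarith
    rw [hexp]
    refine le_trans ?_ (Finset.sum_le_sum hterm)
    rw [← Finset.sum_filter, Finset.sum_const, nsmul_eq_mul, mul_comm]
    apply mul_le_mul_of_nonneg_right _ (by linarith)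
    have hsub : (Finset.univ.filter (fun ξ => ξ ∉ T ∧ n ξ ≠ 0)) ⊆
        (Tᶜ.filter (fun ξ => n ξ ≠ 0)) := by
      intro ξ hξ
      rw [Finset.mem_filter] at hξ ⊢
      exact ⟨Finset.mem_compl.mpr hξ.2.1, hξ.2.2⟩
    exact_mod_cast le_trans hviii (Finset.card_le_card hsub)
  have h6 : (e : ℝ) * a ≤ 0 := by nlinarith [lower, key2]
  have hpos : (0 : ℝ) < (e : ℝ) * a := mul_pos her (by linarith)
  linarith

section CharGeneral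

variable {H : Type u} [Group H] [Fintype H]

theorem classInner_re_eq_sum_irr [Fintype (IrrCharacter H)] {Θ : H → ℂ}
    (hΘ : IsClassFunction H Θ) (n : IrrCharacter H → ℕ)
    (hn : ∀ ξ : IrrCharacter H, classInner Θ (ξ : H → ℂ) = n ξ) (F : H → ℂ) :
    (classInner F Θ).re = ∑ ξ : IrrCharacter H, (n ξ : ℝ) * (classInner F (ξ : H → ℂ)).re := by
  have h1 : Θ = ∑ ξ : IrrCharacter H, classInner Θ (ξ : H → ℂ) • (ξ : H → ℂ) :=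
    classFunction_eq_sum_irr hΘ
  have h2 : classInner F Θ = ∑ ξ : IrrCharacter H, (n ξ : ℂ) * classInner F (ξ : H → ℂ) := by
    conv_lhs => rw [h1]
    rw [classInner_sum_right]
    refine Finset.sum_congr rfl (fun ξ _ => ?_)
    rw [classInner_smul_right, hn, Complex.conj_natCast]
  rw [h2, Complex.re_sum]
  refine Finset.sum_congr rfl (fun ξ _ => ?_)
  rw [Complex.mul_re]
  simp

theorem sum_re_classInner_le [Fintype (IrrCharacter H)] {Ξ : H → ℂ} (hΞ : IsCharacter H Ξ)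
    (S : Finset (IrrCharacter H)) :
    ∑ χ ∈ S, (classInner Ξ (χ : H → ℂ)).re ≤ (Ξ 1).re := by
  have hcf := isClassFunction_of_isCharacter hΞ
  have h1 := congrFun (classFunction_eq_sum_irr hcf) 1
  choose k hk using (fun χ : IrrCharacter H => exists_nat_classInner_irr hΞ χ.2)
  choose d hd0 hd using (fun χ : IrrCharacter H => exists_pos_nat_degree χ.2)
  have h2 : Ξ 1 = ((∑ χ : IrrCharacter H, k χ * d χ : ℕ) : ℂ) := by
    rw [h1, Finset.sum_apply]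
    push_cast
    refine Finset.sum_congr rfl (fun χ _ => ?_)
    rw [Pi.smul_apply, smul_eq_mul, hk, hd]
  rw [h2, Complex.natCast_re]
  have h3 : ∀ χ ∈ S, (classInner Ξ (χ : H → ℂ)).re ≤ ((k χ * d χ : ℕ) : ℝ) := by
    intro χ _
    rw [hk, Complex.natCast_re]
    exact_mod_cast Nat.le_mul_of_pos_right (k χ) (hd0 χ)
  calc ∑ χ ∈ S, (classInner Ξ (χ : H → ℂ)).re
      ≤ ∑ χ ∈ S, ((k χ * d χ : ℕ) : ℝ) := Finset.sum_le_sum h3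
    _ ≤ ∑ χ : IrrCharacter H, ((k χ * d χ : ℕ) : ℝ) :=
        Finset.sum_le_sum_of_subset_of_nonneg (Finset.subset_univ S)
          (fun χ _ _ => Nat.cast_nonneg _)
    _ = ((∑ χ : IrrCharacter H, k χ * d χ : ℕ) : ℝ) := by rw [Nat.cast_sum]

theorem exists_add_nsmul_of_classInner {Ξ θ : H → ℂ} (hΞ : IsCharacter H Ξ)
    (hθ : IsIrrCharacter H θ) (a : ℕ) (ha : classInner Ξ θ = a) :
    ∃ ρ : H → ℂ, IsCharacter H ρ ∧ Ξ = (a : ℂ) • θ + ρ := by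
  classical
  refine ⟨Ξ - (a : ℂ) • θ, ?_, (add_sub_cancel _ _).symm⟩
  rw [isCharacter_iff_nat_classInner]
  refine ⟨isClassFunction_sub (isClassFunction_of_isCharacter hΞ)
    (isClassFunction_smul _ (isClassFunction_of_isIrrCharacter hθ)), fun χ => ?_⟩
  rw [classInner_sub_left, classInner_smul_left]
  by_cases hχ : θ = (χ : H → ℂ)
  · refine ⟨0, ?_⟩
    rw [← hχ, ha, classInner_irr_self hθ]; simp
  · rw [classInner_irr_ne hθ χ.2 hχ, mul_zero, sub_zero]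
    exact exists_nat_classInner_irr hΞ χ.2

end CharGeneral

end Cfsg.Agent.Lib.helper21
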