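import Mathlib

/-!
# S4471 piece E (`two_eig`): from character values to the two-eigenvalue equation.
-/

set_option autoImplicit false

namespace Cfsg.Agent.Lib.helper68.BL

universe u

theorem helper21_sum_shift {M : Type*} [AddCommGroup M] (f : ℕ → M) (p : ℕ) (h : f p = f 0) :
    ∑ i ∈ Finset.range p, f (i + 1) = ∑ i ∈ Finset.range p, f i := by
  have h1 := Finset.sum_range_succ f p
  have h2 := Finset.sum_range_succ' f p
  rw [h1, h] at h2
  exact (add_right_cancel h2).symm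

theorem helper21_geom_zero (ω : ℂ) (p : ℕ) (hω : ω ^ p = 1) (hω1 : ω ≠ 1) :
    ∑ i ∈ Finset.range p, ω ^ i = 0 := by
  have h := mul_geom_sum ω p
  rw [hω, sub_self] at h
  exact (mul_eq_zero.1 h).resolve_left (sub_ne_zero.2 hω1)

/-- E : if `tr ρ(z^k) = c + p ω^k` for all `k` then `ρ(z)` has only the eigenvalues `1` and `ω`. -/
theorem two_eig {G : Type u} [Group G] {n : ℕ} (ρ : Representation ℂ G (Fin n → ℂ)) (z : G) (p : ℕ)
    (hp : p.Prime) (hz : z ^ p = 1) (ω : ℂ) (hω : ω ^ p = 1) (hω1 : ω ≠ 1) (c : ℂ)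
    (hval : ∀ k : ℕ, ρ.character (z ^ k) = c + p * ω ^ k) :
    (ρ z - 1) * (ρ z - ω • (1 : Module.End ℂ (Fin n → ℂ))) = 0 := by
  obtain ⟨A, hA⟩ : ∃ A : Module.End ℂ (Fin n → ℂ), A = ρ z := ⟨_, rfl⟩
  rw [← hA]
  have hAp : A ^ p = 1 := by rw [hA, ← map_pow, hz, map_one]
  have hp0 : (p : ℂ) ≠ 0 := Nat.cast_ne_zero.2 hp.ne_zero
  have hω0 : ω ≠ 0 := by
    rintro rfl
    rw [zero_pow hp.ne_zero] at hω
    exact zero_ne_one hω
  obtain ⟨ν, hν⟩ : ∃ ν : ℂ, ν = ω⁻¹ := ⟨_, rfl⟩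
  have hνp : ν ^ p = 1 := by rw [hν, inv_pow, hω, inv_one]
  have hν1 : ν ≠ 1 := by
    rw [hν]
    intro h
    exact hω1 (inv_eq_one.1 h)
  have hνω : ω * ν = 1 := by rw [hν]; exact mul_inv_cancel₀ hω0
  have htr : ∀ k : ℕ, LinearMap.trace ℂ (Fin n → ℂ) (A ^ k) = c + p * ω ^ k := by
    intro k
    have h := hval k
    rw [hA, ← map_pow]
    exact h
  obtain ⟨S1, hS1⟩ : ∃ S1 : Module.End ℂ (Fin n → ℂ), S1 = ∑ i ∈ Finset.range p, A ^ i := ⟨_, rfl⟩
  obtain ⟨S2, hS2⟩ : ∃ S2 : Module.End ℂ (Fin n → ℂ),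
      S2 = ∑ i ∈ Finset.range p, ν ^ i • A ^ i := ⟨_, rfl⟩
  have hAS1 : A * S1 = S1 := by
    rw [hS1, Finset.mul_sum]
    have h := helper21_sum_shift (fun i => A ^ i) p (by simp [hAp])
    rw [← h]
    refine Finset.sum_congr rfl fun i _ => ?_
    rw [pow_succ']
  have hAS2 : A * S2 = ω • S2 := by
    rw [hS2]
    have h := helper21_sum_shift (fun i => ν ^ i • A ^ i) p (by simp [hAp, hνp])
    conv_rhs => rw [← h]
    rw [Finset.mul_sum, Finset.smul_sum]
    refine Finset.sum_congr rfl fun i _ => ?_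
    have h1 : ω * ν ^ (i + 1) = ν ^ i := by
      rw [pow_succ, mul_left_comm, hνω, mul_one]
    rw [mul_smul_comm, ← pow_succ', smul_smul, h1]
  have hAk1 : ∀ k : ℕ, A ^ k * S1 = S1 := by
    intro k
    induction k with
    | zero => simp
    | succ k ih => rw [pow_succ, mul_assoc, hAS1, ih]
  have hAk2 : ∀ k : ℕ, A ^ k * S2 = ω ^ k • S2 := by
    intro k
    induction k with
    | zero => simp
    | succ k ih => rw [pow_succ, mul_assoc, hAS2, mul_smul_comm, ih, smul_smul, pow_succ, mul_comm]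
  have hsω : ∑ i ∈ Finset.range p, ω ^ i = 0 := helper21_geom_zero ω p hω hω1
  have hsν : ∑ i ∈ Finset.range p, ν ^ i = 0 := helper21_geom_zero ν p hνp hν1
  have h11 : S1 * S1 = (p : ℂ) • S1 := by
    have h0 : S1 * S1 = (∑ i ∈ Finset.range p, A ^ i) * S1 := by rw [← hS1]
    rw [h0, Finset.sum_mul]
    rw [Finset.sum_congr rfl (fun i _ => hAk1 i)]
    rw [Finset.sum_const, Finset.card_range, Nat.cast_smul_eq_nsmul]
  have h22 : S2 * S2 = (p : ℂ) • S2 := by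
    have h0 : S2 * S2 = (∑ i ∈ Finset.range p, ν ^ i • A ^ i) * S2 := by rw [← hS2]
    rw [h0, Finset.sum_mul]
    have : ∀ i ∈ Finset.range p, ν ^ i • A ^ i * S2 = S2 := by
      intro i _
      rw [smul_mul_assoc, hAk2 i, smul_smul, ← mul_pow, mul_comm, hνω, one_pow, one_smul]
    rw [Finset.sum_congr rfl this]
    rw [Finset.sum_const, Finset.card_range, Nat.cast_smul_eq_nsmul]
  have h12 : S1 * S2 = 0 := by
    have h0 : S1 * S2 = (∑ i ∈ Finset.range p, A ^ i) * S2 := by rw [← hS1]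
    rw [h0, Finset.sum_mul]
    rw [Finset.sum_congr rfl (fun i _ => hAk2 i)]
    rw [← Finset.sum_smul, hsω, zero_smul]
  have h21 : S2 * S1 = 0 := by
    have h0 : S2 * S1 = (∑ i ∈ Finset.range p, ν ^ i • A ^ i) * S1 := by rw [← hS2]
    rw [h0, Finset.sum_mul]
    have : ∀ i ∈ Finset.range p, ν ^ i • A ^ i * S1 = ν ^ i • S1 := by
      intro i _
      rw [smul_mul_assoc, hAk1 i]
    rw [Finset.sum_congr rfl this]
    rw [← Finset.sum_smul, hsν, zero_smul]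
  -- traces
  have ht1 : LinearMap.trace ℂ (Fin n → ℂ) S1 = p * c := by
    rw [hS1, map_sum]
    rw [Finset.sum_congr rfl (fun i _ => htr i)]
    rw [Finset.sum_add_distrib, ← Finset.mul_sum, hsω, Finset.sum_const, Finset.card_range]
    simp
  have ht2 : LinearMap.trace ℂ (Fin n → ℂ) S2 = p * p := by
    rw [hS2, map_sum]
    have : ∀ i ∈ Finset.range p, LinearMap.trace ℂ (Fin n → ℂ) (ν ^ i • A ^ i)
        = c * ν ^ i + p := by
      intro i _
      rw [map_smul, htr i, smul_eq_mul, mul_add]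
      have h1 : ν ^ i * (↑p * ω ^ i) = p := by
        rw [mul_left_comm, ← mul_pow, mul_comm ν, hνω, one_pow, mul_one]
      rw [h1, mul_comm]
    rw [Finset.sum_congr rfl this]
    rw [Finset.sum_add_distrib, ← Finset.mul_sum, hsν, Finset.sum_const, Finset.card_range]
    simp
  have ht0 : LinearMap.trace ℂ (Fin n → ℂ) (1 : Module.End ℂ (Fin n → ℂ)) = c + p := by
    have h := htr 0
    simpa using h
  obtain ⟨P1, hP1⟩ : ∃ P1 : Module.End ℂ (Fin n → ℂ), P1 = (p : ℂ)⁻¹ • S1 := ⟨_, rfl⟩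
  obtain ⟨P2, hP2⟩ : ∃ P2 : Module.End ℂ (Fin n → ℂ), P2 = (p : ℂ)⁻¹ • S2 := ⟨_, rfl⟩
  have q11 : P1 * P1 = P1 := by
    rw [hP1, smul_mul_smul_comm, h11, smul_smul, mul_assoc, inv_mul_cancel₀ hp0, mul_one]
  have q22 : P2 * P2 = P2 := by
    rw [hP2, smul_mul_smul_comm, h22, smul_smul, mul_assoc, inv_mul_cancel₀ hp0, mul_one]
  have q12 : P1 * P2 = 0 := by
    rw [hP1, hP2, smul_mul_smul_comm, h12, smul_zero]
  have q21 : P2 * P1 = 0 := by
    rw [hP1, hP2, smul_mul_smul_comm, h21, smul_zero]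
  have hD : IsIdempotentElem (1 - P1 - P2 : Module.End ℂ (Fin n → ℂ)) := by
    show (1 - P1 - P2) * (1 - P1 - P2) = (1 - P1 - P2 : Module.End ℂ (Fin n → ℂ))
    simp only [mul_sub, sub_mul, mul_one, one_mul, q11, q22, q12, q21]
    abel
  have hDtr : LinearMap.trace ℂ (Fin n → ℂ) (1 - P1 - P2 : Module.End ℂ (Fin n → ℂ)) = 0 := by
    rw [map_sub, map_sub, ht0, hP1, hP2, map_smul, map_smul, ht1, ht2, smul_eq_mul, smul_eq_mul,
      ← mul_assoc, ← mul_assoc, inv_mul_cancel₀ hp0]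
    ring
  have hD0 : (1 - P1 - P2 : Module.End ℂ (Fin n → ℂ)) = 0 :=
    (LinearMap.IsIdempotentElem.trace_eq_zero_iff hD).1 hDtr
  have h1 : (1 : Module.End ℂ (Fin n → ℂ)) = P1 + P2 := by
    rw [sub_sub] at hD0
    exact sub_eq_zero.1 hD0
  have hAP1 : A * P1 = P1 := by rw [hP1, mul_smul_comm, hAS1]
  have hAP2 : A * P2 = ω • P2 := by rw [hP2, mul_smul_comm, hAS2, smul_comm]
  have hA1 : A = P1 + ω • P2 := by
    calc A = A * 1 := (mul_one A).symm
      _ = A * (P1 + P2) := by rw [← h1]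
      _ = P1 + ω • P2 := by rw [mul_add, hAP1, hAP2]
  have e1 : A - 1 = (ω - 1) • P2 := by
    rw [hA1, h1]
    module
  have e2 : A - ω • (1 : Module.End ℂ (Fin n → ℂ)) = (1 - ω) • P1 := by
    rw [hA1, h1]
    module
  rw [e1, e2, smul_mul_smul_comm, q21, smul_zero]

end Cfsg.Agent.Lib.helper68.BL
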