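import Mathlib
import Cfsg.Agent.Lib.helper81.BLF1
import Cfsg.Agent.Lib.helper81.BLF3
import Cfsg.Agent.Lib.helper21.BLF4

/-!
# S4471 piece FB (racer copy by helper21): Frobenius–Blichfeldt for a two-eigenvalue element.
-/

set_option autoImplicit false

namespace Cfsg.Agent.Lib.helper68.BL

open scoped ComplexConjugate Matrix ComplexOrder

universe u

/-- The squared Frobenius norm. -/
noncomputable def helper21_nu {n : ℕ} (X : Matrix (Fin n) (Fin n) ℂ) : ℝ := ((Xᴴ * X).trace).re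

theorem helper21_nu_nonneg {n : ℕ} (X : Matrix (Fin n) (Fin n) ℂ) : 0 ≤ helper21_nu X :=
  helper81_nu_nonneg X

theorem helper21_nu_eq_zero {n : ℕ} (X : Matrix (Fin n) (Fin n) ℂ) (h : helper21_nu X = 0) :
    X = 0 := by
  have him : ((Xᴴ * X).trace).im = 0 := by
    have h1 : star ((Xᴴ * X).trace) = (Xᴴ * X).trace := by
      rw [← Matrix.trace_conjTranspose, Matrix.conjTranspose_mul, Matrix.conjTranspose_conjTranspose]
    rw [Complex.star_def] at h1
    exact Complex.conj_eq_iff_im.1 h1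
  apply Matrix.trace_conjTranspose_mul_self_eq_zero_iff.1
  apply Complex.ext
  · exact h
  · rw [him]; rfl

theorem helper21_nu_mul_unitary {n : ℕ} (X V : Matrix (Fin n) (Fin n) ℂ) (hV : V * Vᴴ = 1) :
    helper21_nu (X * V) = helper21_nu X := by
  unfold helper21_nu
  have e : ((X * V)ᴴ * (X * V)).trace = (Xᴴ * X).trace := by
    rw [Matrix.conjTranspose_mul, Matrix.mul_assoc, Matrix.trace_mul_comm]
    calc (Xᴴ * (X * V) * Vᴴ).trace = (Xᴴ * X * (V * Vᴴ)).trace := by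
          simp only [Matrix.mul_assoc]
      _ = (Xᴴ * X).trace := by rw [hV, Matrix.mul_one]
  rw [e]

theorem helper21_nu_smul {n : ℕ} (a : ℂ) (X : Matrix (Fin n) (Fin n) ℂ) :
    helper21_nu (a • X) = ‖a‖ ^ 2 * helper21_nu X := by
  unfold helper21_nu
  have e : (a • X)ᴴ * (a • X) = ((Complex.normSq a : ℝ) : ℂ) • (Xᴴ * X) := by
    rw [Matrix.conjTranspose_smul, Matrix.smul_mul, Matrix.mul_smul, smul_smul,
      Complex.normSq_eq_conj_mul_self, Complex.star_def]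
  rw [e, Matrix.trace_smul, smul_eq_mul, Complex.re_ofReal_mul, Complex.normSq_eq_norm_sq]

/-- the contraction step -/
theorem helper21_contract {n : ℕ} (E s Y Ws WY : Matrix (Fin n) (Fin n) ℂ) (a : ℂ)
    (hE : E * E = E) (hEh : Eᴴ = E) (hs : s = 1 + a • E) (hsW : s * Ws = 1) (hYW : Y * WY = 1)
    (hP : (Ws * WY) * (Ws * WY)ᴴ = 1) :
    helper21_nu (s * Y * Ws * WY - 1) ≤ ‖a‖ ^ 2 * helper21_nu (Y - 1) := by
  have e1 : a • (E * (Y - 1) - (Y - 1) * E) = s * Y - Y * s := by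
    rw [hs]
    simp only [Matrix.add_mul, Matrix.mul_add, Matrix.one_mul, Matrix.mul_one, Matrix.smul_mul,
      Matrix.mul_smul, Matrix.mul_sub, Matrix.sub_mul, smul_sub]
    abel
  have e2 : Y * s * (Ws * WY) = 1 := by
    rw [Matrix.mul_assoc Y s, ← Matrix.mul_assoc s Ws, hsW, Matrix.one_mul, hYW]
  have e : s * Y * Ws * WY - 1 = (a • (E * (Y - 1) - (Y - 1) * E)) * (Ws * WY) := by
    rw [e1, Matrix.sub_mul, e2, ← Matrix.mul_assoc]
  rw [e, helper21_nu_mul_unitary _ _ hP, helper21_nu_smul]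
  exact mul_le_mul_of_nonneg_left (herm_idem_comm_le E (Y - 1) hE hEh) (sq_nonneg _)

/-- (*) in the first case -/
theorem helper21_starA {n : ℕ} (E Et τ : Matrix (Fin n) (Fin n) ℂ) (a : ℂ) (ha : ‖a‖ < 1)
    (hEh : Eᴴ = E) (hEt : Et * Et = Et) (hEth : Etᴴ = Et) (hτ : τ = 1 + a • Et)
    (hτu : τᴴ * τ = 1) (w : Fin n → ℂ) (h1 : E *ᵥ w = w) (h2 : E *ᵥ (τ *ᵥ w) = 0) : w = 0 := by
  refine orth_vec_zero Et hEt hEth w (τ *ᵥ w) ?_ ?_ a ha ?_
  · calc star w ⬝ᵥ (τ *ᵥ w) = star (E *ᵥ w) ⬝ᵥ (τ *ᵥ w) := by rw [h1]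
      _ = star w ⬝ᵥ (Eᴴ *ᵥ (τ *ᵥ w)) := by rw [Matrix.star_mulVec, ← Matrix.dotProduct_mulVec]
      _ = 0 := by rw [hEh, h2, dotProduct_zero]
  · rw [Matrix.star_mulVec, ← Matrix.dotProduct_mulVec, Matrix.mulVec_mulVec, hτu,
      Matrix.one_mulVec]
  · rw [hτ, Matrix.add_mulVec, Matrix.one_mulVec, Matrix.smul_mulVec]
    abel

/-- (*) in the second case -/
theorem helper21_starB {n : ℕ} (E Et s τ : Matrix (Fin n) (Fin n) ℂ) (a : ℂ) (ha : ‖a‖ < 1)
    (hEh : Eᴴ = E) (hs : s = 1 + a • E) (hsu : sᴴ * s = 1)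
    (hEt : Et * Et = Et) (hEth : Etᴴ = Et) (hτ : τ = 1 + a • Et)
    (hτu : τᴴ * τ = 1) (hτu' : τ * τᴴ = 1)
    (w : Fin n → ℂ) (h1 : E *ᵥ w = w) (h2 : E *ᵥ ((s * τᴴ) *ᵥ w) = 0) : w = 0 := by
  obtain ⟨u, hu⟩ : ∃ u : Fin n → ℂ, u = (s * τᴴ) *ᵥ w := ⟨_, rfl⟩
  rw [← hu] at h2
  have hsu1 : s *ᵥ u = u := by
    rw [hs, Matrix.add_mulVec, Matrix.one_mulVec, Matrix.smul_mulVec, h2, smul_zero, add_zero]
  have h3 : τᴴ *ᵥ w = u := by
    calc τᴴ *ᵥ w = (sᴴ * s) *ᵥ (τᴴ *ᵥ w) := by rw [hsu, Matrix.one_mulVec]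
      _ = sᴴ *ᵥ u := by rw [hu, Matrix.mulVec_mulVec, Matrix.mulVec_mulVec, Matrix.mul_assoc]
      _ = sᴴ *ᵥ (s *ᵥ u) := by rw [hsu1]
      _ = u := by rw [Matrix.mulVec_mulVec, hsu, Matrix.one_mulVec]
  have h4 : w = τ *ᵥ u := by rw [← h3, Matrix.mulVec_mulVec, hτu', Matrix.one_mulVec]
  have hu0 : u = 0 := by
    refine orth_vec_zero Et hEt hEth u w ?_ ?_ a ha ?_
    · calc star u ⬝ᵥ w = star u ⬝ᵥ (E *ᵥ w) := by rw [h1]
        _ = star (Eᴴ *ᵥ u) ⬝ᵥ w := by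
          rw [Matrix.star_mulVec, Matrix.conjTranspose_conjTranspose, Matrix.dotProduct_mulVec]
        _ = 0 := by rw [hEh, h2, star_zero, zero_dotProduct]
    · rw [h4, Matrix.star_mulVec, ← Matrix.dotProduct_mulVec, Matrix.mulVec_mulVec, hτu,
        Matrix.one_mulVec]
    · rw [h4, hτ, Matrix.add_mulVec, Matrix.one_mulVec, Matrix.smul_mulVec]
      abel
  rw [h4, hu0, Matrix.mulVec_zero]

/-- `1 = s Y sᴴ Yᴴ` gives `s Y = Y s`. -/
theorem helper21_comm_of_one {n : ℕ} (s Y : Matrix (Fin n) (Fin n) ℂ) (hsu : sᴴ * s = 1)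
    (hYu : Yᴴ * Y = 1) (h : s * Y * sᴴ * Yᴴ = 1) : s * Y = Y * s := by
  calc s * Y = (s * Y * sᴴ * Yᴴ) * (Y * s) := by
        calc s * Y = s * Y * (sᴴ * ((Yᴴ * Y) * s)) := by
              rw [hYu, Matrix.one_mul, hsu, Matrix.mul_one]
          _ = (s * Y * sᴴ * Yᴴ) * (Y * s) := by simp only [Matrix.mul_assoc]
    _ = Y * s := by rw [h, Matrix.one_mul]

/-- the descent step -/
theorem helper21_descent {n : ℕ} (E s Y : Matrix (Fin n) (Fin n) ℂ) (a : ℂ) (ha0 : a ≠ 0)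
    (hE : E * E = E) (hEh : Eᴴ = E) (hs : s = 1 + a • E)
    (hsu : sᴴ * s = 1) (hsu' : s * sᴴ = 1) (hYu : Yᴴ * Y = 1) (hYu' : Y * Yᴴ = 1)
    (hcomm : s * (s * Y * sᴴ * Yᴴ) = (s * Y * sᴴ * Yᴴ) * s)
    (hstar : ∀ w : Fin n → ℂ, E *ᵥ w = w → E *ᵥ (Y *ᵥ w) = 0 → w = 0) :
    s * Y * sᴴ * Yᴴ = 1 := by
  obtain ⟨E', hE'⟩ : ∃ E' : Matrix (Fin n) (Fin n) ℂ, E' = Y * E * Yᴴ := ⟨_, rfl⟩
  obtain ⟨t, ht⟩ : ∃ t : Matrix (Fin n) (Fin n) ℂ, t = Y * s * Yᴴ := ⟨_, rfl⟩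
  have htE : t = 1 + a • E' := by
    rw [ht, hE', hs, Matrix.mul_add, Matrix.add_mul, Matrix.mul_one, hYu', Matrix.mul_smul,
      Matrix.smul_mul]
  have htH : tᴴ = Y * sᴴ * Yᴴ := by
    rw [ht, Matrix.conjTranspose_mul, Matrix.conjTranspose_mul, Matrix.conjTranspose_conjTranspose,
      Matrix.mul_assoc]
  have htu : t * tᴴ = 1 := by
    rw [htH, ht]
    calc Y * s * Yᴴ * (Y * sᴴ * Yᴴ) = Y * (s * (Yᴴ * Y) * sᴴ) * Yᴴ := by
          simp only [Matrix.mul_assoc]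
      _ = 1 := by rw [hYu, Matrix.mul_one, hsu', Matrix.mul_one, hYu']
  have htu' : tᴴ * t = 1 := mul_eq_one_comm.1 htu
  have hy : s * Y * sᴴ * Yᴴ = s * tᴴ := by
    rw [htH]
    simp only [Matrix.mul_assoc]
  rw [hy] at hcomm ⊢
  have h1 : s * tᴴ = tᴴ * s := by
    calc s * tᴴ = (sᴴ * s) * (s * tᴴ) := by rw [hsu, Matrix.one_mul]
      _ = sᴴ * (s * (s * tᴴ)) := by rw [Matrix.mul_assoc]
      _ = sᴴ * (s * tᴴ * s) := by rw [hcomm]
      _ = (sᴴ * s) * tᴴ * s := by simp only [Matrix.mul_assoc]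
      _ = tᴴ * s := by rw [hsu, Matrix.one_mul]
  have h2 : t * s = s * t := by
    calc t * s = t * s * (tᴴ * t) := by rw [htu', Matrix.mul_one]
      _ = t * (s * tᴴ) * t := by simp only [Matrix.mul_assoc]
      _ = t * (tᴴ * s) * t := by rw [h1]
      _ = (t * tᴴ) * s * t := by simp only [Matrix.mul_assoc]
      _ = s * t := by rw [htu, Matrix.one_mul]
  have hEE' : E * E' = E' * E := by
    have h3 := h2
    rw [htE, hs] at h3
    simp only [Matrix.add_mul, Matrix.mul_add, Matrix.one_mul, Matrix.mul_one, Matrix.smul_mul,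
      Matrix.mul_smul] at h3
    simp only [smul_add, smul_smul] at h3
    have h4 : (a * a) • (E' * E) = (a * a) • (E * E') := by
      apply add_left_cancel (a := (1 : Matrix (Fin n) (Fin n) ℂ) + a • E + a • E')
      calc (1 : Matrix (Fin n) (Fin n) ℂ) + a • E + a • E' + (a * a) • (E' * E)
          = 1 + a • E' + (a • E + (a * a) • (E' * E)) := by abel
        _ = 1 + a • E + (a • E' + (a * a) • (E * E')) := h3
        _ = 1 + a • E + a • E' + (a * a) • (E * E') := by abel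
    exact (smul_right_injective _ (mul_ne_zero ha0 ha0) h4).symm
  have hE'h : E'ᴴ = E' := by
    rw [hE', Matrix.conjTranspose_mul, Matrix.conjTranspose_mul, Matrix.conjTranspose_conjTranspose,
      hEh, Matrix.mul_assoc]
  have hEq : E' = E := proj_eq_of_commute E E' Y Yᴴ hE hEh hE'h hYu' hE' hEE' hstar
  have hts : t = s := by rw [htE, hEq, ← hs]
  rw [hts, hsu']

/-- FB (racer copy, verbatim statement of `fb_commute`). -/
theorem helper21_fb_commute {G : Type u} [Group G] [Finite G] {n : ℕ}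
    (U : G →* Matrix (Fin n) (Fin n) ℂ)
    (hU : ∀ g : G, (U g)ᴴ * U g = 1) (z : G) (ω : ℂ) (hω : star ω * ω = 1) (hω1 : ω ≠ 1)
    (hr : ‖ω - 1‖ < 1) (hz : (U z - 1) * (U z - ω • (1 : Matrix (Fin n) (Fin n) ℂ)) = 0) (g : G) :
    U z * U (g * z * g⁻¹) = U (g * z * g⁻¹) * U z := by
  have hU' : ∀ h : G, U h * (U h)ᴴ = 1 := fun h => mul_eq_one_comm.1 (hU h)
  have hinv : ∀ h : G, U h⁻¹ = (U h)ᴴ := by
    intro h
    have h1 : U h⁻¹ * U h = 1 := by rw [← map_mul, inv_mul_cancel, map_one]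
    calc U h⁻¹ = U h⁻¹ * (U h * (U h)ᴴ) := by rw [hU', Matrix.mul_one]
      _ = (U h)ᴴ := by rw [← Matrix.mul_assoc, h1, Matrix.one_mul]
  obtain ⟨s, hsdef⟩ : ∃ s : Matrix (Fin n) (Fin n) ℂ, s = U z := ⟨_, rfl⟩
  have hsu : sᴴ * s = 1 := by rw [hsdef]; exact hU z
  have hsu' : s * sᴴ = 1 := by rw [hsdef]; exact hU' z
  rw [← hsdef] at hz ⊢
  obtain ⟨a, hadef⟩ : ∃ a : ℂ, a = ω - 1 := ⟨_, rfl⟩
  rw [← hadef] at hr
  have ha0 : a ≠ 0 := by rw [hadef]; exact sub_ne_zero.2 hω1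
  obtain ⟨E, hEdef⟩ : ∃ E : Matrix (Fin n) (Fin n) ℂ, E = a⁻¹ • (s - 1) := ⟨_, rfl⟩
  have hsE : s = 1 + a • E := by
    rw [hEdef, smul_smul, mul_inv_cancel₀ ha0, one_smul]
    abel
  -- (s - 1)^2 = a (s - 1)
  have hsq : (s - 1) * (s - 1) = a • (s - 1) := by
    have e : s - ω • (1 : Matrix (Fin n) (Fin n) ℂ) = (s - 1) - a • (1 : Matrix (Fin n) (Fin n) ℂ) := by
      rw [hadef, sub_smul, one_smul]
      abel
    rw [e, Matrix.mul_sub, Matrix.mul_smul, Matrix.mul_one, sub_eq_zero] at hz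
    exact hz
  have hEE : E * E = E := by
    rw [hEdef, Matrix.smul_mul, Matrix.mul_smul, hsq, smul_smul, smul_smul, mul_assoc,
      inv_mul_cancel₀ ha0, mul_one]
  have hsH : sᴴ - 1 = (-star ω) • (s - 1) := by
    have h1 : sᴴ * ((s - 1) * (s - ω • (1 : Matrix (Fin n) (Fin n) ℂ))) = 0 := by
      rw [hz, Matrix.mul_zero]
    have h2 : sᴴ * ((s - 1) * (s - ω • (1 : Matrix (Fin n) (Fin n) ℂ)))
        = s - ω • (1 : Matrix (Fin n) (Fin n) ℂ) - 1 + ω • sᴴ := by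
      have e0 : sᴴ * (s - 1) = 1 - sᴴ := by rw [Matrix.mul_sub, hsu, Matrix.mul_one]
      rw [← Matrix.mul_assoc, e0, Matrix.sub_mul, Matrix.one_mul, Matrix.mul_sub, hsu,
        Matrix.mul_smul, Matrix.mul_one]
      abel
    have h3 : star ω • (s - ω • (1 : Matrix (Fin n) (Fin n) ℂ) - 1 + ω • sᴴ) = 0 := by
      rw [← h2, h1, smul_zero]
    simp only [smul_sub, smul_add, smul_smul, hω, one_smul] at h3
    rw [neg_smul, smul_sub, ← sub_eq_zero, ← h3]
    abel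
  have hEh : Eᴴ = E := by
    rw [hEdef, Matrix.conjTranspose_smul, Matrix.conjTranspose_sub, Matrix.conjTranspose_one, hsH,
      smul_smul]
    congr 1
    have hsω0 : -star ω ≠ 0 := by
      intro h
      rw [neg_eq_zero] at h
      rw [h, zero_mul] at hω
      exact zero_ne_one hω
    have key : star a = -star ω * a := by
      rw [hadef, star_sub, star_one]
      linear_combination hω
    rw [star_inv₀, key, mul_inv, mul_comm, ← mul_assoc, mul_inv_cancel₀ hsω0, one_mul]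
  -- conjugates of E
  have hconjE : ∀ V : Matrix (Fin n) (Fin n) ℂ, Vᴴ * V = 1 → V * Vᴴ = 1 →
      (V * E * Vᴴ) * (V * E * Vᴴ) = V * E * Vᴴ ∧ (V * E * Vᴴ)ᴴ = V * E * Vᴴ ∧
        V * s * Vᴴ = 1 + a • (V * E * Vᴴ) := by
    intro V hV hV'
    refine ⟨?_, ?_, ?_⟩
    · calc V * E * Vᴴ * (V * E * Vᴴ) = V * (E * (Vᴴ * V) * E) * Vᴴ := by
            simp only [Matrix.mul_assoc]
        _ = V * E * Vᴴ := by rw [hV, Matrix.mul_one, hEE]
    · rw [Matrix.conjTranspose_mul, Matrix.conjTranspose_mul, Matrix.conjTranspose_conjTranspose,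
        hEh, Matrix.mul_assoc]
    · rw [hsE, Matrix.mul_add, Matrix.add_mul, Matrix.mul_one, hV', Matrix.mul_smul,
        Matrix.smul_mul]
  -- the sequence of commutators
  obtain ⟨c, hc0, hcs⟩ : ∃ c : ℕ → G, c 0 = g * z * g⁻¹ ∧
      ∀ k, c (k + 1) = z * c k * z⁻¹ * (c k)⁻¹ :=
    ⟨fun k => Nat.rec (g * z * g⁻¹) (fun _ x => z * x * z⁻¹ * x⁻¹) k, rfl, fun _ => rfl⟩
  have hys : ∀ k, U (c (k + 1)) = s * U (c k) * sᴴ * (U (c k))ᴴ := by
    intro k
    rw [hcs, map_mul, map_mul, map_mul, hinv, hinv, hsdef]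
  have hcontr : ∀ k, helper21_nu (U (c (k + 1)) - 1) ≤ ‖a‖ ^ 2 * helper21_nu (U (c k) - 1) := by
    intro k
    rw [hys]
    refine helper21_contract E s (U (c k)) sᴴ (U (c k))ᴴ a hEE hEh hsE hsu' (hU' (c k)) ?_
    rw [Matrix.conjTranspose_mul, Matrix.conjTranspose_conjTranspose,
      Matrix.conjTranspose_conjTranspose]
    calc sᴴ * (U (c k))ᴴ * (U (c k) * s) = sᴴ * ((U (c k))ᴴ * U (c k)) * s := by
          simp only [Matrix.mul_assoc]
      _ = 1 := by rw [hU (c k), Matrix.mul_one, hsu]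
  have hex : ∃ K, U (c K) = 1 := by
    by_contra hne
    push Not at hne
    have hpos : ∀ k, 0 < helper21_nu (U (c k) - 1) := by
      intro k
      rcases (helper21_nu_nonneg (U (c k) - 1)).lt_or_eq with h | h
      · exact h
      · exact absurd (sub_eq_zero.1 (helper21_nu_eq_zero _ h.symm)) (hne k)
    have hr2 : ‖a‖ ^ 2 < 1 := by
      have h0 : 0 ≤ ‖a‖ := norm_nonneg a
      nlinarith
    have hanti : StrictAnti (fun k => helper21_nu (U (c k) - 1)) := by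
      apply strictAnti_nat_of_succ_lt
      intro k
      have h1 := hcontr k
      have h2 := hpos k
      show helper21_nu (U (c (k + 1)) - 1) < helper21_nu (U (c k) - 1)
      nlinarith
    have hinj : Function.Injective c := by
      intro i j hij
      apply hanti.injective
      show helper21_nu (U (c i) - 1) = helper21_nu (U (c j) - 1)
      rw [hij]
    exact not_injective_infinite_finite c hinj
  obtain ⟨K, hK⟩ := hex
  have hstar : ∀ k, ∀ w : Fin n → ℂ, E *ᵥ w = w → E *ᵥ (U (c k) *ᵥ w) = 0 → w = 0 := by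
    intro k
    cases k with
    | zero =>
      intro w h1 h2
      obtain ⟨hEg, hEgh, hτ⟩ := hconjE (U g) (hU g) (hU' g)
      have hc0' : U (c 0) = U g * s * (U g)ᴴ := by rw [hc0, map_mul, map_mul, hinv, hsdef]
      exact helper21_starA E (U g * E * (U g)ᴴ) (U (c 0)) a hr hEh hEg hEgh (hc0'.trans hτ)
        (hU (c 0)) w h1 h2
    | succ k =>
      intro w h1 h2
      obtain ⟨hEt, hEth, hτ⟩ := hconjE (U (c k)) (hU (c k)) (hU' (c k))
      have hτ1 : U (c k * z * (c k)⁻¹) = U (c k) * s * (U (c k))ᴴ := by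
        rw [map_mul, map_mul, hinv, hsdef]
      have hyk : U (c (k + 1)) = s * (U (c k * z * (c k)⁻¹))ᴴ := by
        rw [← hinv, hsdef, ← map_mul, hcs]
        congr 1
        group
      rw [hyk] at h2
      exact helper21_starB E (U (c k) * E * (U (c k))ᴴ) s (U (c k * z * (c k)⁻¹)) a hr hEh hsE hsu
        hEt hEth (hτ1.trans hτ) (hU _) (hU' _) w h1 h2
  have hdesc : ∀ k, U (c (k + 2)) = 1 → U (c (k + 1)) = 1 := by
    intro k hk2
    have h := hys (k + 1)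
    rw [hk2] at h
    have hc1 : s * U (c (k + 1)) = U (c (k + 1)) * s :=
      helper21_comm_of_one s (U (c (k + 1))) hsu (hU _) h.symm
    have hcomm : s * (s * U (c k) * sᴴ * (U (c k))ᴴ) = (s * U (c k) * sᴴ * (U (c k))ᴴ) * s := by
      rw [← hys k]
      exact hc1
    rw [hys k]
    exact helper21_descent E s (U (c k)) a ha0 hEE hEh hsE hsu hsu' (hU (c k)) (hU' (c k)) hcomm
      (hstar k)
  have hall : ∀ K, U (c (K + 1)) = 1 → U (c 1) = 1 := by
    intro K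
    induction K with
    | zero => exact id
    | succ K ih =>
      intro h
      exact ih (hdesc K h)
  have hfin : s * U (c 0) = U (c 0) * s := by
    cases K with
    | zero => rw [hK, Matrix.mul_one, Matrix.one_mul]
    | succ K =>
      have h1 := hall K hK
      have h := hys 0
      rw [h1] at h
      exact helper21_comm_of_one s (U (c 0)) hsu (hU _) h.symm
  rw [hc0] at hfin
  exact hfin

end Cfsg.Agent.Lib.helper68.BL
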