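import Mathlib
import Cfsg.Agent.Lib.helper21.BLCount

set_option autoImplicit false

/-!
# Brauer–Leonard: no mixed constituents (helper21 library)
-/

namespace Cfsg.Agent.Lib.helper21

open Cfsg Cfsg.Agent.Lib.helper4
open scoped ComplexConjugate

universe u

theorem bl_comm_aux1 {A : Type*} [CommGroup A] (a μ : A) : a * (μ * a⁻¹) = μ := by
  rw [mul_comm μ, mul_inv_cancel_left]

theorem bl_comm_aux2 {A : Type*} [CommGroup A] (a μ : A) : (μ * a⁻¹)⁻¹ = a * μ⁻¹ := by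
  rw [mul_inv_rev, inv_inv]

theorem bl_comm_aux3 {A : Type*} [CommGroup A] (a b c : A) :
    a * b⁻¹ * (b * c) = a * c := by
  rw [mul_assoc, inv_mul_cancel_left]

namespace BLData

variable {G : Type u} [Group G] [Fintype G] (D : BLData G) [Fintype ↥D.C] [Fintype ↥D.N]
  [Fintype (↥D.P →* ℂˣ)]

set_option maxHeartbeats 1600000 in
/-- No irreducible constituent `θ` of `ψ ψ̄` has both a `P`-trivial and a `P`-nontrivial
irreducible constituent on `C`. -/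
theorem no_mixed {ψ θ : G → ℂ} (hψ : IsIrrCharacter G ψ) (hθ : IsIrrCharacter G θ)
    (e : ℕ) (he : Nat.card ↥D.N = e * Nat.card ↥D.C)
    {φ : ↥D.C → ℂ} (hφ : IsIrrCharacter ↥D.C φ) {lam : ↥D.P →* ℂˣ} (hw : D.HasWt φ lam)
    (hlam : lam ≠ 1)
    (hΨ : (fun c : ↥D.C => ψ c) = (Nat.card ↥D.C : ℂ)⁻¹ • ∑ x : ↥D.N, D.cF x φ)
    (d : ℕ) (hd : ψ 1 = d)
    (hm : d ^ 2 ≤ Nat.card {μ : ↥D.P →* ℂˣ // μ ≠ 1 ∧ ∀ x : ↥D.N, μ ≠ D.cjw x lam})
    (hθψ : classInner (ψ * fun g => conj (ψ g)) θ ≠ 0)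
    {ξ₀ ξ₁ : ↥D.C → ℂ} (hξ₀ : IsIrrCharacter ↥D.C ξ₀) (hξ₁ : IsIrrCharacter ↥D.C ξ₁)
    (h0 : D.HasWt ξ₀ 1) {w₁ : ↥D.P →* ℂˣ} (h1 : D.HasWt ξ₁ w₁) (hw₁ : w₁ ≠ 1)
    (hc0 : classInner (fun c : ↥D.C => θ c) ξ₀ ≠ 0)
    (hc1 : classInner (fun c : ↥D.C => θ c) ξ₁ ≠ 0) : False := by
  classical
  have hfin : Finite G := Finite.of_fintype G
  have hIrr : Fintype (IrrCharacter ↥D.C) := Fintype.ofFinite _
  obtain ⟨Ψ, hΨdef⟩ : ∃ Ψ : ↥D.C → ℂ, Ψ = fun c : ↥D.C => ψ c := ⟨_, rfl⟩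
  obtain ⟨Θ, hΘdef⟩ : ∃ Θ : ↥D.C → ℂ, Θ = fun c : ↥D.C => θ c := ⟨_, rfl⟩
  rw [← hΨdef] at hΨ
  rw [← hΘdef] at hc0 hc1
  have hC : (Nat.card ↥D.C : ℂ) ≠ 0 := by exact_mod_cast (Nat.card_pos (α := ↥D.C)).ne'
  have hCpos : 0 < Nat.card ↥D.C := Nat.card_pos
  have he0 : 0 < e := by
    rcases Nat.eq_zero_or_pos e with h | h
    · rw [h, zero_mul] at he
      exact absurd he (Nat.card_pos (α := ↥D.N)).ne'
    · exact h
  have hψchar := isCharacter_of_isIrrCharacter hψ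
  have hΨchar : IsCharacter ↥D.C Ψ := by
    rw [hΨdef]; exact isCharacter_restrict D.C hψchar
  have hΘchar : IsCharacter ↥D.C Θ := by
    rw [hΘdef]; exact isCharacter_restrict D.C (isCharacter_of_isIrrCharacter hθ)
  have hcfΨ : ∀ x : ↥D.N, D.cF x Ψ = Ψ := fun x => by
    rw [hΨdef]; exact D.cF_restrict x (isClassFunction_of_isIrrCharacter hψ)
  have hcfΘ : ∀ x : ↥D.N, D.cF x Θ = Θ := fun x => by
    rw [hΘdef]; exact D.cF_restrict x (isClassFunction_of_isIrrCharacter hθ)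
  have hΨ1 : Ψ 1 = d := by
    rw [hΨdef]
    show ψ ((1 : ↥D.C) : G) = d
    rw [Subgroup.coe_one]; exact hd
  choose n hn using (fun ξ : IrrCharacter ↥D.C => exists_nat_classInner_irr hΘchar ξ.2)
  choose wt hwt using (fun ξ : IrrCharacter ↥D.C => D.exists_hasWt ξ.2)
  obtain ⟨a, ha⟩ := exists_nat_classInner_irr
    (isCharacter_mul hψchar (isCharacter_conj hψchar)) hθ
  have ha0 : 0 < a := by
    rcases Nat.eq_zero_or_pos a with h | h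
    · exfalso; apply hθψ; rw [ha, h]; simp
    · exact h
  have hφx : ∀ x : ↥D.N, IsIrrCharacter ↥D.C (D.cF x φ) := fun x => D.isIrrCharacter_cF x hφ
  have hwx : ∀ x : ↥D.N, D.HasWt (D.cF x φ) (D.cjw x lam) := fun x => D.hasWt_cF hw x
  have hcjw1 : ∀ (w : ↥D.P →* ℂˣ), w ≠ 1 → ∀ x : ↥D.N, D.cjw x w ≠ 1 := by
    intro w hw1 x h
    apply hw1
    have h2 := D.cjw_inv_cjw x w
    rw [h, D.cjw_one_right] at h2
    exact h2.symm
  have hlx : ∀ x : ↥D.N, D.cjw x lam ≠ 1 := hcjw1 lam hlam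
  have hsumφ : ∑ x : ↥D.N, D.cF x φ = (Nat.card ↥D.C : ℂ) • Ψ := by
    rw [hΨ, smul_smul, mul_inv_cancel₀ hC, one_smul]
  have hsumconj : ∑ x : ↥D.N, (fun c => conj (D.cF x φ c)) =
      (Nat.card ↥D.C : ℂ) • (fun c => conj (Ψ c)) := by
    funext c
    have h := congrFun hsumφ c
    simp only [Finset.sum_apply, Pi.smul_apply, smul_eq_mul] at h ⊢
    rw [← map_sum, h, map_mul, Complex.conj_natCast]
  obtain ⟨F, hF⟩ : ∃ F : ↥D.N → (↥D.P →* ℂˣ) → ↥D.C → ℂ,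
      ∀ x κ, F x κ = Ψ * (fun c => conj (D.cF x φ c)) * D.tw κ :=
    ⟨fun x κ => Ψ * (fun c => conj (D.cF x φ c)) * D.tw κ, fun _ _ => rfl⟩
  obtain ⟨Gf, hGf⟩ : ∃ Gf : (↥D.P →* ℂˣ) → ↥D.C → ℂ,
      ∀ κ, Gf κ = Ψ * (fun c => conj (Ψ c)) * D.tw κ :=
    ⟨fun κ => Ψ * (fun c => conj (Ψ c)) * D.tw κ, fun _ => rfl⟩
  have hFchar : ∀ x κ, IsCharacter ↥D.C (F x κ) := fun x κ => by
    rw [hF]
    exact isCharacter_mul (isCharacter_mul hΨchar
      (isCharacter_conj (isCharacter_of_isIrrCharacter (hφx x))))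
      (isCharacter_of_isIrrCharacter (D.isIrrCharacter_tw κ))
  have hGchar : ∀ κ, IsCharacter ↥D.C (Gf κ) := fun κ => by
    rw [hGf]
    exact isCharacter_mul (isCharacter_mul hΨchar (isCharacter_conj hΨchar))
      (isCharacter_of_isIrrCharacter (D.isIrrCharacter_tw κ))
  have hFnn : ∀ x κ (ξ : IrrCharacter ↥D.C), 0 ≤ (classInner (F x κ) (ξ : ↥D.C → ℂ)).re :=
    fun x κ ξ => by
      obtain ⟨k, hk⟩ := exists_nat_classInner_irr (hFchar x κ) ξ.2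
      rw [hk, Complex.natCast_re]; exact Nat.cast_nonneg k
  have hF1 : ∀ x, F x 1 = Ψ * (fun c => conj (D.cF x φ c)) := fun x => by
    rw [hF, D.tw_one, mul_one]
  have hG1 : Gf 1 = Ψ * (fun c => conj (Ψ c)) := by rw [hGf, D.tw_one, mul_one]
  have hK2 := classInner_re_eq_sum_irr (isClassFunction_of_isCharacter hΘchar) n hn
  have hK5 : ∀ κ (ξ : IrrCharacter ↥D.C),
      ∑ x : ↥D.N, (classInner (F x κ) (ξ : ↥D.C → ℂ)).re =
        ((Nat.card ↥D.C : ℕ) : ℝ) * (classInner (Gf κ) (ξ : ↥D.C → ℂ)).re := by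
    intro κ ξ
    have h1 : ∑ x : ↥D.N, F x κ = (Nat.card ↥D.C : ℂ) • Gf κ := by
      simp only [hF, hGf]
      rw [← Finset.sum_mul, ← Finset.mul_sum, hsumconj]
      funext c
      simp only [Pi.mul_apply, Pi.smul_apply, smul_eq_mul]
      ring
    have h2 : ∑ x : ↥D.N, classInner (F x κ) (ξ : ↥D.C → ℂ) =
        (Nat.card ↥D.C : ℂ) * classInner (Gf κ) (ξ : ↥D.C → ℂ) := by
      rw [← classInner_sum_left, h1, classInner_smul_left]
    have h3 := congrArg Complex.re h2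
    rw [Complex.re_sum, Complex.mul_re] at h3
    simpa using h3
  -- the set of admissible weights
  obtain ⟨Λ, hΛ⟩ : ∃ Λ : Finset (↥D.P →* ℂˣ),
      Λ = Finset.univ.filter (fun μ : ↥D.P →* ℂˣ => μ ≠ 1 ∧ ∀ x : ↥D.N, μ ≠ D.cjw x lam) :=
    ⟨_, rfl⟩
  have hΛmem : ∀ μ, μ ∈ Λ ↔ (μ ≠ 1 ∧ ∀ x : ↥D.N, μ ≠ D.cjw x lam) := fun μ => by
    rw [hΛ, Finset.mem_filter]; simp
  have hmΛ : d ^ 2 ≤ Λ.card := by
    rw [hΛ, ← Fintype.card_subtype, ← Nat.card_eq_fintype_card]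
    exact hm
  obtain ⟨T, hT⟩ : ∃ T : Finset (IrrCharacter ↥D.C),
      T = Finset.univ.filter (fun ξ : IrrCharacter ↥D.C => wt ξ = 1) := ⟨_, rfl⟩
  have hTmem : ∀ ξ, ξ ∈ T ↔ wt ξ = 1 := fun ξ => by
    rw [hT, Finset.mem_filter]; simp
  have hX : Fintype.card ↥D.N = e * Nat.card ↥D.C := by
    rw [← Nat.card_eq_fintype_card]; exact he
  -- (i)
  have H_i : ∀ x : ↥D.N, ((Λ.card : ℕ) : ℝ) *
      (∑ ξ : IrrCharacter ↥D.C, (n ξ : ℝ) * (classInner (F x 1) (ξ : ↥D.C → ℂ)).re - a) ≤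
      ∑ ξ : IrrCharacter ↥D.C, (n ξ : ℝ) *
        ∑ μ ∈ Λ, (classInner (F x (D.cjw x lam * μ⁻¹)) (ξ : ↥D.C → ℂ)).re := by
    intro x
    rw [← hK2 (F x 1)]
    have hswap : ∑ ξ : IrrCharacter ↥D.C, (n ξ : ℝ) *
        ∑ μ ∈ Λ, (classInner (F x (D.cjw x lam * μ⁻¹)) (ξ : ↥D.C → ℂ)).re =
        ∑ μ ∈ Λ, (classInner (F x (D.cjw x lam * μ⁻¹)) Θ).re := by
      simp only [Finset.mul_sum]
      rw [Finset.sum_comm]
      refine Finset.sum_congr rfl (fun μ _ => ?_)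
      rw [hK2]
    rw [hswap]
    have hterm : ∀ μ ∈ Λ, (classInner (F x 1) Θ).re - a ≤
        (classInner (F x (D.cjw x lam * μ⁻¹)) Θ).re := by
      intro μ hμ
      obtain ⟨hμ1, hμ2⟩ := (hΛmem μ).mp hμ
      have hκ : μ * (D.cjw x lam)⁻¹ ≠ 1 := fun h => hμ2 x (mul_inv_eq_one.mp h)
      have hprod : D.cjw x lam * (μ * (D.cjw x lam)⁻¹) = μ :=
        bl_comm_aux1 (D.cjw x lam) μ
      have t1 : ∀ z : ↥D.N, (z : G) ∉ D.C → D.cjw z (D.cjw x lam) ≠ D.cjw x lam :=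
        fun z hz h => hlx x (D.cjw_eq_self z hz h)
      have t2 : ∀ z : ↥D.N, D.cjw z (D.cjw x lam * (μ * (D.cjw x lam)⁻¹)) ≠ D.cjw x lam := by
        intro z h
        rw [hprod] at h
        apply hμ2 (z⁻¹ * x)
        rw [D.cjw_mul, ← h, D.cjw_inv_cjw]
      have t3 : ∀ z : ↥D.N, D.cjw z (D.cjw x lam) ≠
          D.cjw x lam * (μ * (D.cjw x lam)⁻¹) := by
        intro z h
        rw [hprod, ← D.cjw_mul] at h
        exact hμ2 (z * x) h.symm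
      have t4 : ∀ z : ↥D.N, (z : G) ∉ D.C →
          D.cjw z (D.cjw x lam * (μ * (D.cjw x lam)⁻¹)) ≠
            D.cjw x lam * (μ * (D.cjw x lam)⁻¹) := by
        intro z hz h
        rw [hprod] at h
        exact hμ1 (D.cjw_eq_self z hz h)
      have hm1 : classInner (D.cF x φ) (fun c : ↥D.C => ψ c) = 1 := by
        rw [← hΨdef, hΨ, classInner_smul_right, classInner_sum_right,
          D.sum_classInner_cF hφ hw hlam x, map_inv₀, Complex.conj_natCast,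
          inv_mul_cancel₀ hC]
      have hm0 : classInner (D.cF x φ * D.tw (μ * (D.cjw x lam)⁻¹))
          (fun c : ↥D.C => ψ c) = 0 := by
        rw [← hΨdef, hΨ, classInner_smul_right, classInner_sum_right]
        rw [Finset.sum_eq_zero, mul_zero]
        intro z _
        apply D.classInner_eq_zero_of_hasWt (D.hasWt_mul (hwx x) (D.hasWt_tw _)) (hwx z)
        rw [hprod]
        exact hμ2 z
      obtain ⟨k, hk⟩ := D.twist_ineq hψ hθ (hφx x) (hwx x) hκ t1 t2 t3 t4 hm1 hm0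
      have hinv : (μ * (D.cjw x lam)⁻¹)⁻¹ = D.cjw x lam * μ⁻¹ :=
        bl_comm_aux2 (D.cjw x lam) μ
      rw [ha, ← hΨdef, ← hΘdef, hinv, ← hF x (D.cjw x lam * μ⁻¹), ← hF1 x] at hk
      have hk' := congrArg Complex.re hk
      simp only [Complex.sub_re, Complex.add_re, Complex.natCast_re] at hk'
      have hk0 : (0 : ℝ) ≤ k := Nat.cast_nonneg k
      linarith
    calc ((Λ.card : ℕ) : ℝ) * ((classInner (F x 1) Θ).re - a)
        = ∑ μ ∈ Λ, ((classInner (F x 1) Θ).re - a) := by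
          rw [Finset.sum_const, nsmul_eq_mul]
      _ ≤ _ := Finset.sum_le_sum hterm
  -- (ii)
  have H_ii : ∀ x : ↥D.N, ∀ ξ ∈ T,
      ∑ μ ∈ Λ, (classInner (F x (D.cjw x lam * μ⁻¹)) (ξ : ↥D.C → ℂ)).re = 0 := by
    intro x ξ hξ
    have hξ1 : wt ξ = 1 := (hTmem ξ).mp hξ
    apply Finset.sum_eq_zero
    intro μ hμ
    obtain ⟨hμ1, hμ2⟩ := (hΛmem μ).mp hμ
    have h0' : classInner (F x (D.cjw x lam * μ⁻¹)) (ξ : ↥D.C → ℂ) = 0 := by
      rw [hF, hΨ]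
      have hexp : (Nat.card ↥D.C : ℂ)⁻¹ • (∑ z : ↥D.N, D.cF z φ) *
          (fun c => conj (D.cF x φ c)) * D.tw (D.cjw x lam * μ⁻¹) =
          (Nat.card ↥D.C : ℂ)⁻¹ • ∑ z : ↥D.N, (D.cF z φ * (fun c => conj (D.cF x φ c)) *
            D.tw (D.cjw x lam * μ⁻¹)) := by
        rw [smul_mul_assoc, smul_mul_assoc, Finset.sum_mul, Finset.sum_mul]
      rw [hexp, classInner_smul_left, classInner_sum_left, Finset.sum_eq_zero, mul_zero]
      intro z _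
      apply D.classInner_eq_zero_of_hasWt
        (D.hasWt_mul (D.hasWt_mul (hwx z) (D.hasWt_conj (hwx x))) (D.hasWt_tw _)) (hwt ξ)
      rw [hξ1]
      intro h
      apply hμ2 z
      have h' : D.cjw z lam * μ⁻¹ = 1 := by
        rw [← h]; exact (bl_comm_aux3 (D.cjw z lam) (D.cjw x lam) μ⁻¹).symm
      exact (mul_inv_eq_one.mp h').symm
    rw [h0', Complex.zero_re]
  -- (iii)
  have H_iii : ∀ (x : ↥D.N) (ξ : IrrCharacter ↥D.C),
      ∑ μ ∈ Λ, (classInner (F x (D.cjw x lam * μ⁻¹)) (ξ : ↥D.C → ℂ)).re ≤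
        ∑ κ : ↥D.P →* ℂˣ, (classInner (F x κ) (ξ : ↥D.C → ℂ)).re -
          (classInner (F x 1) (ξ : ↥D.C → ℂ)).re := by
    intro x ξ
    have hinj : Set.InjOn (fun μ : ↥D.P →* ℂˣ => D.cjw x lam * μ⁻¹) (Λ : Set _) := by
      intro μ _ μ' _ h
      exact inv_injective (mul_left_cancel h)
    have himg : ∑ κ ∈ Λ.image (fun μ : ↥D.P →* ℂˣ => D.cjw x lam * μ⁻¹),
        (classInner (F x κ) (ξ : ↥D.C → ℂ)).re =
        ∑ μ ∈ Λ, (classInner (F x (D.cjw x lam * μ⁻¹)) (ξ : ↥D.C → ℂ)).re :=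
      Finset.sum_image hinj
    rw [← Finset.sum_erase_eq_sub (Finset.mem_univ (1 : ↥D.P →* ℂˣ)), ← himg]
    apply Finset.sum_le_sum_of_subset_of_nonneg
    · intro κ hκ
      obtain ⟨μ, hμ, rfl⟩ := Finset.mem_image.mp hκ
      obtain ⟨hμ1, hμ2⟩ := (hΛmem μ).mp hμ
      refine Finset.mem_erase.mpr ⟨fun h => hμ2 x ?_, Finset.mem_univ _⟩
      exact (mul_inv_eq_one.mp h).symm
    · intro κ _ _
      exact hFnn x κ ξ
  -- (v)
  have H_v1 : ∀ ξ : IrrCharacter ↥D.C, ∑ x : ↥D.N, (classInner (F x 1) (ξ : ↥D.C → ℂ)).re =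
      ((Nat.card ↥D.C : ℕ) : ℝ) * (classInner (Gf 1) (ξ : ↥D.C → ℂ)).re := fun ξ => hK5 1 ξ
  have H_v2 : ∀ ξ : IrrCharacter ↥D.C,
      ∑ x : ↥D.N, ∑ κ : ↥D.P →* ℂˣ, (classInner (F x κ) (ξ : ↥D.C → ℂ)).re =
      ((Nat.card ↥D.C : ℕ) : ℝ) *
        ∑ κ : ↥D.P →* ℂˣ, (classInner (Gf κ) (ξ : ↥D.C → ℂ)).re := by
    intro ξ
    rw [Finset.sum_comm, Finset.mul_sum]
    exact Finset.sum_congr rfl (fun κ _ => hK5 κ ξ)
  -- (vi)
  have H_vi : ∀ ξ : IrrCharacter ↥D.C,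
      ∑ κ : ↥D.P →* ℂˣ, (classInner (Gf κ) (ξ : ↥D.C → ℂ)).re ≤ ((Λ.card : ℕ) : ℝ) := by
    intro ξ
    have hconv : ∀ κ : ↥D.P →* ℂˣ, classInner (Gf κ) (ξ : ↥D.C → ℂ) =
        classInner (Gf 1) ((ξ : ↥D.C → ℂ) * D.tw κ⁻¹) := by
      intro κ
      unfold classInner
      congr 1
      refine Finset.sum_congr rfl (fun c _ => ?_)
      rw [hGf, hG1]
      have hii : conj (D.tw κ⁻¹ c) = D.tw κ c := by
        rw [D.conj_tw]; exact congrArg (fun v => D.tw v c) (inv_inv κ)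
      simp only [Pi.mul_apply, map_mul, hii]
      ring
    obtain ⟨fκ, hfκ⟩ : ∃ fκ : (↥D.P →* ℂˣ) → IrrCharacter ↥D.C,
        ∀ κ, (fκ κ : ↥D.C → ℂ) = (ξ : ↥D.C → ℂ) * D.tw κ⁻¹ :=
      ⟨fun κ => ⟨(ξ : ↥D.C → ℂ) * D.tw κ⁻¹, D.isIrrCharacter_mul_tw ξ.2 κ⁻¹⟩, fun _ => rfl⟩
    have hinj : Function.Injective fκ := by
      intro κ κ' h
      have h1' : (ξ : ↥D.C → ℂ) * D.tw κ⁻¹ = (ξ : ↥D.C → ℂ) * D.tw κ'⁻¹ := by
        rw [← hfκ κ, ← hfκ κ', h]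
      have hw1 := D.hasWt_mul (hwt ξ) (D.hasWt_tw κ⁻¹)
      have hw2 := D.hasWt_mul (hwt ξ) (D.hasWt_tw κ'⁻¹)
      rw [h1'] at hw1
      have h2 := D.hasWt_unique hw1 hw2
        (irr_degree_ne_zero (D.isIrrCharacter_mul_tw ξ.2 κ'⁻¹))
      exact inv_injective (mul_left_cancel h2)
    have hsum : ∑ κ : ↥D.P →* ℂˣ, (classInner (Gf κ) (ξ : ↥D.C → ℂ)).re =
        ∑ χ ∈ Finset.univ.image fκ, (classInner (Gf 1) (χ : ↥D.C → ℂ)).re := by
      rw [Finset.sum_image (fun κ _ κ' _ h => hinj h)]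
      exact Finset.sum_congr rfl (fun κ _ => by rw [hconv κ, hfκ κ])
    rw [hsum]
    refine le_trans (sum_re_classInner_le (hGchar 1) _) ?_
    have h1' : (Gf 1 1).re = ((d ^ 2 : ℕ) : ℝ) := by
      rw [hG1]
      show (Ψ 1 * conj (Ψ 1)).re = ((d ^ 2 : ℕ) : ℝ)
      rw [hΨ1, Complex.conj_natCast]
      have h2 : (d : ℂ) * (d : ℂ) = ((d ^ 2 : ℕ) : ℂ) := by push_cast; ring
      rw [h2, Complex.natCast_re]
    rw [h1']
    exact_mod_cast hmΛ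
  -- (vii)
  have H_vii : ∀ ξ : IrrCharacter ↥D.C,
      (a : ℝ) * (n ξ : ℝ) ≤ (classInner (Gf 1) (ξ : ↥D.C → ℂ)).re := by
    obtain ⟨ρ, hρ, hρeq⟩ := exists_add_nsmul_of_classInner
      (isCharacter_mul hψchar (isCharacter_conj hψchar)) hθ a ha
    have hG1' : Gf 1 = (a : ℂ) • Θ + (fun c : ↥D.C => ρ c) := by
      rw [hG1, hΨdef, hΘdef]
      funext c
      have h2 := congrFun hρeq (c : G)
      simpa [Pi.mul_apply, Pi.add_apply, Pi.smul_apply] using h2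
    intro ξ
    rw [hG1', classInner_add_left, classInner_smul_left, hn]
    obtain ⟨k, hk⟩ := exists_nat_classInner_irr (isCharacter_restrict D.C hρ) ξ.2
    rw [hk]
    simp only [Complex.add_re, Complex.mul_re, Complex.natCast_re, Complex.natCast_im,
      mul_zero, sub_zero]
    linarith [Nat.cast_nonneg (α := ℝ) k]
  -- (iv)
  have H_iv : ∀ x : ↥D.N,
      1 ≤ ∑ ξ ∈ T, (n ξ : ℝ) * (classInner (F x 1) (ξ : ↥D.C → ℂ)).re := by
    have hA : ∃ z₀ : ↥D.N, 1 ≤ (classInner (F z₀ 1) ξ₀).re := by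
      have hn0 : n ⟨ξ₀, hξ₀⟩ ≠ 0 := by
        intro h
        apply hc0
        have h2 := hn ⟨ξ₀, hξ₀⟩
        rw [h] at h2
        simpa using h2
      have h1' : (1 : ℝ) ≤ (classInner (Gf 1) ξ₀).re := by
        have h2 := H_vii ⟨ξ₀, hξ₀⟩
        have h3 : (1 : ℝ) ≤ n ⟨ξ₀, hξ₀⟩ := by
          exact_mod_cast Nat.one_le_iff_ne_zero.mpr hn0
        have h4 : (1 : ℝ) ≤ a := by exact_mod_cast ha0
        have h5 : (1 : ℝ) ≤ (a : ℝ) * (n ⟨ξ₀, hξ₀⟩ : ℝ) := by nlinarith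
        exact le_trans h5 h2
      have h5 := hK5 1 ⟨ξ₀, hξ₀⟩
      by_contra hcon
      push Not at hcon
      have h6 : ∀ z : ↥D.N, (classInner (F z 1) ξ₀).re = 0 := by
        intro z
        obtain ⟨k, hk⟩ := exists_nat_classInner_irr (hFchar z 1) hξ₀
        have h7 := hcon z
        rw [hk, Complex.natCast_re] at h7 ⊢
        have h8 : k < 1 := by exact_mod_cast h7
        have h9 : k = 0 := by omega
        rw [h9]; simp
      rw [Finset.sum_eq_zero (fun z _ => h6 z)] at h5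
      have h10 : (0 : ℝ) < ((Nat.card ↥D.C : ℕ) : ℝ) * (classInner (Gf 1) ξ₀).re :=
        mul_pos (by exact_mod_cast hCpos) (by linarith)
      linarith
    obtain ⟨z₀, hz₀⟩ := hA
    intro x
    have hirr' : IsIrrCharacter ↥D.C (D.cF (x * z₀⁻¹) ξ₀) := D.isIrrCharacter_cF _ hξ₀
    have hval : classInner (F x 1) (D.cF (x * z₀⁻¹) ξ₀) = classInner (F z₀ 1) ξ₀ := by
      rw [← D.classInner_cF (x * z₀⁻¹) (F z₀ 1) ξ₀]
      congr 1
      rw [hF1, hF1, D.cF_mul_fun, hcfΨ, D.cF_conj, ← D.cF_mul, inv_mul_cancel_right]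
    have hwt' : wt ⟨D.cF (x * z₀⁻¹) ξ₀, hirr'⟩ = 1 := by
      have h2 := D.hasWt_cF h0 (x * z₀⁻¹)
      rw [D.cjw_one_right] at h2
      exact D.hasWt_unique (hwt ⟨_, hirr'⟩) h2 (irr_degree_ne_zero hirr')
    have hn' : n ⟨D.cF (x * z₀⁻¹) ξ₀, hirr'⟩ ≠ 0 := by
      intro h
      apply hc0
      have h2 := hn ⟨D.cF (x * z₀⁻¹) ξ₀, hirr'⟩
      rw [h] at h2
      have h3 := D.classInner_cF (x * z₀⁻¹) Θ ξ₀
      rw [hcfΘ] at h3
      rw [← h3]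
      simpa using h2
    have hmem : (⟨D.cF (x * z₀⁻¹) ξ₀, hirr'⟩ : IrrCharacter ↥D.C) ∈ T := (hTmem _).mpr hwt'
    refine le_trans ?_ (Finset.single_le_sum
      (f := fun ξ : IrrCharacter ↥D.C => (n ξ : ℝ) * (classInner (F x 1) (ξ : ↥D.C → ℂ)).re)
      (fun ξ _ => mul_nonneg (Nat.cast_nonneg _) (hFnn x 1 ξ)) hmem)
    show (1 : ℝ) ≤ (n ⟨D.cF (x * z₀⁻¹) ξ₀, hirr'⟩ : ℝ) *
      (classInner (F x 1) (D.cF (x * z₀⁻¹) ξ₀)).re
    rw [hval]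
    have h3 : (1 : ℝ) ≤ n ⟨D.cF (x * z₀⁻¹) ξ₀, hirr'⟩ := by
      exact_mod_cast Nat.one_le_iff_ne_zero.mpr hn'
    nlinarith
  -- (viii)
  have H_viii : e ≤ (Finset.univ.filter
      (fun ξ : IrrCharacter ↥D.C => ξ ∉ T ∧ n ξ ≠ 0)).card := by
    obtain ⟨f, hf⟩ : ∃ f : ↥D.N → IrrCharacter ↥D.C,
        ∀ x, (f x : ↥D.C → ℂ) = D.cF x ξ₁ :=
      ⟨fun x => ⟨D.cF x ξ₁, D.isIrrCharacter_cF x hξ₁⟩, fun _ => rfl⟩
    have hwf : ∀ x, wt (f x) = D.cjw x w₁ := fun x => by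
      have h2 := hwt (f x)
      rw [hf x] at h2
      exact D.hasWt_unique h2 (D.hasWt_cF h1 x)
        (irr_degree_ne_zero (D.isIrrCharacter_cF x hξ₁))
    have hw1x : ∀ x : ↥D.N, D.cjw x w₁ ≠ 1 := hcjw1 w₁ hw₁
    have himg : Finset.univ.image f ⊆
        Finset.univ.filter (fun ξ : IrrCharacter ↥D.C => ξ ∉ T ∧ n ξ ≠ 0) := by
      intro ξ hξ
      obtain ⟨x, -, rfl⟩ := Finset.mem_image.mp hξ
      refine Finset.mem_filter.mpr ⟨Finset.mem_univ _, ?_, ?_⟩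
      · intro hTx
        have h2 := (hTmem _).mp hTx
        rw [hwf x] at h2
        exact hw1x x h2
      · intro h
        apply hc1
        have h2 := hn (f x)
        rw [h, hf x] at h2
        have h3 := D.classInner_cF x Θ ξ₁
        rw [hcfΘ] at h3
        rw [← h3]
        simpa using h2
    have hfib : ∀ b ∈ Finset.univ.image f,
        (Finset.univ.filter (fun z => f z = b)).card ≤ Nat.card ↥D.C := by
      intro b hb
      obtain ⟨x₀, -, rfl⟩ := Finset.mem_image.mp hb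
      rw [← D.card_filter_mem_C]
      apply Finset.card_le_card_of_injOn (fun z => x₀⁻¹ * z)
      · intro z hz
        have hz2 : z ∈ Finset.univ.filter (fun z => f z = f x₀) := hz
        have hz' : f z = f x₀ := (Finset.mem_filter.mp hz2).2
        have h3 : D.cjw z w₁ = D.cjw x₀ w₁ := by rw [← hwf z, ← hwf x₀, hz']
        have h4 : D.cjw (x₀⁻¹ * z) w₁ = w₁ := by rw [D.cjw_mul, h3, D.cjw_inv_cjw]
        show x₀⁻¹ * z ∈ Finset.univ.filter (fun x : ↥D.N => (x : G) ∈ D.C)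
        refine Finset.mem_filter.mpr ⟨Finset.mem_univ _, ?_⟩
        by_contra hnot
        exact hw₁ (D.cjw_eq_self _ hnot h4)
      · intro z _ z' _ h
        exact mul_left_cancel h
    have hcard := Finset.card_le_mul_card_image (f := f) Finset.univ (Nat.card ↥D.C) hfib
    rw [Finset.card_univ, ← Nat.card_eq_fintype_card, he] at hcard
    have h5 : e ≤ (Finset.univ.image f).card := by
      have h6 : e * Nat.card ↥D.C ≤ (Finset.univ.image f).card * Nat.card ↥D.C := by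
        rw [mul_comm ((Finset.univ.image f).card)]; exact hcard
      exact Nat.le_of_mul_le_mul_right h6 hCpos
    exact le_trans h5 (Finset.card_le_card himg)
  exact bl_count T n
    (fun x ξ => ∑ μ ∈ Λ, (classInner (F x (D.cjw x lam * μ⁻¹)) (ξ : ↥D.C → ℂ)).re)
    (fun x ξ => (classInner (F x 1) (ξ : ↥D.C → ℂ)).re)
    (fun x ξ => ∑ κ : ↥D.P →* ℂˣ, (classInner (F x κ) (ξ : ↥D.C → ℂ)).re)
    (fun ξ => (classInner (Gf 1) (ξ : ↥D.C → ℂ)).re)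
    (fun ξ => ∑ κ : ↥D.P →* ℂˣ, (classInner (Gf κ) (ξ : ↥D.C → ℂ)).re)
    Λ.card a e (Nat.card ↥D.C) hX hCpos he0 ha0 H_i H_ii H_iii H_iv H_v1 H_v2 H_vi H_vii
    H_viii

end BLData

end Cfsg.Agent.Lib.helper21
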