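import Mathlib
import Cfsg.Agent.Lib.helper21.BLMixed
import Cfsg.Agent.Lib.helper21.SylowFrattini

set_option autoImplicit false
set_option linter.style.haveILetI false
set_option linter.unusedSectionVars false

/-!
# Brauer–Leonard: the group-theoretic setup (helper21 library)

A Sylow `p`-subgroup `P` all of whose nonidentity elements have centralizer `C_G(P)` gives
`BLData` with `C = C_G(P)`, `N = N_G(P)`.
-/

namespace Cfsg.Agent.Lib.helper21

open Cfsg Cfsg.Agent.Lib.helper4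
open scoped ComplexConjugate Pointwise

universe u

theorem inv_conj_pow_fin21 {G : Type*} [Group G] (g c : G) (k : ℕ) :
    (g⁻¹ * c * g) ^ k = g⁻¹ * c ^ k * g := by
  have h := conj_pow (a := g⁻¹) (b := c) (i := k)
  rwa [inv_inv] at h

/-- If all point stabilizers of a finite group action have the same order `c`, then `|α| / c`
divides the size of the set acted on. -/
theorem dvd_card_of_card_stabilizer {α β : Type*} [Group α] [MulAction α β] [Finite α]
    [Finite β] (c e : ℕ) (hc : 0 < c) (hα : Nat.card α = e * c)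
    (hstab : ∀ b : β, Nat.card (MulAction.stabilizer α b) = c) : e ∣ Nat.card β := by
  classical
  haveI := Fintype.ofFinite α
  haveI := Fintype.ofFinite β
  haveI : Fintype (MulAction.orbitRel.Quotient α β) := Fintype.ofFinite _
  haveI : ∀ b : β, Fintype (MulAction.stabilizer α b) := fun b => Fintype.ofFinite _
  have h := MulAction.card_eq_sum_card_group_div_card_stabilizer α β
  have h2 : ∀ ω : MulAction.orbitRel.Quotient α β,
      Fintype.card α / Fintype.card (MulAction.stabilizer α ω.out) = e := by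
    intro ω
    rw [← Nat.card_eq_fintype_card, ← Nat.card_eq_fintype_card, hα, hstab,
      Nat.mul_div_cancel _ hc]
  rw [Finset.sum_congr rfl (fun ω _ => h2 ω), Finset.sum_const, smul_eq_mul,
    ← Nat.card_eq_fintype_card] at h
  rw [h]
  exact dvd_mul_left _ _

theorem normalizer_le_normalizer_centralizer_fin21 {G : Type*} [Group G] [Finite G]
    (P : Subgroup G) :
    Subgroup.normalizer (P : Set G) ≤
      Subgroup.normalizer ((Subgroup.centralizer (P : Set G) : Subgroup G) : Set G) := by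
  intro x hx
  apply mem_normalizer_of_conj_mem_fin21
  intro c hc
  rw [Subgroup.mem_centralizer_iff] at hc ⊢
  intro h hh
  have h1 : x⁻¹ * h * x ∈ P := conj_mem_of_mem_normalizer hx hh
  have h2 := hc _ h1
  calc h * (x * c * x⁻¹) = x * (x⁻¹ * h * x * c) * x⁻¹ := by group
    _ = x * (c * (x⁻¹ * h * x)) * x⁻¹ := by rw [h2]
    _ = x * c * x⁻¹ * h := by group

section BLGroup

variable {G : Type u} [Group G] [Finite G] {p : ℕ} [Fact p.Prime] (P : Sylow p G)

theorem bl_comm
    (hstar : ∀ x ∈ (P : Subgroup G), x ≠ 1 →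
      Subgroup.centralizer ({x} : Set G) = Subgroup.centralizer ((P : Subgroup G) : Set G))
    {a b : G} (ha : a ∈ (P : Subgroup G)) (hb : b ∈ (P : Subgroup G)) : a * b = b * a := by
  by_cases h1 : a = 1
  · rw [h1, one_mul, mul_one]
  · have h2 : a ∈ Subgroup.centralizer ({a} : Set G) :=
      Subgroup.mem_centralizer_iff.mpr (fun h hh => by rw [Set.mem_singleton_iff.mp hh])
    rw [hstar a ha h1] at h2
    exact (Subgroup.mem_centralizer_iff.mp h2 b hb).symm

theorem bl_le_centralizer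
    (hstar : ∀ x ∈ (P : Subgroup G), x ≠ 1 →
      Subgroup.centralizer ({x} : Set G) = Subgroup.centralizer ((P : Subgroup G) : Set G)) :
    (P : Subgroup G) ≤ Subgroup.centralizer ((P : Subgroup G) : Set G) := by
  intro a ha
  exact Subgroup.mem_centralizer_iff.mpr (fun b hb => bl_comm P hstar hb ha)

omit [Finite G] in
theorem bl_mem_of_pow {c : G} (hc : c ∈ Subgroup.centralizer ((P : Subgroup G) : Set G))
    (j : ℕ) (hj : c ^ p ^ j = 1) : c ∈ (P : Subgroup G) := by
  have hZ : IsPGroup p (Subgroup.zpowers c) := isPGroup_zpowers_of_pow_eq_one c j hj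
  have hnorm : (P : Subgroup G) ≤
      Subgroup.normalizer ((Subgroup.zpowers c : Subgroup G) : Set G) := by
    intro y hy
    apply Subgroup.centralizer_le_normalizer
    rw [Subgroup.mem_centralizer_iff]
    intro h hh
    obtain ⟨k, rfl⟩ := Subgroup.mem_zpowers_iff.mp hh
    have hcy : Commute c y := (Subgroup.mem_centralizer_iff.mp hc y hy).symm
    exact (hcy.zpow_left k).eq
  have hsup : IsPGroup p (Subgroup.zpowers c ⊔ (P : Subgroup G) : Subgroup G) :=
    IsPGroup.to_sup_of_normal_left' hZ P.isPGroup' hnorm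
  have heq : Subgroup.zpowers c ⊔ (P : Subgroup G) = P := P.is_maximal' hsup le_sup_right
  rw [← heq]
  exact Subgroup.mem_sup_left (Subgroup.mem_zpowers c)

theorem bl_ti'
    (hstar : ∀ x ∈ (P : Subgroup G), x ≠ 1 →
      Subgroup.centralizer ({x} : Set G) = Subgroup.centralizer ((P : Subgroup G) : Set G))
    {y g : G} (hy : y ∈ (P : Subgroup G)) (hy1 : y ≠ 1)
    (hg : g * y * g⁻¹ ∈ (P : Subgroup G)) :
    g ∈ Subgroup.normalizer ((P : Subgroup G) : Set G) := by
  have hy'1 : g * y * g⁻¹ ≠ 1 := by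
    intro h
    apply hy1
    have h2 : y = g⁻¹ * (g * y * g⁻¹) * g := by group
    rw [h2, h]; group
  have hC : ∀ c ∈ Subgroup.centralizer ((P : Subgroup G) : Set G),
      g * c * g⁻¹ ∈ Subgroup.centralizer ((P : Subgroup G) : Set G) := by
    intro c hc
    rw [← hstar y hy hy1] at hc
    rw [← hstar _ hg hy'1]
    rw [Subgroup.mem_centralizer_iff] at hc ⊢
    intro h hh
    rw [Set.mem_singleton_iff.mp hh]
    have h3 : y * c = c * y := hc y rfl
    calc g * y * g⁻¹ * (g * c * g⁻¹) = g * (y * c) * g⁻¹ := by group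
      _ = g * (c * y) * g⁻¹ := by rw [h3]
      _ = g * c * g⁻¹ * (g * y * g⁻¹) := by group
  apply mem_normalizer_of_conj_mem_fin21
  intro z hz
  obtain ⟨j, hj⟩ := P.isPGroup' ⟨z, hz⟩
  have hj' : z ^ p ^ j = 1 := by
    have h4 := congrArg Subtype.val hj
    simpa using h4
  apply bl_mem_of_pow P (hC z (bl_le_centralizer P hstar hz)) j
  rw [conj_pow, hj']; group

theorem bl_ti
    (hstar : ∀ x ∈ (P : Subgroup G), x ≠ 1 →
      Subgroup.centralizer ({x} : Set G) = Subgroup.centralizer ((P : Subgroup G) : Set G))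
    {y g : G} (hy : y ∈ (P : Subgroup G)) (hy1 : y ≠ 1)
    (hg : g⁻¹ * y * g ∈ (P : Subgroup G)) :
    g ∈ Subgroup.normalizer ((P : Subgroup G) : Set G) := by
  have h : g⁻¹ ∈ Subgroup.normalizer ((P : Subgroup G) : Set G) :=
    bl_ti' P hstar hy hy1 (by simpa using hg)
  simpa using inv_mem h

theorem bl_ti_inf
    (hstar : ∀ x ∈ (P : Subgroup G), x ≠ 1 →
      Subgroup.centralizer ({x} : Set G) = Subgroup.centralizer ((P : Subgroup G) : Set G))
    (g : G) (hg : g ∉ Subgroup.normalizer ((P : Subgroup G) : Set G)) :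
    (P : Subgroup G) ⊓ (MulAut.conj g • (P : Subgroup G)) = ⊥ := by
  rw [eq_bot_iff]
  intro y hy
  rw [Subgroup.mem_bot]
  by_contra hy1
  apply hg
  obtain ⟨hy1', hy2⟩ := Subgroup.mem_inf.mp hy
  rw [Subgroup.mem_pointwise_smul_iff_inv_smul_mem] at hy2
  apply bl_ti P hstar hy1' hy1
  simpa [MulAut.smul_def, MulAut.conj_inv_apply] using hy2

open scoped IsMulCommutative in
theorem bl_exists_pow
    (hstar : ∀ x ∈ (P : Subgroup G), x ≠ 1 →
      Subgroup.centralizer ({x} : Set G) = Subgroup.centralizer ((P : Subgroup G) : Set G))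
    (hcard : 1 < Nat.card (P : Subgroup G)) :
    ∃ k : ℕ, (∀ a ∈ Subgroup.centralizer ((P : Subgroup G) : Set G),
        ∀ b ∈ Subgroup.centralizer ((P : Subgroup G) : Set G), (a * b) ^ k = a ^ k * b ^ k) ∧
      (∀ c ∈ Subgroup.centralizer ((P : Subgroup G) : Set G), c ^ k ∈ (P : Subgroup G)) ∧
      (∀ y ∈ (P : Subgroup G), y ^ k = y) := by
  obtain ⟨C, hCdef⟩ : ∃ C : Subgroup G,
      C = Subgroup.centralizer ((P : Subgroup G) : Set G) := ⟨_, rfl⟩
  have hPC : (P : Subgroup G) ≤ C := hCdef ▸ bl_le_centralizer P hstar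
  have hcent : ∀ c ∈ C, ∀ y ∈ (P : Subgroup G), y * c = c * y := by
    intro c hc y hy
    rw [hCdef] at hc
    exact Subgroup.mem_centralizer_iff.mp hc y hy
  rw [← hCdef]
  obtain ⟨H, hHdef⟩ : ∃ H : Subgroup ↥C, H = (P : Subgroup G).subgroupOf C := ⟨_, rfl⟩
  have hHc : H ≤ Subgroup.center ↥C := by
    intro h hh
    rw [hHdef, Subgroup.mem_subgroupOf] at hh
    rw [Subgroup.mem_center_iff]
    intro c
    exact Subtype.ext (hcent c c.2 h hh).symm
  have hHn : H.Normal := ⟨fun n hn g => by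
    have h1 : g * n = n * g := Subgroup.mem_center_iff.mp (hHc hn) g
    rw [h1, mul_inv_cancel_right]; exact hn⟩
  obtain ⟨m, hmdef⟩ : ∃ m : ℕ, m = H.index := ⟨_, rfl⟩
  have hpm : ¬ p ∣ m := by
    intro hdvd
    apply P.not_dvd_index
    rw [← Subgroup.relIndex_mul_index hPC]
    apply Dvd.dvd.mul_right
    rw [Subgroup.relIndex, ← hHdef, ← hmdef]
    exact hdvd
  obtain ⟨n, hn⟩ := IsPGroup.iff_card.mp P.isPGroup'
  have hcop : Nat.Coprime m (Nat.card (P : Subgroup G)) := by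
    rw [hn]
    exact Nat.Coprime.pow_right n ((Nat.Prime.coprime_iff_not_dvd Fact.out).mpr hpm).symm
  obtain ⟨m', -, hm'⟩ := Nat.exists_mul_mod_eq_one_of_coprime hcop hcard
  have hkey : ∀ (g : ↥C) (k : ℕ) (g₀ : ↥C), g₀⁻¹ * g ^ k * g₀ ∈ H →
      g₀⁻¹ * g ^ k * g₀ = g ^ k := by
    intro g k g₀ hmem
    have h1 := Subgroup.mem_center_iff.mp (hHc hmem) g₀
    have h2 : g₀ * (g₀⁻¹ * g ^ k * g₀) = g ^ k * g₀ := by group
    rw [h2] at h1
    exact (mul_right_cancel h1).symm
  have hpow : ∀ g : ↥C, g ^ m ∈ H := fun g => by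
    rw [hmdef]; exact H.pow_index_mem g
  obtain ⟨T, hT⟩ : ∃ T : ↥C →* ↥(Subgroup.center ↥C),
      ∀ g : ↥C, ((T g : ↥(Subgroup.center ↥C)) : ↥C) = g ^ m := by
    let T0 : ↥C →* ↥(Subgroup.center ↥C) :=
      MonoidHom.transfer (A := ↥(Subgroup.center ↥C)) (Subgroup.inclusion hHc)
    refine ⟨T0, fun g => ?_⟩
    have h1 : T0 g = (Subgroup.inclusion hHc) ⟨g ^ H.index, H.pow_index_mem g⟩ :=
      MonoidHom.transfer_eq_pow (A := ↥(Subgroup.center ↥C)) (Subgroup.inclusion hHc) g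
        (hkey g)
    rw [h1, hmdef]
    rfl
  have hmul : ∀ a b : ↥C, (a * b) ^ (m * m') = a ^ (m * m') * b ^ (m * m') := by
    intro a b
    have h1 : (a * b) ^ m = a ^ m * b ^ m := by
      rw [← hT, ← hT, ← hT, map_mul]; rfl
    have h2 : Commute (a ^ m) (b ^ m) := by
      have h3 := Subgroup.mem_center_iff.mp (T a).2 (b ^ m)
      rw [hT] at h3
      exact h3.symm
    rw [pow_mul, pow_mul, pow_mul, h1, h2.mul_pow]
  refine ⟨m * m', ?_, ?_, ?_⟩
  · intro a ha b hb
    have h1 := congrArg Subtype.val (hmul ⟨a, ha⟩ ⟨b, hb⟩)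
    simpa using h1
  · intro c hc
    have h1 := hpow ⟨c, hc⟩
    rw [hHdef, Subgroup.mem_subgroupOf] at h1
    rw [pow_mul]
    exact pow_mem (by simpa using h1) m'
  · intro y hy
    have h1 : (⟨y, hy⟩ : ↥(P : Subgroup G)) ^ (m * m') = ⟨y, hy⟩ := by
      rw [← pow_mod_natCard, hm', pow_one]
    have h2 := congrArg Subtype.val h1
    simpa using h2

/-- The exponent `k` with `c ↦ c ^ k` a retraction `C_G(P) → P`. -/
noncomputable def blPow
    (hstar : ∀ x ∈ (P : Subgroup G), x ≠ 1 →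
      Subgroup.centralizer ({x} : Set G) = Subgroup.centralizer ((P : Subgroup G) : Set G))
    (hcard : 1 < Nat.card (P : Subgroup G)) : ℕ :=
  Classical.choose (bl_exists_pow P hstar hcard)

theorem blPow_spec
    (hstar : ∀ x ∈ (P : Subgroup G), x ≠ 1 →
      Subgroup.centralizer ({x} : Set G) = Subgroup.centralizer ((P : Subgroup G) : Set G))
    (hcard : 1 < Nat.card (P : Subgroup G)) :
    (∀ a ∈ Subgroup.centralizer ((P : Subgroup G) : Set G),
        ∀ b ∈ Subgroup.centralizer ((P : Subgroup G) : Set G),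
          (a * b) ^ blPow P hstar hcard = a ^ blPow P hstar hcard * b ^ blPow P hstar hcard) ∧
      (∀ c ∈ Subgroup.centralizer ((P : Subgroup G) : Set G),
        c ^ blPow P hstar hcard ∈ (P : Subgroup G)) ∧
      (∀ y ∈ (P : Subgroup G), y ^ blPow P hstar hcard = y) :=
  Classical.choose_spec (bl_exists_pow P hstar hcard)

/-- The Brauer–Leonard data attached to a Sylow subgroup with uniform centralizers. -/
noncomputable def blData
    (hstar : ∀ x ∈ (P : Subgroup G), x ≠ 1 →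
      Subgroup.centralizer ({x} : Set G) = Subgroup.centralizer ((P : Subgroup G) : Set G))
    (hcard : 1 < Nat.card (P : Subgroup G)) : BLData G where
  P := (P : Subgroup G)
  C := Subgroup.centralizer ((P : Subgroup G) : Set G)
  N := Subgroup.normalizer ((P : Subgroup G) : Set G)
  hPC := bl_le_centralizer P hstar
  hCN := Subgroup.centralizer_le_normalizer _
  hNP := le_rfl
  hNC := normalizer_le_normalizer_centralizer_fin21 (P : Subgroup G)
  hcent := fun y hy c hc => Subgroup.mem_centralizer_iff.mp hc y hy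
  π :=
    { toFun := fun c => ⟨(c : G) ^ blPow P hstar hcard, (blPow_spec P hstar hcard).2.1 c c.2⟩
      map_one' := Subtype.ext (by simp)
      map_mul' := fun a b => Subtype.ext ((blPow_spec P hstar hcard).1 a a.2 b b.2) }
  hπ := fun y => Subtype.ext ((blPow_spec P hstar hcard).2.2 y y.2)
  hTI := fun c hc g hg => by
    have h1 : (c : G) ^ blPow P hstar hcard ∈ (P : Subgroup G) :=
      (blPow_spec P hstar hcard).2.1 c c.2
    have h2 : (c : G) ^ blPow P hstar hcard ≠ 1 := fun h => hc (Subtype.ext h)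
    apply bl_ti P hstar h1 h2
    have h3 := (blPow_spec P hstar hcard).2.1 _ hg
    rw [inv_conj_pow_fin21] at h3
    exact h3
  hsemi := fun x hx hxC y hy hfix => by
    by_contra hy1
    apply hxC
    rw [← hstar y hy hy1, Subgroup.mem_centralizer_iff]
    intro h hh
    rw [Set.mem_singleton_iff.mp hh]
    calc y * x = x * (x⁻¹ * y * x) := by group
      _ = x * y := by rw [hfix]

end BLGroup

namespace BLData

variable {G : Type u} [Group G] (D : BLData G)

/-- `|N : C|` divides `|P| - 1`. -/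
theorem dvd_card_sub_one [Finite G] (e : ℕ) (he : Nat.card ↥D.N = e * Nat.card ↥D.C) :
    e ∣ Nat.card ↥D.P - 1 := by
  classical
  have hmem : ∀ (x : ↥D.N) (y : ↥D.P), (x : G) * (y : G) * (x : G)⁻¹ ∈ D.P := fun x y =>
    (Subgroup.mem_normalizer_iff.mp (D.hNP x.2) _).mp y.2
  letI act : MulAction ↥D.N {y : ↥D.P // y ≠ 1} :=
    { smul := fun x y => ⟨⟨(x : G) * (y.1 : G) * (x : G)⁻¹, hmem x y.1⟩, fun h => y.2 (by
        have h1 : (x : G) * (y.1 : G) * (x : G)⁻¹ = 1 := congrArg Subtype.val h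
        apply Subtype.ext
        have h2 : (y.1 : G) = (x : G)⁻¹ * ((x : G) * (y.1 : G) * (x : G)⁻¹) * (x : G) := by
          group
        rw [h2, h1]
        simp)⟩
      one_smul := fun y => Subtype.ext (Subtype.ext (by
        show ((1 : ↥D.N) : G) * (y.1 : G) * ((1 : ↥D.N) : G)⁻¹ = (y.1 : G)
        simp))
      mul_smul := fun a b y => Subtype.ext (Subtype.ext (by
        show ((a * b : ↥D.N) : G) * (y.1 : G) * ((a * b : ↥D.N) : G)⁻¹ =
          (a : G) * ((b : G) * (y.1 : G) * (b : G)⁻¹) * (a : G)⁻¹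
        simp [mul_assoc])) }
  have hsmul : ∀ (x : ↥D.N) (y : {y : ↥D.P // y ≠ 1}),
      (((x • y : {y : ↥D.P // y ≠ 1}).1 : ↥D.P) : G) = (x : G) * (y.1 : G) * (x : G)⁻¹ :=
    fun _ _ => rfl
  have hstab : ∀ b : {y : ↥D.P // y ≠ 1},
      Nat.card (MulAction.stabilizer ↥D.N b) = Nat.card ↥D.C := by
    intro b
    refine Nat.card_congr
      ⟨fun s => ⟨(s.1 : G), ?_⟩, fun c => ⟨⟨(c : G), D.hCN c.2⟩, ?_⟩, fun _ => rfl, fun _ => rfl⟩
    · by_contra hC
      have hs : s.1 • b = b := s.2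
      have h1 : (s.1 : G) * (b.1 : G) * (s.1 : G)⁻¹ = (b.1 : G) := by
        rw [← hsmul, hs]
      have h2 : (s.1 : G)⁻¹ * (b.1 : G) * (s.1 : G) = (b.1 : G) := by
        calc (s.1 : G)⁻¹ * (b.1 : G) * (s.1 : G)
            = (s.1 : G)⁻¹ * ((s.1 : G) * (b.1 : G) * (s.1 : G)⁻¹) * (s.1 : G) := by rw [h1]
          _ = (b.1 : G) := by group
      exact b.2 (Subtype.ext (D.hsemi _ s.1.2 hC _ b.1.2 h2))
    · rw [MulAction.mem_stabilizer_iff]
      apply Subtype.ext
      apply Subtype.ext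
      rw [hsmul]
      show (c : G) * (b.1 : G) * (c : G)⁻¹ = (b.1 : G)
      rw [← D.hcent _ b.1.2 _ c.2, mul_inv_cancel_right]
  have hdvd := dvd_card_of_card_stabilizer (α := ↥D.N) (β := {y : ↥D.P // y ≠ 1})
    (Nat.card ↥D.C) e Nat.card_pos he hstab
  have hcard : Nat.card {y : ↥D.P // y ≠ 1} = Nat.card ↥D.P - 1 := by
    haveI := Fintype.ofFinite ↥D.P
    rw [Nat.card_eq_fintype_card, Fintype.card_subtype, Finset.filter_ne',
      Finset.card_erase_of_mem (Finset.mem_univ _), Finset.card_univ, Nat.card_eq_fintype_card]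
  rw [← hcard]
  exact hdvd

theorem card_hom_P [Finite G] : Nat.card (↥D.P →* ℂˣ) = Nat.card ↥D.P := by
  letI : CommGroup ↥D.P := { (inferInstance : Group ↥D.P) with mul_comm := D.comm_P }
  have : NeZero (Monoid.exponent ↥D.P) := ⟨Monoid.exponent_ne_zero_of_finite⟩
  exact CommGroup.card_monoidHom_of_hasEnoughRootsOfUnity ↥D.P ℂ

theorem finite_hom_P [Finite G] : Finite (↥D.P →* ℂˣ) := by
  apply Nat.finite_of_card_ne_zero
  rw [D.card_hom_P]
  exact Nat.card_pos.ne'

/-- The number of nontrivial linear characters of `P` outside the `N`-orbit of `lam`. -/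
theorem card_admissible [Finite G] (e : ℕ) (he : Nat.card ↥D.N = e * Nat.card ↥D.C)
    (lam : ↥D.P →* ℂˣ) :
    Nat.card ↥D.P ≤
      Nat.card {μ : ↥D.P →* ℂˣ // μ ≠ 1 ∧ ∀ x : ↥D.N, μ ≠ D.cjw x lam} + e + 1 := by
  classical
  haveI := Fintype.ofFinite ↥D.N
  haveI := D.finite_hom_P
  haveI := Fintype.ofFinite (↥D.P →* ℂˣ)
  obtain ⟨O, hO⟩ : ∃ O : Finset (↥D.P →* ℂˣ),
      O = Finset.univ.image (fun x : ↥D.N => D.cjw x lam) := ⟨_, rfl⟩
  have hOcard : O.card ≤ e := by
    have hfib : ∀ b ∈ Finset.univ.image (fun x : ↥D.N => D.cjw x lam),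
        Nat.card ↥D.C ≤ (Finset.univ.filter (fun z : ↥D.N => D.cjw z lam = b)).card := by
      intro b hb
      obtain ⟨x₀, -, rfl⟩ := Finset.mem_image.mp hb
      rw [← D.card_filter_mem_C]
      apply Finset.card_le_card_of_injOn (fun c => c * x₀)
      · intro c hc
        have hc' : (c : G) ∈ D.C := (Finset.mem_filter.mp hc).2
        refine Finset.mem_filter.mpr ⟨Finset.mem_univ _, ?_⟩
        rw [D.cjw_mul, D.cjw_of_mem c hc']
      · intro c _ c' _ h
        exact mul_right_cancel h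
    have h1 := Finset.mul_card_image_le_card (f := fun x : ↥D.N => D.cjw x lam) Finset.univ
      (Nat.card ↥D.C) hfib
    rw [Finset.card_univ, ← Nat.card_eq_fintype_card, he, ← hO, mul_comm] at h1
    exact Nat.le_of_mul_le_mul_right h1 Nat.card_pos
  have hsub : Finset.univ \ insert 1 O ⊆
      Finset.univ.filter (fun μ : ↥D.P →* ℂˣ => μ ≠ 1 ∧ ∀ x : ↥D.N, μ ≠ D.cjw x lam) := by
    intro μ hμ
    rw [Finset.mem_sdiff, Finset.mem_insert, not_or] at hμ
    refine Finset.mem_filter.mpr ⟨Finset.mem_univ _, hμ.2.1, fun x hx => hμ.2.2 ?_⟩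
    rw [hO, hx]
    exact Finset.mem_image_of_mem _ (Finset.mem_univ _)
  have h2 := Finset.card_le_card hsub
  have h3 := Finset.le_card_sdiff (insert 1 O) (Finset.univ : Finset (↥D.P →* ℂˣ))
  have h4 := Finset.card_insert_le (1 : ↥D.P →* ℂˣ) O
  have h5 : (Finset.univ : Finset (↥D.P →* ℂˣ)).card = Nat.card ↥D.P := by
    rw [Finset.card_univ, ← Nat.card_eq_fintype_card, D.card_hom_P]
  have h6 : Nat.card {μ : ↥D.P →* ℂˣ // μ ≠ 1 ∧ ∀ x : ↥D.N, μ ≠ D.cjw x lam} =
      (Finset.univ.filter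
        (fun μ : ↥D.P →* ℂˣ => μ ≠ 1 ∧ ∀ x : ↥D.N, μ ≠ D.cjw x lam)).card := by
    rw [Nat.card_eq_fintype_card, Fintype.card_subtype]
  rw [h6]
  omega

/-- A nontrivial linear character sums to zero. -/
theorem sum_hom_eq_zero [Fintype ↥D.P] {w : ↥D.P →* ℂˣ} (hw : w ≠ 1) :
    ∑ y : ↥D.P, ((w y : ℂˣ) : ℂ) = 0 := by
  obtain ⟨y₀, hy₀⟩ : ∃ y, w y ≠ 1 := by
    by_contra hcon
    push Not at hcon
    exact hw (MonoidHom.ext hcon)
  have hS : ∑ y : ↥D.P, ((w y : ℂˣ) : ℂ) =
      ((w y₀ : ℂˣ) : ℂ) * ∑ y : ↥D.P, ((w y : ℂˣ) : ℂ) := by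
    rw [Finset.mul_sum, ← Equiv.sum_comp (Equiv.mulLeft y₀)]
    refine Finset.sum_congr rfl (fun y _ => ?_)
    rw [Equiv.coe_mulLeft, map_mul, Units.val_mul]
  have hne : ((w y₀ : ℂˣ) : ℂ) ≠ 1 := fun h => hy₀ (Units.ext h)
  have h3 : (1 - ((w y₀ : ℂˣ) : ℂ)) * ∑ y : ↥D.P, ((w y : ℂˣ) : ℂ) = 0 := by
    rw [sub_mul, one_mul, ← hS, sub_self]
  rcases mul_eq_zero.mp h3 with h0 | h0
  · exact absurd (sub_eq_zero.mp h0).symm hne
  · exact h0

end BLData

end Cfsg.Agent.Lib.helper21
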