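import Mathlib

/-!
# The socle of the group algebra of a `p`-group in characteristic `p` (helper21)

For a finite `p`-group `Q`, a field `k` of characteristic `p` and a nonzero function
`c : Q → k`, the constant function `1` is a `k`-linear combination of the left translates
of `c`  (every nonzero left ideal of `k[Q]` contains the sum of all group elements).
-/

namespace Cfsg.Agent.Lib.helper21

section Socle

variable {k : Type*} [Field k] {Q : Type*} [Group Q] [Fintype Q]

/-- The map sending coefficients `n : Q → ZMod p` to the combination `∑ u, n u • (u · c)` of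
left translates of `c`. -/
noncomputable def socleMap (p : ℕ) [Fact p.Prime] [CharP k p] (c : Q → k) :
    (Q → ZMod p) →+ (Q → k) where
  toFun n := fun x => ∑ u, (ZMod.castHom (dvd_refl p) k (n u)) * c (u⁻¹ * x)
  map_zero' := by funext x; simp
  map_add' n m := by funext x; simp [add_mul, Finset.sum_add_distrib]

theorem socleMap_apply (p : ℕ) [Fact p.Prime] [CharP k p] (c : Q → k) (n : Q → ZMod p) (x : Q) :
    socleMap (k := k) p c n x = ∑ u, (ZMod.castHom (dvd_refl p) k (n u)) * c (u⁻¹ * x) := rfl

/-- Left translation action of `Q` on the range of `socleMap`. -/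
@[instance_reducible]
noncomputable def socleAction (p : ℕ) [Fact p.Prime] [CharP k p] (c : Q → k) :
    MulAction Q ↥(socleMap (k := k) p c).range where
  smul u f := ⟨fun x => f.1 (u⁻¹ * x), by
    obtain ⟨n, hn⟩ := f.2
    refine ⟨fun w => n (u⁻¹ * w), ?_⟩
    funext x
    rw [← hn, socleMap_apply, socleMap_apply]
    refine Fintype.sum_equiv (Equiv.mulLeft u⁻¹) _ _ (fun w => ?_)
    simp [mul_assoc]⟩
  one_smul f := by
    apply Subtype.ext; funext x
    show f.1 ((1 : Q)⁻¹ * x) = f.1 x
    simp
  mul_smul u v f := by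
    apply Subtype.ext; funext x
    show f.1 ((u * v)⁻¹ * x) = f.1 (v⁻¹ * (u⁻¹ * x))
    simp [mul_assoc]

theorem socleAction_smul_val (p : ℕ) [Fact p.Prime] [CharP k p] (c : Q → k) (u : Q)
    (f : ↥(socleMap (k := k) p c).range) (x : Q) :
    ((socleAction (k := k) p c).toSMul.smul u f).1 x = f.1 (u⁻¹ * x) := rfl

/-- **Socle lemma.** In characteristic `p`, for a `p`-group `Q` and `c ≠ 0`, the constant
function `1` is a combination of left translates of `c`. -/
theorem exists_comb_translates_eq_one (p : ℕ) [Fact p.Prime] [CharP k p] (hQ : IsPGroup p Q)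
    (c : Q → k) (hc : c ≠ 0) : ∃ a : Q → k, ∀ x : Q, ∑ u, a u * c (u⁻¹ * x) = 1 := by
  classical
  let _ := socleAction (k := k) p c
  have hcS : c ∈ (socleMap (k := k) p c).range := by
    refine ⟨Pi.single 1 1, ?_⟩
    funext x
    rw [socleMap_apply, Finset.sum_eq_single 1]
    · simp
    · intro u _ hu
      simp [hu]
    · intro h; exact absurd (Finset.mem_univ _) h
  have hfin : Finite ↥(socleMap (k := k) p c).range :=
    (Set.finite_range (socleMap (k := k) p c)).to_subtype
  have hcard : p ∣ Nat.card ↥(socleMap (k := k) p c).range := by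
    have h1 : Nat.card ↥(socleMap (k := k) p c).range ∣ Nat.card (Q → ZMod p) :=
      AddSubgroup.card_range_dvd _
    have h2 : Nat.card (Q → ZMod p) = p ^ Fintype.card Q := by
      rw [Nat.card_eq_fintype_card, Fintype.card_fun, ZMod.card]
    rw [h2] at h1
    obtain ⟨j, _, hj'⟩ := (Nat.dvd_prime_pow (Fact.out : p.Prime)).1 h1
    have hj0 : j ≠ 0 := by
      rintro rfl
      rw [pow_zero] at hj'
      have hsub : Subsingleton ↥(socleMap (k := k) p c).range :=
        (Nat.card_eq_one_iff_unique.1 hj').1
      have : (⟨c, hcS⟩ : ↥(socleMap (k := k) p c).range) = 0 := Subsingleton.elim _ _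
      exact hc (congrArg Subtype.val this)
    rw [hj']; exact dvd_pow_self p hj0
  have hfix : (0 : ↥(socleMap (k := k) p c).range) ∈
      MulAction.fixedPoints Q ↥(socleMap (k := k) p c).range := by
    intro u
    apply Subtype.ext; funext x; rfl
  obtain ⟨b, hb, hb0⟩ :=
    hQ.exists_fixed_point_of_prime_dvd_card_of_fixed_point
      ↥(socleMap (k := k) p c).range hcard hfix
  have hconst : ∀ x : Q, b.1 x = b.1 1 := by
    intro x
    have h : (x • b).1 x = b.1 x :=
      congrArg (fun f : ↥(socleMap (k := k) p c).range => f.1 x) (hb x)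
    have h2 : (x • b).1 x = b.1 (x⁻¹ * x) := rfl
    rw [h2, inv_mul_cancel] at h
    exact h.symm
  have hb1 : b.1 1 ≠ 0 := by
    intro h
    apply hb0
    apply Subtype.ext
    funext x
    rw [hconst x, h]; rfl
  obtain ⟨n, hn⟩ := b.2
  refine ⟨fun u => (ZMod.castHom (dvd_refl p) k (n u)) / b.1 1, fun x => ?_⟩
  have h3 : b.1 x = ∑ u, (ZMod.castHom (dvd_refl p) k (n u)) * c (u⁻¹ * x) := by
    rw [← hn]; rfl
  have h4 : ∑ u, (ZMod.castHom (dvd_refl p) k (n u)) / b.1 1 * c (u⁻¹ * x)
      = (∑ u, (ZMod.castHom (dvd_refl p) k (n u)) * c (u⁻¹ * x)) / b.1 1 := by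
    rw [Finset.sum_div]
    apply Finset.sum_congr rfl
    intro u _
    ring
  rw [h4, ← h3, hconst x, div_self hb1]

end Socle

end Cfsg.Agent.Lib.helper21
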