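import Mathlib
import Cfsg.Agent.Lib.helper21.SocleP
import Cfsg.Agent.Lib.helper21.SylowConj

/-!
# A lattice argument for TI Sylow subgroups (helper21)

Let `Q ≤ H ≤ G` with `Q` a `p`-group acting freely on the cosets `gH ≠ H`
(`g⁻¹ q g ∈ H`, `g ∉ H` forces `q = 1`).  If `v` is an `H`-fixed vector of a complex
representation of `G` whose orbit spans a space of dimension `< |Q|` and whose orbit sum
vanishes, then `v = 0`.

The proof reduces modulo a valuation ring of `ℂ` in which `p` is a non-unit.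
-/

namespace Cfsg.Agent.Lib.helper21

open scoped Pointwise

/-- A valuation subring of `ℂ` in which the prime `p` is a non-unit. -/
theorem exists_valuationSubring_lt_one (p : ℕ) [Fact p.Prime] :
    ∃ B : ValuationSubring ℂ, B.valuation (p : ℂ) < 1 := by
  let A : Subring ℂ := (Int.castRingHom ℂ).range
  let pA : A := ⟨(p : ℂ), ⟨(p : ℤ), by simp⟩⟩
  have hI : Ideal.span {pA} ≠ ⊤ := by
    intro h
    rw [Ideal.span_singleton_eq_top] at h
    obtain ⟨⟨b, hbA⟩, hb⟩ := isUnit_iff_exists_inv.1 h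
    obtain ⟨n, rfl⟩ := hbA
    have h0 : ((p : ℂ) * ((Int.castRingHom ℂ) n) : ℂ) = 1 := congrArg Subtype.val hb
    have h1 : ((p : ℤ) * n : ℤ) = 1 := by
      have h2 : (((p : ℤ) * n : ℤ) : ℂ) = ((1 : ℤ) : ℂ) := by
        push_cast
        simpa using h0
      exact_mod_cast h2
    have h3 : (p : ℤ) ∣ 1 := ⟨n, h1.symm⟩
    have h4 : p ∣ 1 := by exact_mod_cast h3
    exact (Fact.out : p.Prime).one_lt.ne' (Nat.dvd_one.1 h4)
  obtain ⟨B, -, hB⟩ := Ideal.image_subset_nonunits_valuationSubring (Ideal.span {pA}) hI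
  refine ⟨B, ?_⟩
  rw [← ValuationSubring.mem_nonunits_iff]
  exact hB ⟨pA, Ideal.subset_span rfl, rfl⟩

section Lattice

variable {G : Type*} [Group G] [Fintype G] {W : Type*} [AddCommGroup W] [Module ℂ W]
  (τ : Representation ℂ G W) (B : ValuationSubring ℂ) (v : W)

/-- `w` lies in `𝔪Λ`, where `Λ` is the `B`-span of the `G`-orbit of `v` and `𝔪` the maximal
ideal of `B`. -/
def InM (w : W) : Prop :=
  ∃ m : G → ℂ, (∀ g, B.valuation (m g) < 1) ∧ w = ∑ g, m g • τ g v

theorem inM_zero : InM τ B v 0 :=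
  ⟨fun _ => 0, fun _ => by simp, by simp⟩

variable {τ B v}

theorem inM_add {w w' : W} (h : InM τ B v w) (h' : InM τ B v w') : InM τ B v (w + w') := by
  obtain ⟨m, hm, rfl⟩ := h
  obtain ⟨m', hm', rfl⟩ := h'
  refine ⟨fun g => m g + m' g, fun g => Valuation.map_add_lt _ (hm g) (hm' g), ?_⟩
  rw [← Finset.sum_add_distrib]
  exact Finset.sum_congr rfl (fun g _ => (add_smul _ _ _).symm)

theorem inM_neg {w : W} (h : InM τ B v w) : InM τ B v (-w) := by
  obtain ⟨m, hm, rfl⟩ := h
  refine ⟨fun g => - m g, fun g => by rw [Valuation.map_neg]; exact hm g, ?_⟩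
  rw [← Finset.sum_neg_distrib]
  exact Finset.sum_congr rfl (fun g _ => (neg_smul _ _).symm)

theorem inM_map {w : W} (h : InM τ B v w) (y : G) : InM τ B v (τ y w) := by
  obtain ⟨m, hm, rfl⟩ := h
  refine ⟨fun g => m (y⁻¹ * g), fun g => hm _, ?_⟩
  rw [map_sum]
  refine Fintype.sum_equiv (Equiv.mulLeft y) _ _ (fun g => ?_)
  show τ y (m g • τ g v) = m (y⁻¹ * (y * g)) • τ (y * g) v
  rw [map_smul, inv_mul_cancel_left, map_mul, Module.End.mul_apply]

theorem inM_sum {ι : Type*} (s : Finset ι) (f : ι → W) (h : ∀ i ∈ s, InM τ B v (f i)) :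
    InM τ B v (∑ i ∈ s, f i) := by
  classical
  induction s using Finset.induction_on with
  | empty => simpa using inM_zero τ B v
  | insert a s ha ih =>
    rw [Finset.sum_insert ha]
    exact inM_add (h a (Finset.mem_insert_self a s))
      (ih (fun i hi => h i (Finset.mem_insert_of_mem hi)))

theorem inM_single {a : ℂ} (ha : B.valuation a < 1) (g : G) : InM τ B v (a • τ g v) := by
  classical
  refine ⟨Pi.single g a, fun g' => ?_, ?_⟩
  · by_cases h : g' = g
    · subst h; simpa using ha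
    · simp [h]
  · rw [Finset.sum_eq_single g]
    · simp
    · intro b _ hb; simp [hb]
    · intro h; exact absurd (Finset.mem_univ _) h

/-- Nakayama: a nonzero `v` does not lie in `𝔪Λ`. -/
theorem not_inM [FiniteDimensional ℂ W] (hv : v ≠ 0) : ¬ InM τ B v v := by
  classical
  rintro ⟨m, hm, hmv⟩
  let b := Module.finBasis ℂ W
  have h1 : ∃ i, b.repr v i ≠ 0 := by
    by_contra hcon
    apply hv
    apply b.repr.injective
    ext i
    by_contra hne
    exact hcon ⟨i, by simpa using hne⟩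
  obtain ⟨i₁, hi₁⟩ := h1
  obtain ⟨⟨g₀, i₀⟩, -, hmax⟩ := Finset.exists_max_image
    (Finset.univ : Finset (G × Fin (Module.finrank ℂ W)))
    (fun y => B.valuation (b.repr (τ y.1 v) y.2)) ⟨(1, i₁), Finset.mem_univ _⟩
  have hμ0 : B.valuation (b.repr (τ g₀ v) i₀) ≠ 0 := by
    have h2 : B.valuation (b.repr (τ 1 v) i₁) ≤ B.valuation (b.repr (τ g₀ v) i₀) :=
      hmax (1, i₁) (Finset.mem_univ _)
    have h3 : B.valuation (b.repr (τ 1 v) i₁) ≠ 0 := by
      rw [map_one, Module.End.one_apply]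
      exact (Valuation.ne_zero_iff _).2 hi₁
    intro h0
    rw [h0] at h2
    exact h3 (LE.le.eq_zero h2)
  have h4 : τ g₀ v = ∑ g, m g • τ (g₀ * g) v := by
    conv_lhs => rw [hmv]
    rw [map_sum]
    refine Finset.sum_congr rfl (fun g _ => ?_)
    rw [map_smul, map_mul, Module.End.mul_apply]
  have h5 : b.repr (τ g₀ v) i₀ = ∑ g, m g * b.repr (τ (g₀ * g) v) i₀ := by
    conv_lhs => rw [h4]
    rw [map_sum, Finsupp.finsetSum_apply]
    refine Finset.sum_congr rfl (fun g _ => ?_)
    rw [map_smul, Finsupp.smul_apply, smul_eq_mul]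
  have h6 : B.valuation (b.repr (τ g₀ v) i₀) < B.valuation (b.repr (τ g₀ v) i₀) := by
    conv_lhs => rw [h5]
    refine Valuation.map_sum_lt _ hμ0 (fun g _ => ?_)
    rw [map_mul]
    have h7 : B.valuation (b.repr (τ (g₀ * g) v) i₀) ≤ B.valuation (b.repr (τ g₀ v) i₀) :=
      hmax (g₀ * g, i₀) (Finset.mem_univ _)
    calc B.valuation (m g) * B.valuation (b.repr (τ (g₀ * g) v) i₀)
        ≤ B.valuation (m g) * B.valuation (b.repr (τ g₀ v) i₀) := mul_le_mul_right h7 _
      _ < 1 * B.valuation (b.repr (τ g₀ v) i₀) :=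
          mul_lt_mul_of_pos_right (hm g) (zero_lt_iff.2 hμ0)
      _ = B.valuation (b.repr (τ g₀ v) i₀) := one_mul _
  exact lt_irrefl _ h6

/-- The socle step: if the `|Q|` vectors `x y v` (`x ∈ Q`) are linearly dependent, then their
sum lies in `𝔪Λ`. -/
theorem sum_subgroup_inM [FiniteDimensional ℂ W] (p : ℕ) [Fact p.Prime]
    (hp : B.valuation (p : ℂ) < 1) (Q : Subgroup G) [Fintype Q] (hQ : IsPGroup p Q)
    (K : Submodule ℂ W) (hK : Module.finrank ℂ K < Fintype.card Q) (hvK : ∀ g, τ g v ∈ K)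
    (y : G) : InM τ B v (∑ x : Q, τ ((x : G) * y) v) := by
  classical
  have hdep : ¬ LinearIndependent ℂ (fun x : Q => τ ((x : G) * y) v) := by
    intro hli
    have h1 := finrank_span_eq_card hli
    have h2 : Submodule.span ℂ (Set.range (fun x : Q => τ ((x : G) * y) v)) ≤ K := by
      rw [Submodule.span_le]; rintro _ ⟨x, rfl⟩; exact hvK _
    have h3 := Submodule.finrank_mono h2
    omega
  obtain ⟨c, hc0, x₁, hx₁⟩ := Fintype.not_linearIndependent_iff.1 hdep
  obtain ⟨x₀, -, hmax⟩ := Finset.exists_max_image (Finset.univ : Finset Q)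
    (fun x => B.valuation (c x)) ⟨x₁, Finset.mem_univ _⟩
  have hcx₀ : c x₀ ≠ 0 := by
    intro h0
    have h1 := hmax x₁ (Finset.mem_univ _)
    simp only [h0, map_zero] at h1
    exact hx₁ ((Valuation.zero_iff _).1 (LE.le.eq_zero h1))
  have hvx₀ : 0 < B.valuation (c x₀) := zero_lt_iff.2 ((Valuation.ne_zero_iff _).2 hcx₀)
  have hc'B : ∀ x : Q, c x / c x₀ ∈ B := by
    intro x
    rw [← B.valuation_le_one_iff, map_div₀]
    exact (div_le_one₀ hvx₀).mpr (hmax x (Finset.mem_univ _))
  have hc'sum : ∑ x : Q, (c x / c x₀) • τ ((x : G) * y) v = 0 := by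
    have h1 : ∑ x : Q, (c x / c x₀) • τ ((x : G) * y) v
        = (c x₀)⁻¹ • ∑ x : Q, c x • τ ((x : G) * y) v := by
      rw [Finset.smul_sum]
      refine Finset.sum_congr rfl (fun x _ => ?_)
      rw [smul_smul, div_eq_inv_mul]
    rw [h1, hc0, smul_zero]
  -- the residue field
  have hpk : ((p : ℕ) : IsLocalRing.ResidueField B) = 0 := by
    have h1 : ((p : ℕ) : B) ∈ IsLocalRing.maximalIdeal B := by
      rw [B.valuation_lt_one_iff]; simpa using hp
    have h2 := (IsLocalRing.residue_eq_zero_iff (R := B) _).2 h1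
    simpa using h2
  have : CharP (IsLocalRing.ResidueField B) p :=
    (CharP.charP_iff_prime_eq_zero (Fact.out : p.Prime)).2 hpk
  have hcbar0 : (fun x : Q => IsLocalRing.residue B ⟨c x / c x₀, hc'B x⟩) ≠ 0 := by
    intro h
    have h1 : IsLocalRing.residue B ⟨c x₀ / c x₀, hc'B x₀⟩ = 0 := congrFun h x₀
    have h2 : (⟨c x₀ / c x₀, hc'B x₀⟩ : B) = 1 := by
      apply Subtype.ext
      simp [div_self hcx₀]
    rw [h2, map_one] at h1
    exact one_ne_zero h1
  obtain ⟨abar, habar⟩ := exists_comb_translates_eq_one (k := IsLocalRing.ResidueField B) p hQ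
    (fun x : Q => IsLocalRing.residue B ⟨c x / c x₀, hc'B x⟩) hcbar0
  have hsurj : ∀ u : Q, ∃ a : B, IsLocalRing.residue B a = abar u :=
    fun u => IsLocalRing.residue_surjective _
  choose a ha using hsurj
  have hres : ∀ x : Q, IsLocalRing.residue B
      ((∑ u : Q, a u * ⟨c (u⁻¹ * x) / c x₀, hc'B _⟩) - 1) = 0 := by
    intro x
    rw [map_sub, map_one, map_sum, sub_eq_zero, ← habar x]
    refine Finset.sum_congr rfl (fun u _ => ?_)
    rw [map_mul, ha]
  have hcoe : ∀ x : Q, (((∑ u : Q, a u * ⟨c (u⁻¹ * x) / c x₀, hc'B _⟩ : B) - 1 : B) : ℂ)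
      = (∑ u : Q, (a u : ℂ) * (c (u⁻¹ * x) / c x₀)) - 1 := by
    intro x
    push_cast
    rfl
  have hval : ∀ x : Q, B.valuation ((∑ u : Q, (a u : ℂ) * (c (u⁻¹ * x) / c x₀)) - 1) < 1 := by
    intro x
    have h1 := (IsLocalRing.residue_eq_zero_iff (R := B) _).1 (hres x)
    rw [B.valuation_lt_one_iff, hcoe x] at h1
    exact h1
  have hdsum : ∑ x : Q, (∑ u : Q, (a u : ℂ) * (c (u⁻¹ * x) / c x₀)) • τ ((x : G) * y) v = 0 := by
    calc ∑ x : Q, (∑ u : Q, (a u : ℂ) * (c (u⁻¹ * x) / c x₀)) • τ ((x : G) * y) v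
        = ∑ x : Q, ∑ u : Q, ((a u : ℂ) * (c (u⁻¹ * x) / c x₀)) • τ ((x : G) * y) v := by
          refine Finset.sum_congr rfl (fun x _ => ?_); rw [Finset.sum_smul]
      _ = ∑ u : Q, ∑ x : Q, ((a u : ℂ) * (c (u⁻¹ * x) / c x₀)) • τ ((x : G) * y) v :=
          Finset.sum_comm
      _ = ∑ u : Q, (a u : ℂ) • τ (u : G) (∑ x : Q, (c x / c x₀) • τ ((x : G) * y) v) := by
          refine Finset.sum_congr rfl (fun u _ => ?_)
          rw [map_sum, Finset.smul_sum]
          refine Fintype.sum_equiv (Equiv.mulLeft u⁻¹) _ _ (fun x => ?_)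
          show ((a u : ℂ) * (c (u⁻¹ * x) / c x₀)) • τ ((x : G) * y) v
            = (a u : ℂ) • τ (u : G) ((c (u⁻¹ * x) / c x₀) • τ (((u⁻¹ * x : Q) : G) * y) v)
          rw [map_smul, smul_smul, ← Module.End.mul_apply, ← map_mul]
          congr 2
          simp [mul_assoc]
      _ = 0 := by rw [hc'sum]; simp
  have hfinal : ∑ x : Q, τ ((x : G) * y) v
      = - ∑ x : Q, ((∑ u : Q, (a u : ℂ) * (c (u⁻¹ * x) / c x₀)) - 1) • τ ((x : G) * y) v := by
    have h1 : ∑ x : Q, ((∑ u : Q, (a u : ℂ) * (c (u⁻¹ * x) / c x₀)) - 1) • τ ((x : G) * y) v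
        = ∑ x : Q, (∑ u : Q, (a u : ℂ) * (c (u⁻¹ * x) / c x₀)) • τ ((x : G) * y) v
          - ∑ x : Q, τ ((x : G) * y) v := by
      rw [← Finset.sum_sub_distrib]
      refine Finset.sum_congr rfl (fun x _ => ?_)
      rw [sub_smul, one_smul]
    rw [h1, hdsum, zero_sub, neg_neg]
  rw [hfinal]
  exact inM_neg (inM_sum _ _ (fun x _ => inM_single (hval x) _))

/-- **Lattice lemma.** `Q ≤ H ≤ G`, `Q` a `p`-group acting freely on the cosets `gH ≠ H`;
an `H`-fixed vector `v` whose `G`-orbit lies in a subspace of dimension `< |Q|` and whose orbit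
sum vanishes is zero. -/
theorem eq_zero_of_free_orbit [FiniteDimensional ℂ W] (p : ℕ) [Fact p.Prime]
    (Q H : Subgroup G) (hQ : IsPGroup p Q) (hQH : Q ≤ H)
    (hfree : ∀ q ∈ Q, ∀ g : G, g ∉ H → g⁻¹ * q * g ∈ H → q = 1)
    (K : Submodule ℂ W) (hK : Module.finrank ℂ K < Nat.card Q)
    (hvH : ∀ h ∈ H, τ h v = v) (hvK : ∀ g, τ g v ∈ K) (hsum : ∑ g, τ g v = 0) : v = 0 := by
  classical
  by_contra hv
  obtain ⟨B, hp⟩ := exists_valuationSubring_lt_one p
  have : Fintype Q := Fintype.ofFinite Q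
  have : Fintype H := Fintype.ofFinite H
  have hKc : Module.finrank ℂ K < Fintype.card Q := by rwa [← Nat.card_eq_fintype_card]
  have key : ∀ (n : ℕ) (Y : Finset G), Y.card = n →
      (∀ g ∈ Y, g ∉ H ∧ ∀ x ∈ Q, ∀ h ∈ H, x * g * h ∈ Y) →
      ∃ m, InM τ B v m ∧ ∑ g ∈ Y, τ g v = (Fintype.card H : ℂ) • m := by
    intro n
    induction n using Nat.strong_induction_on with
    | _ n ih =>
      intro Y hYn hY
      rcases Y.eq_empty_or_nonempty with rfl | ⟨g, hg⟩
      · exact ⟨0, inM_zero τ B v, by simp⟩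
      · have hDY : Finset.image (fun xh : Q × H => (xh.1 : G) * g * (xh.2 : G)) Finset.univ ⊆ Y := by
          intro z hz
          obtain ⟨⟨x, h⟩, -, rfl⟩ := Finset.mem_image.1 hz
          exact (hY g hg).2 x x.2 h h.2
        have hgD : g ∈ Finset.image (fun xh : Q × H => (xh.1 : G) * g * (xh.2 : G)) Finset.univ :=
          Finset.mem_image.2 ⟨(1, 1), Finset.mem_univ _, by simp⟩
        have hcard : (Y \ Finset.image (fun xh : Q × H => (xh.1 : G) * g * (xh.2 : G))
            Finset.univ).card < n := by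
          rw [← hYn]
          exact Finset.card_lt_card (Finset.sdiff_ssubset hDY ⟨g, hgD⟩)
        have hstab : ∀ g' ∈ Y \ Finset.image (fun xh : Q × H => (xh.1 : G) * g * (xh.2 : G))
            Finset.univ, g' ∉ H ∧ ∀ x ∈ Q, ∀ h ∈ H, x * g' * h ∈
              Y \ Finset.image (fun xh : Q × H => (xh.1 : G) * g * (xh.2 : G)) Finset.univ := by
          intro g' hg'
          rw [Finset.mem_sdiff] at hg'
          refine ⟨(hY g' hg'.1).1, fun x hx h hh => ?_⟩
          rw [Finset.mem_sdiff]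
          refine ⟨(hY g' hg'.1).2 x hx h hh, fun hmem => hg'.2 ?_⟩
          obtain ⟨⟨x₁, h₁⟩, -, he⟩ := Finset.mem_image.1 hmem
          have he' : (x₁ : G) * g * (h₁ : G) = x * g' * h := he
          refine Finset.mem_image.2 ⟨(⟨x⁻¹ * x₁, Q.mul_mem (Q.inv_mem hx) x₁.2⟩,
            ⟨h₁ * h⁻¹, H.mul_mem h₁.2 (H.inv_mem hh)⟩), Finset.mem_univ _, ?_⟩
          show x⁻¹ * (x₁ : G) * g * ((h₁ : G) * h⁻¹) = g'
          have h2 : g' = x⁻¹ * ((x₁ : G) * g * (h₁ : G)) * h⁻¹ := by rw [he']; group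
          rw [h2]; group
        obtain ⟨m', hm', hsum'⟩ := ih _ hcard _ rfl hstab
        have hinj : Set.InjOn (fun xh : Q × H => (xh.1 : G) * g * (xh.2 : G))
            ((Finset.univ : Finset (Q × H)) : Set (Q × H)) := by
          rintro ⟨x, h⟩ - ⟨x', h'⟩ - he
          have he' : (x : G) * g * (h : G) = (x' : G) * g * (h' : G) := he
          have hq : ((x' : G)⁻¹ * (x : G)) = 1 := by
            apply hfree _ (Q.mul_mem (Q.inv_mem x'.2) x.2) g (hY g hg).1
            have h1 : g⁻¹ * ((x' : G)⁻¹ * (x : G)) * g = (h' : G) * (h : G)⁻¹ := by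
              have h2 : (x : G) * g = (x' : G) * g * (h' : G) * (h : G)⁻¹ := by
                rw [← he']; group
              calc g⁻¹ * ((x' : G)⁻¹ * (x : G)) * g = g⁻¹ * (x' : G)⁻¹ * ((x : G) * g) := by group
                _ = g⁻¹ * (x' : G)⁻¹ * ((x' : G) * g * (h' : G) * (h : G)⁻¹) := by rw [h2]
                _ = (h' : G) * (h : G)⁻¹ := by group
            rw [h1]; exact H.mul_mem h'.2 (H.inv_mem h.2)
          have hxx : (x : G) = (x' : G) := (inv_mul_eq_one.1 hq).symm
          have hhh : (h : G) = (h' : G) := by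
            rw [hxx] at he'
            exact mul_left_cancel he'
          exact Prod.ext (Subtype.ext hxx) (Subtype.ext hhh)
        have hsumD : ∑ z ∈ Finset.image (fun xh : Q × H => (xh.1 : G) * g * (xh.2 : G))
            Finset.univ, τ z v = (Fintype.card H : ℂ) • ∑ x : Q, τ ((x : G) * g) v := by
          rw [Finset.sum_image hinj, Fintype.sum_prod_type, Finset.smul_sum]
          refine Finset.sum_congr rfl (fun x _ => ?_)
          have h1 : ∀ h : H, τ ((x : G) * g * (h : G)) v = τ ((x : G) * g) v := by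
            intro h
            rw [map_mul, Module.End.mul_apply, hvH h h.2]
          simp only [h1, Finset.sum_const, Finset.card_univ]
          rw [Nat.cast_smul_eq_nsmul]
        refine ⟨m' + ∑ x : Q, τ ((x : G) * g) v,
          inM_add hm' (sum_subgroup_inM p hp Q hQ K hKc hvK g), ?_⟩
        rw [← Finset.sum_sdiff hDY, hsum', hsumD, smul_add]
  obtain ⟨m, hm, hmsum⟩ := key _ (Finset.univ.filter (fun g => g ∉ H)) rfl (by
    intro g hg
    rw [Finset.mem_filter] at hg
    refine ⟨hg.2, fun x hx h hh => ?_⟩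
    rw [Finset.mem_filter]
    refine ⟨Finset.mem_univ _, fun hmem => hg.2 ?_⟩
    have h1 : g = x⁻¹ * (x * g * h) * h⁻¹ := by group
    rw [h1]
    exact H.mul_mem (H.mul_mem (H.inv_mem (hQH hx)) hmem) (H.inv_mem hh))
  have hH : ∑ g ∈ Finset.univ.filter (fun g => g ∈ H), τ g v = (Fintype.card H : ℂ) • v := by
    rw [Finset.sum_congr rfl (fun g hg => hvH g (Finset.mem_filter.1 hg).2), Finset.sum_const,
      ← Nat.cast_smul_eq_nsmul ℂ]
    congr 2
    rw [Fintype.card_subtype]
  have htot := Finset.sum_filter_add_sum_filter_not Finset.univ (fun g => g ∈ H)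
    (fun g => τ g v)
  rw [hsum, hH, hmsum, ← smul_add] at htot
  have hcardne : (Fintype.card H : ℂ) ≠ 0 := by exact_mod_cast Fintype.card_ne_zero
  have hvm : v + m = 0 := (smul_eq_zero.1 htot).resolve_left hcardne
  have hneg : -m = v := by
    rw [eq_comm, ← add_eq_zero_iff_eq_neg]; exact hvm
  exact not_inM hv (hneg ▸ inM_neg hm)

end Lattice

section TI

variable {G : Type*} [Group G] [Finite G]

/-- A TI Sylow `p`-subgroup `P` acts freely on the cosets `gH ≠ H` of any subgroup `H`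
containing `N_G(P)`. -/
theorem ti_free_of_normalizer_le (p : ℕ) [Fact p.Prime] (P : Sylow p G)
    (hTI : ∀ g : G, g ∉ Subgroup.normalizer ((P : Subgroup G) : Set G) →
      (P : Subgroup G) ⊓ (MulAut.conj g • (P : Subgroup G)) = ⊥)
    (H : Subgroup G) (hH : Subgroup.normalizer ((P : Subgroup G) : Set G) ≤ H) :
    ∀ q ∈ (P : Subgroup G), ∀ g : G, g ∉ H → g⁻¹ * q * g ∈ H → q = 1 := by
  intro q hq g hg hqH
  have hPH : (P : Subgroup G) ≤ H := Subgroup.le_normalizer.trans hH
  have hpg : IsPGroup p (Subgroup.zpowers (g⁻¹ * q * g)) := by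
    have h0 : IsPGroup p (Subgroup.zpowers q) := P.isPGroup'.to_le (Subgroup.zpowers_le.2 hq)
    have h1 := h0.map (MulAut.conj g⁻¹).toMonoidHom
    rw [MonoidHom.map_zpowers] at h1
    have h2 : (MulAut.conj g⁻¹).toMonoidHom q = g⁻¹ * q * g := by
      simp
    rw [h2] at h1
    exact h1
  obtain ⟨x, hxH, hx⟩ := exists_conj_le_sylow_of_le P H hPH (Subgroup.zpowers (g⁻¹ * q * g)) hpg
    (by rw [Subgroup.zpowers_le]; exact hqH)
  have h2 : x⁻¹ * (g⁻¹ * q * g) * x ∈ (P : Subgroup G) := hx _ (Subgroup.mem_zpowers _)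
  by_contra hq1
  have hN : g * x ∈ Subgroup.normalizer ((P : Subgroup G) : Set G) := by
    by_contra hN
    have h3 := hTI (g * x) hN
    have h4 : q ∈ (P : Subgroup G) ⊓ (MulAut.conj (g * x) • (P : Subgroup G)) := by
      refine ⟨hq, ?_⟩
      have h5 : MulAut.conj (g * x) • (x⁻¹ * (g⁻¹ * q * g) * x) ∈
          MulAut.conj (g * x) • (P : Subgroup G) :=
        Subgroup.smul_mem_pointwise_smul _ _ _ h2
      have h6 : MulAut.conj (g * x) • (x⁻¹ * (g⁻¹ * q * g) * x) = q := by
        rw [MulAut.smul_def, MulAut.conj_apply]; group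
      rwa [h6] at h5
    rw [h3, Subgroup.mem_bot] at h4
    exact hq1 h4
  apply hg
  have h7 : g = (g * x) * x⁻¹ := by group
  rw [h7]
  exact H.mul_mem (hH hN) (H.inv_mem hxH)

end TI

section Commutant

variable {G : Type*} [Group G] [Fintype G] {V : Type*} [AddCommGroup V] [Module ℂ V]
  [FiniteDimensional ℂ V]

/-- `P` a TI Sylow `p`-subgroup, `H ≥ N_G(P)`, `ρ` a representation with `(dim V)² ≤ |P|`:
every endomorphism of `V` commuting with `H` commutes with `G`. -/
theorem ti_invariants_linHom (p : ℕ) [Fact p.Prime] (P : Sylow p G)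
    (hTI : ∀ g : G, g ∉ Subgroup.normalizer ((P : Subgroup G) : Set G) →
      (P : Subgroup G) ⊓ (MulAut.conj g • (P : Subgroup G)) = ⊥)
    (H : Subgroup G) (hH : Subgroup.normalizer ((P : Subgroup G) : Set G) ≤ H)
    (ρ : Representation ℂ G V)
    (hdeg : Module.finrank ℂ V ^ 2 ≤ Nat.card (P : Subgroup G))
    (f : V →ₗ[ℂ] V) (hf : ∀ h ∈ H, Representation.linHom ρ ρ h f = f) (g : G) :
    Representation.linHom ρ ρ g f = f := by
  classical
  have hcard : (Nat.card G : ℂ) ≠ 0 := by exact_mod_cast Nat.card_pos.ne'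
  have hSinv : ∀ y : G, Representation.linHom ρ ρ y (∑ g', Representation.linHom ρ ρ g' f)
      = ∑ g', Representation.linHom ρ ρ g' f := by
    intro y
    rw [map_sum]
    refine Fintype.sum_equiv (Equiv.mulLeft y) _ _ (fun g' => ?_)
    show Representation.linHom ρ ρ y (Representation.linHom ρ ρ g' f)
      = Representation.linHom ρ ρ (y * g') f
    rw [map_mul, Module.End.mul_apply]
  have hf₀inv : ∀ y : G, Representation.linHom ρ ρ y
      ((Nat.card G : ℂ)⁻¹ • ∑ g', Representation.linHom ρ ρ g' f)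
      = (Nat.card G : ℂ)⁻¹ • ∑ g', Representation.linHom ρ ρ g' f := by
    intro y; rw [map_smul, hSinv]
  have hvH : ∀ h ∈ H, Representation.linHom ρ ρ h
      (f - (Nat.card G : ℂ)⁻¹ • ∑ g', Representation.linHom ρ ρ g' f)
      = f - (Nat.card G : ℂ)⁻¹ • ∑ g', Representation.linHom ρ ρ g' f := by
    intro h hh; rw [map_sub, hf h hh, hf₀inv]
  have hvsum : ∑ y, Representation.linHom ρ ρ y
      (f - (Nat.card G : ℂ)⁻¹ • ∑ g', Representation.linHom ρ ρ g' f) = 0 := by
    simp only [map_sub, hf₀inv, Finset.sum_sub_distrib, Finset.sum_const, Finset.card_univ]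
    rw [← Nat.cast_smul_eq_nsmul ℂ, smul_smul, ← Nat.card_eq_fintype_card,
      mul_inv_cancel₀ hcard, one_smul, sub_self]
  have hvK : ∀ y, Representation.linHom ρ ρ y
      (f - (Nat.card G : ℂ)⁻¹ • ∑ g', Representation.linHom ρ ρ g' f)
      ∈ LinearMap.ker (∑ g', Representation.linHom ρ ρ g') := by
    intro y
    rw [LinearMap.mem_ker, LinearMap.sum_apply, ← hvsum]
    refine Fintype.sum_equiv (Equiv.mulRight y) _ _ (fun g' => ?_)
    show Representation.linHom ρ ρ g' (Representation.linHom ρ ρ y _)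
      = Representation.linHom ρ ρ (g' * y) _
    rw [map_mul, Module.End.mul_apply]
  have hK : Module.finrank ℂ (LinearMap.ker (∑ g', Representation.linHom ρ ρ g'))
      < Nat.card (P : Subgroup G) := by
    by_cases hn : Module.finrank ℂ V = 0
    · have h1 : Module.finrank ℂ (V →ₗ[ℂ] V) = 0 := by
        rw [Module.finrank_linearMap, hn]
      have h2 := Submodule.finrank_le (LinearMap.ker (∑ g', Representation.linHom ρ ρ g'))
      have h3 : 0 < Nat.card (P : Subgroup G) := Nat.card_pos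
      omega
    · have h1 : LinearMap.ker (∑ g', Representation.linHom ρ ρ g') < ⊤ := by
        rw [lt_top_iff_ne_top]
        intro htop
        have h2 : (LinearMap.id : V →ₗ[ℂ] V) ∈
            LinearMap.ker (∑ g', Representation.linHom ρ ρ g') := by rw [htop]; trivial
        rw [LinearMap.mem_ker, LinearMap.sum_apply] at h2
        have h3 : ∀ g' : G, Representation.linHom ρ ρ g' (LinearMap.id : V →ₗ[ℂ] V)
            = LinearMap.id := by
          intro g'
          rw [Representation.linHom_apply, LinearMap.id_comp, ← Module.End.mul_eq_comp,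
            ← map_mul, mul_inv_cancel, map_one]
          rfl
        simp only [h3, Finset.sum_const, Finset.card_univ] at h2
        have h4 : (LinearMap.id : V →ₗ[ℂ] V) = 0 := by
          rw [← Nat.cast_smul_eq_nsmul ℂ] at h2
          exact (smul_eq_zero.1 h2).resolve_left (by exact_mod_cast Fintype.card_ne_zero)
        apply hn
        have hsub : Subsingleton V := ⟨fun a b => by
          have ha := LinearMap.congr_fun h4 a
          have hb := LinearMap.congr_fun h4 b
          simp only [LinearMap.id_coe, id_eq, LinearMap.zero_apply] at ha hb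
          rw [ha, hb]⟩
        exact Module.finrank_zero_of_subsingleton
      have h2 := Submodule.finrank_lt (lt_top_iff_ne_top.1 h1)
      have h3 : Module.finrank ℂ (V →ₗ[ℂ] V) = Module.finrank ℂ V ^ 2 := by
        rw [Module.finrank_linearMap, sq]
      omega
  have hPH : (P : Subgroup G) ≤ H := Subgroup.le_normalizer.trans hH
  have hv0 := eq_zero_of_free_orbit (τ := Representation.linHom ρ ρ) p (P : Subgroup G) H
    P.isPGroup' hPH (ti_free_of_normalizer_le p P hTI H hH) _ hK hvH hvK hvsum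
  have hff : f = (Nat.card G : ℂ)⁻¹ • ∑ g', Representation.linHom ρ ρ g' f := sub_eq_zero.1 hv0
  rw [hff]; exact hf₀inv g

end Commutant

end Cfsg.Agent.Lib.helper21
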