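import Mathlib
import Cfsg.Agent.Lib.helper21.BLGroup
import Cfsg.Agent.Lib.helper21.TILattice
import Cfsg.Agent.Lib.helper4.FinOrder
import Cfsg.Agent.S4750

set_option autoImplicit false
set_option linter.style.haveILetI false
set_option linter.unusedSectionVars false

/-!
# Brauer–Leonard: the main theorem (helper21 library)

`bl_core`: if `P` is a Sylow `p`-subgroup of `G` all of whose nonidentity elements have
centralizer `C_G(P)`, and `ψ` is an irreducible character with `ψ(1)² + 1 < |P|`, then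
`[P, M] ≤ ker ψ` where `M` is the normal closure of `P`.
-/

namespace Cfsg.Agent.Lib.helper21

open Cfsg Cfsg.Agent.Lib.helper4
open scoped ComplexConjugate

universe u

theorem sum_list_sum_eq_zero {H ι : Type*} [Fintype ι] (f : ι → H) (l : List (H → ℂ))
    (h : ∀ F ∈ l, ∑ i, F (f i) = 0) : ∑ i, l.sum (f i) = 0 := by
  induction l with
  | nil => simp
  | cons a l ih =>
    rw [List.sum_cons]
    simp only [Pi.add_apply, Finset.sum_add_distrib]
    rw [h a List.mem_cons_self, ih (fun F hF => h F (List.mem_cons_of_mem _ hF)), add_zero]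

theorem list_sum_le_of_add {α : Type*} [AddCommMonoid α] (A B : α → ℝ) (hA0 : A 0 = 0)
    (hB0 : B 0 = 0) (hA : ∀ F F', A (F + F') = A F + A F')
    (hB : ∀ F F', B (F + F') = B F + B F') (l : List α) (h : ∀ F ∈ l, A F ≤ B F) :
    A l.sum ≤ B l.sum := by
  induction l with
  | nil => simp [hA0, hB0]
  | cons a l ih =>
    rw [List.sum_cons, hA, hB]
    exact add_le_add (h a List.mem_cons_self) (ih (fun F hF => h F (List.mem_cons_of_mem _ hF)))

section Avg

variable {G : Type u} [Group G]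

/-- The real part of the average of a function over a subgroup. -/
noncomputable def subAvg (H : Subgroup G) [Fintype ↥H] (F : G → ℂ) : ℝ :=
  (classInner (fun h : ↥H => F h) (fun _ => 1)).re

theorem subAvg_zero (H : Subgroup G) [Fintype ↥H] : subAvg H (0 : G → ℂ) = 0 := by
  have h : classInner (fun h : ↥H => (0 : G → ℂ) h) (fun _ => 1) = 0 :=
    classInner_zero_left _
  unfold subAvg
  rw [h, Complex.zero_re]

theorem subAvg_add (H : Subgroup G) [Fintype ↥H] (F F' : G → ℂ) :
    subAvg H (F + F') = subAvg H F + subAvg H F' := by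
  have h : classInner (fun h : ↥H => (F + F') h) (fun _ => 1) =
      classInner (fun h : ↥H => F h) (fun _ => 1) +
        classInner (fun h : ↥H => F' h) (fun _ => 1) :=
    classInner_add_left (fun h : ↥H => F h) (fun h : ↥H => F' h) _
  unfold subAvg
  rw [h, Complex.add_re]

theorem subAvg_mul_conj (H : Subgroup G) [Fintype ↥H] (ψ : G → ℂ) :
    subAvg H (ψ * fun g => conj (ψ g)) =
      (classInner (fun h : ↥H => ψ h) (fun h : ↥H => ψ h)).re := by
  have h : classInner (fun h : ↥H => (ψ * fun g => conj (ψ g)) h) (fun _ => 1) =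
      classInner (fun h : ↥H => ψ h) (fun h : ↥H => ψ h) := by
    unfold classInner
    congr 1
    refine Finset.sum_congr rfl (fun h _ => ?_)
    simp
  unfold subAvg
  rw [h]

theorem subAvg_nonneg [Finite G] (H : Subgroup G) [Fintype ↥H] {θ : G → ℂ}
    (hθ : IsCharacter G θ) : 0 ≤ subAvg H θ := by
  haveI := Fintype.ofFinite G
  obtain ⟨k, hk⟩ := exists_nat_classInner (isCharacter_restrict H hθ)
    (isCharacter_one (G := ↥H))
  unfold subAvg
  rw [hk, Complex.natCast_re]
  exact Nat.cast_nonneg k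

theorem subAvg_of_const (H : Subgroup G) [Fintype ↥H] (θ : G → ℂ)
    (h : ∀ z ∈ H, θ z = θ 1) : subAvg H θ = (θ 1).re := by
  have hH : (Nat.card ↥H : ℂ) ≠ 0 := by exact_mod_cast (Nat.card_pos (α := ↥H)).ne'
  have h1 : classInner (fun h : ↥H => θ h) (fun _ => 1) = θ 1 := by
    unfold classInner
    rw [Finset.sum_congr rfl (fun z _ => by
        show θ (z : G) * conj (1 : ℂ) = θ 1
        rw [h z z.2, map_one, mul_one]), Finset.sum_const,
      Finset.card_univ, nsmul_eq_mul, ← Nat.card_eq_fintype_card, ← mul_assoc,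
      inv_mul_cancel₀ hH, one_mul]
  unfold subAvg
  rw [h1]

theorem subAvg_of_sum_zero (H : Subgroup G) [Fintype ↥H] (θ : G → ℂ)
    (h : ∑ z : ↥H, θ z = 0) : subAvg H θ = 0 := by
  have h1 : classInner (fun h : ↥H => θ h) (fun _ => 1) = 0 := by
    unfold classInner
    simp only [map_one, mul_one]
    rw [h, mul_zero]
  unfold subAvg
  rw [h1, Complex.zero_re]

theorem classInner_restrict_re (H : Subgroup G) [Fintype ↥H] (ψ : G → ℂ) :
    (classInner (fun h : ↥H => ψ h) (fun h : ↥H => ψ h)).re =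
      (Nat.card ↥H : ℝ)⁻¹ * ∑ h : ↥H, Complex.normSq (ψ h) := by
  unfold classInner
  simp only [Complex.mul_conj]
  rw [← Complex.ofReal_sum, ← Complex.ofReal_natCast, ← Complex.ofReal_inv,
    ← Complex.ofReal_mul, Complex.ofReal_re]

theorem sum_subgroup_le [Fintype G] {C N : Subgroup G} (h : C ≤ N) [Fintype ↥C] [Fintype ↥N]
    (F : G → ℝ) (hF : ∀ g, 0 ≤ F g) : ∑ c : ↥C, F c ≤ ∑ x : ↥N, F x := by
  classical
  rw [← Finset.sum_subtype (Finset.univ.filter (fun g => g ∈ C)) (by simp) F,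
    ← Finset.sum_subtype (Finset.univ.filter (fun g => g ∈ N)) (by simp) F]
  apply Finset.sum_le_sum_of_subset_of_nonneg
  · intro g hg
    rw [Finset.mem_filter] at hg ⊢
    exact ⟨hg.1, h hg.2⟩
  · intro g _ _
    exact hF g

end Avg

section Commutant

variable {G : Type u} [Group G] [Fintype G]

/-- If the restrictions of `ρ` to an abelian subgroup `P` and to a subgroup `M ≥ P` have the
same commutant dimension, then `[P, M]` acts trivially. -/
theorem comm_of_classInner_le {n : ℕ} (ρ : Representation ℂ G (Fin n → ℂ))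
    (P M : Subgroup G) [Fintype ↥P] [Fintype ↥M] (hPM : P ≤ M)
    (hcomm : ∀ a ∈ P, ∀ b ∈ P, a * b = b * a)
    (hle : (classInner (fun h : ↥P => ρ.character h) (fun h : ↥P => ρ.character h)).re ≤
      (classInner (fun h : ↥M => ρ.character h) (fun h : ↥M => ρ.character h)).re)
    {y m : G} (hy : y ∈ P) (hm : m ∈ M) :
    ρ.character (m * y * m⁻¹ * y⁻¹) = ρ.character 1 := by
  classical
  have e2 : ∀ (H : Subgroup G) [Fintype ↥H],
      Cfsg.classInner (fun h : ↥H => ρ.character h) (fun h : ↥H => ρ.character h)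
      = (Module.finrank ℂ (Representation.invariants
          (Representation.linHom (ρ.comp H.subtype) (ρ.comp H.subtype))) : ℂ) := by
    intro H _
    have hHinv : Invertible (Nat.card H : ℂ) :=
      invertibleOfNonzero (by exact_mod_cast Nat.card_pos.ne')
    rw [← Representation.card_inv_mul_sum_char_eq_finrank]
    unfold Cfsg.classInner
    congr 1
    refine Finset.sum_congr rfl (fun h _ => ?_)
    rw [Representation.char_linHom, Cfsg.Agent.Lib.helper4.char_inv, mul_comm]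
    rfl
  obtain ⟨EP, hEP⟩ : ∃ EP : Submodule ℂ ((Fin n → ℂ) →ₗ[ℂ] (Fin n → ℂ)),
      EP = Representation.invariants
        (Representation.linHom (ρ.comp P.subtype) (ρ.comp P.subtype)) := ⟨_, rfl⟩
  obtain ⟨EM, hEM⟩ : ∃ EM : Submodule ℂ ((Fin n → ℂ) →ₗ[ℂ] (Fin n → ℂ)),
      EM = Representation.invariants
        (Representation.linHom (ρ.comp M.subtype) (ρ.comp M.subtype)) := ⟨_, rfl⟩
  have hsub : EM ≤ EP := by
    intro f hf
    rw [hEM, Representation.mem_invariants] at hf
    rw [hEP, Representation.mem_invariants]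
    intro h
    exact hf ⟨h, hPM h.2⟩
  have hfin : Module.finrank ℂ EP ≤ Module.finrank ℂ EM := by
    have h1 := e2 P
    have h2 := e2 M
    rw [← hEP] at h1
    rw [← hEM] at h2
    rw [h1, h2] at hle
    simp only [Complex.natCast_re] at hle
    exact_mod_cast hle
  have heq : EM = EP := Submodule.eq_of_le_of_finrank_le hsub hfin
  have hyP : ρ y ∈ EP := by
    rw [hEP, Representation.mem_invariants]
    intro h
    rw [Representation.linHom_apply]
    show ρ (h : G) ∘ₗ ρ y ∘ₗ ρ ((h⁻¹ : ↥P) : G) = ρ y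
    have hc : (h : G) * y = y * (h : G) := hcomm _ h.2 _ hy
    rw [← Module.End.mul_eq_comp, ← Module.End.mul_eq_comp, ← map_mul, ← map_mul]
    congr 1
    rw [Subgroup.coe_inv, ← mul_assoc, hc, mul_inv_cancel_right]
  rw [← heq, hEM, Representation.mem_invariants] at hyP
  have h3 := hyP ⟨m, hm⟩
  rw [Representation.linHom_apply] at h3
  have h4 : ρ m ∘ₗ ρ y ∘ₗ ρ m⁻¹ = ρ y := h3
  have h5 : ρ (m * y * m⁻¹) = ρ y := by
    rw [mul_assoc, map_mul, map_mul]
    exact h4
  have h6 : ρ (m * y * m⁻¹ * y⁻¹) = 1 := by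
    rw [map_mul, h5, ← map_mul, mul_inv_cancel, map_one]
  show LinearMap.trace ℂ (Fin n → ℂ) (ρ (m * y * m⁻¹ * y⁻¹)) =
    LinearMap.trace ℂ (Fin n → ℂ) (ρ 1)
  rw [h6, map_one ρ]

end Commutant

namespace BLData

variable {G : Type u} [Group G] [Fintype G] (D : BLData G) [Fintype ↥D.C] [Fintype ↥D.N]
  [Fintype (↥D.P →* ℂˣ)]

/-- Each irreducible constituent `θ` of `ψ ψ̄` is either constant on `P` or sums to zero
over `P`. -/
theorem dichotomy [Fintype ↥D.P] {ψ θ : G → ℂ} (hψ : IsIrrCharacter G ψ)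
    (hθ : IsIrrCharacter G θ) (e : ℕ) (he : Nat.card ↥D.N = e * Nat.card ↥D.C)
    {φ : ↥D.C → ℂ} (hφ : IsIrrCharacter ↥D.C φ) {lam : ↥D.P →* ℂˣ} (hw : D.HasWt φ lam)
    (hlam : lam ≠ 1)
    (hΨ : (fun c : ↥D.C => ψ c) = (Nat.card ↥D.C : ℂ)⁻¹ • ∑ x : ↥D.N, D.cF x φ)
    (d : ℕ) (hd : ψ 1 = d)
    (hm : d ^ 2 ≤ Nat.card {μ : ↥D.P →* ℂˣ // μ ≠ 1 ∧ ∀ x : ↥D.N, μ ≠ D.cjw x lam})
    (hθψ : classInner (ψ * fun g => conj (ψ g)) θ ≠ 0) :
    (∀ y : ↥D.P, θ y = θ 1) ∨ (∑ y : ↥D.P, θ y = 0) := by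
  classical
  have hfin : Finite G := Finite.of_fintype G
  have hΘchar : IsCharacter ↥D.C (fun c : ↥D.C => θ c) :=
    isCharacter_restrict D.C (isCharacter_of_isIrrCharacter hθ)
  obtain ⟨l, hl⟩ := exists_irr_list_of_isCharacter hΘchar
  choose wt hwt using (fun ξ : IrrCharacter ↥D.C => D.exists_hasWt ξ.2)
  have hval : ∀ y : ↥D.P, θ y = (l.map Subtype.val).sum (D.ι y) := fun y => by
    rw [← hl]; rfl
  have hξy : ∀ (ξ : IrrCharacter ↥D.C) (y : ↥D.P),
      (ξ : ↥D.C → ℂ) (D.ι y) = ((wt ξ y : ℂˣ) : ℂ) * (ξ : ↥D.C → ℂ) 1 := by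
    intro ξ y
    have h1 := hwt ξ y 1
    rwa [mul_one] at h1
  have hcount : ∀ ξ ∈ l, classInner (fun c : ↥D.C => θ c) (ξ : ↥D.C → ℂ) ≠ 0 := by
    intro ξ hξ
    rw [hl, classInner_list_sum_irr]
    exact_mod_cast (List.count_pos_iff.mpr hξ).ne'
  by_cases hall : ∀ ξ ∈ l, wt ξ = 1
  · left
    intro y
    have h1 : θ 1 = (l.map Subtype.val).sum 1 := by
      rw [← hl]; rfl
    rw [hval y, h1, list_sum_val_apply, list_sum_val_apply]
    congr 1
    apply List.map_congr_left
    intro ξ hξ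
    rw [hξy ξ y, hall ξ hξ]
    simp
  · right
    push Not at hall
    obtain ⟨ξ₁, hξ₁l, hξ₁⟩ := hall
    have hall' : ∀ ξ ∈ l, wt ξ ≠ 1 := by
      intro ξ₀ hξ₀l hξ₀
      have hw0 : D.HasWt (ξ₀ : ↥D.C → ℂ) 1 := by
        have h2 := hwt ξ₀
        rwa [hξ₀] at h2
      exact D.no_mixed hψ hθ e he hφ hw hlam hΨ d hd hm hθψ ξ₀.2 ξ₁.2 hw0 (hwt ξ₁) hξ₁
        (hcount ξ₀ hξ₀l) (hcount ξ₁ hξ₁l)
    have h2 : ∑ y : ↥D.P, θ y = ∑ y : ↥D.P, (l.map Subtype.val).sum (D.ι y) :=
      Finset.sum_congr rfl (fun y _ => hval y)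
    rw [h2]
    apply sum_list_sum_eq_zero
    intro F hF
    obtain ⟨ξ, hξl, rfl⟩ := List.mem_map.mp hF
    rw [Finset.sum_congr rfl (fun y _ => hξy ξ y), ← Finset.sum_mul,
      D.sum_hom_eq_zero (hall' ξ hξl), zero_mul]

end BLData

section Core

variable {G : Type u} [Group G] [Finite G] {p : ℕ} [Fact p.Prime] (P : Sylow p G)

set_option maxHeartbeats 1600000 in
/-- **Brauer–Leonard.** -/
theorem bl_core
    (hstar : ∀ x ∈ (P : Subgroup G), x ≠ 1 →
      Subgroup.centralizer ({x} : Set G) = Subgroup.centralizer ((P : Subgroup G) : Set G))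
    {ψ : G → ℂ} (hψ : IsIrrCharacter G ψ)
    (hdeg : charDegree ψ ^ 2 + 1 < Nat.card (P : Subgroup G))
    {y m : G} (hy : y ∈ (P : Subgroup G))
    (hm : m ∈ Subgroup.normalClosure ((P : Subgroup G) : Set G)) :
    ψ (m * y * m⁻¹ * y⁻¹) = ψ 1 := by
  classical
  haveI := Fintype.ofFinite G
  have hψchar := isCharacter_of_isIrrCharacter hψ
  obtain ⟨M, hMdef⟩ : ∃ M : Subgroup G,
      M = Subgroup.normalClosure ((P : Subgroup G) : Set G) := ⟨_, rfl⟩
  rw [← hMdef] at hm
  have hPM : (P : Subgroup G) ≤ M := hMdef ▸ Subgroup.le_normalClosure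
  have hMle : ∀ K : Subgroup G, K.Normal → (P : Subgroup G) ≤ K → M ≤ K := by
    intro K hK hPK
    rw [hMdef]
    exact Subgroup.normalClosure_le_normal hPK
  by_cases hker : ∀ z ∈ (P : Subgroup G), ψ z = ψ 1
  · obtain ⟨K, hKn, hK⟩ := Cfsg.Agent.Lib.helper82.exists_ker_of_isCharacter hψchar
    have hPK : (P : Subgroup G) ≤ K := fun z hz => (hK z).mpr (hker z hz)
    have hMK : M ≤ K := hMle K hKn hPK
    apply (hK _).mp
    exact K.mul_mem (K.mul_mem (K.mul_mem (hMK hm) (hPK hy)) (K.inv_mem (hMK hm)))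
      (K.inv_mem (hPK hy))
  · push Not at hker
    obtain ⟨y₀, hy₀P, hy₀⟩ := hker
    have hcard : 1 < Nat.card (P : Subgroup G) := by omega
    obtain ⟨D, hDdef⟩ : ∃ D : BLData G, D = blData P hstar hcard := ⟨_, rfl⟩
    have hDP : D.P = (P : Subgroup G) := by rw [hDdef]; rfl
    have hDN : D.N = Subgroup.normalizer ((P : Subgroup G) : Set G) := by rw [hDdef]; rfl
    haveI : Fintype ↥D.C := Fintype.ofFinite _
    haveI : Fintype ↥D.N := Fintype.ofFinite _
    haveI : Fintype ↥D.P := Fintype.ofFinite _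
    haveI : Fintype ↥M := Fintype.ofFinite _
    haveI := D.finite_hom_P
    haveI : Fintype (↥D.P →* ℂˣ) := Fintype.ofFinite _
    obtain ⟨e, he⟩ : ∃ e : ℕ, Nat.card ↥D.N = e * Nat.card ↥D.C := by
      obtain ⟨e, he⟩ := Subgroup.card_dvd_of_le D.hCN
      exact ⟨e, by rw [he, mul_comm]⟩
    obtain ⟨d, hd0, hd⟩ := exists_pos_nat_degree hψ
    have hdeg' : charDegree ψ = d := charDegree_of_one_eq hd
    rw [hdeg'] at hdeg
    have hN1 : classInner (fun x : ↥D.N => ψ x) (fun x : ↥D.N => ψ x) = 1 := by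
      have h := Cfsg.Agent.S4750.result p P (bl_ti_inf P hstar) ψ hψchar
        (by rw [hdeg']; omega) D.N (by rw [hDN])
      rw [← h]
      exact classInner_irr_self hψ
    have hnorm : (classInner (fun c : ↥D.C => ψ c) (fun c : ↥D.C => ψ c)).re ≤ e := by
      rw [classInner_restrict_re]
      have h1 := classInner_restrict_re D.N ψ
      rw [hN1, Complex.one_re] at h1
      have h2 := sum_subgroup_le D.hCN (fun g => Complex.normSq (ψ g))
        (fun g => Complex.normSq_nonneg _)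
      have hCpos : (0 : ℝ) < Nat.card ↥D.C := by exact_mod_cast Nat.card_pos
      have hNpos : (0 : ℝ) < Nat.card ↥D.N := by exact_mod_cast Nat.card_pos
      have hSN : ∑ x : ↥D.N, Complex.normSq (ψ x) = Nat.card ↥D.N := by
        field_simp at h1
        linarith
      rw [hSN] at h2
      have h3 : (Nat.card ↥D.N : ℝ) = e * Nat.card ↥D.C := by rw [he]; push_cast; ring
      rw [h3] at h2
      rw [inv_mul_le_iff₀ hCpos]
      linarith
    have hΨchar : IsCharacter ↥D.C (fun c : ↥D.C => ψ c) := isCharacter_restrict D.C hψchar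
    obtain ⟨l, hl⟩ := exists_irr_list_of_isCharacter hΨchar
    have hy₀D : y₀ ∈ D.P := by rw [hDP]; exact hy₀P
    have hne : (l.map Subtype.val).sum (D.ι ⟨y₀, hy₀D⟩) ≠ (l.map Subtype.val).sum 1 := by
      rw [← hl]; exact hy₀
    obtain ⟨φ, hφl, hφne⟩ := exists_mem_ne_of_sum_ne l hne
    obtain ⟨lam, hw⟩ := D.exists_hasWt φ.2
    have hlam : lam ≠ 1 := by
      intro h
      apply hφne
      have h1 := hw ⟨y₀, hy₀D⟩ 1
      rw [mul_one, h] at h1
      simpa using h1
    have hφψ : classInner (φ : ↥D.C → ℂ) (fun c : ↥D.C => ψ c) ≠ 0 := by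
      rw [← classInner_conj_symm, hl, classInner_list_sum_irr, Complex.conj_natCast]
      exact_mod_cast (List.count_pos_iff.mpr hφl).ne'
    have hΨ := D.restrict_eq_avg hψ e he hnorm φ.2 hw hlam hφψ
    obtain ⟨f, hf0, hf⟩ := exists_pos_nat_degree φ.2
    have hdef : d = e * f := by
      have h1 := congrFun hΨ 1
      simp only [Pi.smul_apply, Finset.sum_apply, smul_eq_mul] at h1
      have h2 : ∀ x : ↥D.N, D.cF x (φ : ↥D.C → ℂ) 1 = f := by
        intro x
        rw [BLData.cF_apply, map_one, hf]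
      rw [Finset.sum_congr rfl (fun x _ => h2 x), Finset.sum_const, Finset.card_univ,
        ← Nat.card_eq_fintype_card, he, nsmul_eq_mul] at h1
      have h3 : ψ ((1 : ↥D.C) : G) = d := by rw [Subgroup.coe_one]; exact hd
      rw [h3] at h1
      have hC : (Nat.card ↥D.C : ℂ) ≠ 0 := by
        exact_mod_cast (Nat.card_pos (α := ↥D.C)).ne'
      have h4 : (d : ℂ) = ((e * f : ℕ) : ℂ) := by
        rw [h1]; push_cast; field_simp
      exact_mod_cast h4
    have hdvd := D.dvd_card_sub_one e he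
    have hcardP : Nat.card ↥D.P = Nat.card (P : Subgroup G) := by rw [hDP]
    have hadm := D.card_admissible e he lam
    have hmm : d ^ 2 ≤
        Nat.card {μ : ↥D.P →* ℂˣ // μ ≠ 1 ∧ ∀ x : ↥D.N, μ ≠ D.cjw x lam} := by
      obtain ⟨t, ht⟩ := hdvd
      have he0 : 0 < e := by
        rcases Nat.eq_zero_or_pos e with h | h
        · rw [h, zero_mul] at hdef; omega
        · exact h
      rw [hcardP] at ht hadm
      have hq : Nat.card (P : Subgroup G) = e * t + 1 := by omega
      have hd2 : d ^ 2 = e * (e * f ^ 2) := by rw [hdef]; ring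
      have h1 : e * (e * f ^ 2) < e * t := by omega
      have h2 : e * f ^ 2 < t := Nat.lt_of_mul_lt_mul_left h1
      have h3 : e * (e * f ^ 2 + 1) ≤ e * t := Nat.mul_le_mul_left e h2
      have h4 : e * (e * f ^ 2 + 1) = e * (e * f ^ 2) + e := by ring
      omega
    have hper : ∀ θ : G → ℂ, IsIrrCharacter G θ →
        classInner (ψ * fun g => conj (ψ g)) θ ≠ 0 → subAvg D.P θ ≤ subAvg M θ := by
      intro θ hθ hθψ
      have hθchar := isCharacter_of_isIrrCharacter hθ
      rcases D.dichotomy hψ hθ e he φ.2 hw hlam hΨ d hd hmm hθψ with h | h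
      · obtain ⟨K, hKn, hK⟩ := Cfsg.Agent.Lib.helper82.exists_ker_of_isCharacter hθchar
        have hPK : (P : Subgroup G) ≤ K := fun z hz =>
          (hK z).mpr (h ⟨z, by rw [hDP]; exact hz⟩)
        have hMK : M ≤ K := hMle K hKn hPK
        rw [subAvg_of_const D.P θ (fun z hz => h ⟨z, hz⟩),
          subAvg_of_const M θ (fun z hz => (hK z).mp (hMK hz))]
      · rw [subAvg_of_sum_zero D.P θ h]
        exact subAvg_nonneg M hθchar
    have hle : (classInner (fun h : ↥D.P => ψ h) (fun h : ↥D.P => ψ h)).re ≤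
        (classInner (fun h : ↥M => ψ h) (fun h : ↥M => ψ h)).re := by
      rw [← subAvg_mul_conj, ← subAvg_mul_conj]
      obtain ⟨L, hL⟩ := exists_irr_list_of_isCharacter
        (isCharacter_mul hψchar (isCharacter_conj hψchar))
      rw [hL]
      apply list_sum_le_of_add (subAvg D.P) (subAvg M) (subAvg_zero _) (subAvg_zero _)
        (subAvg_add _) (subAvg_add _)
      intro F hF
      obtain ⟨θ, hθL, rfl⟩ := List.mem_map.mp hF
      apply hper θ.1 θ.2
      rw [hL, classInner_list_sum_irr]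
      exact_mod_cast (List.count_pos_iff.mpr hθL).ne'
    have hψ' := hψ
    obtain ⟨n, ρ, hirr, hρ⟩ := hψ'
    rw [← hρ] at hle ⊢
    exact comm_of_classInner_le ρ D.P M (by rw [hDP]; exact hPM)
      (fun a ha b hb => D.hcent a ha b (D.hPC hb)) hle (by rw [hDP]; exact hy) hm

end Core

end Cfsg.Agent.Lib.helper21
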