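import Mathlib

/-!
# S4471 piece T (`commute_of_rep`), core form: the statements of the pieces U (`exists_unitary_hom`)
and FB (`fb_commute`) are hypotheses.
-/

set_option autoImplicit false

namespace Cfsg.Agent.Lib.helper68.BL

open scoped ComplexConjugate Matrix

universe u

/-- T (core): transfer to a faithful representation, given U and FB (for this `G` and `n`). -/
theorem helper21_commute_of_rep_core {G : Type u} [Group G] [Finite G] {n : ℕ}
    (hUx : ∀ (R : G →* Matrix (Fin n) (Fin n) ℂ),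
      ∃ (C D : Matrix (Fin n) (Fin n) ℂ) (U : G →* Matrix (Fin n) (Fin n) ℂ), C * D = 1 ∧ D * C = 1 ∧
        (∀ g : G, U g = C * R g * D) ∧ ∀ g : G, (U g)ᴴ * U g = 1)
    (hFB : ∀ (U : G →* Matrix (Fin n) (Fin n) ℂ) (_ : ∀ g : G, (U g)ᴴ * U g = 1) (z : G) (ω : ℂ)
      (_ : star ω * ω = 1) (_ : ω ≠ 1) (_ : ‖ω - 1‖ < 1)
      (_ : (U z - 1) * (U z - ω • (1 : Matrix (Fin n) (Fin n) ℂ)) = 0) (g : G),
      U z * U (g * z * g⁻¹) = U (g * z * g⁻¹) * U z)
    (ρ : Representation ℂ G (Fin n → ℂ))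
    (hfaith : ∀ g : G, ρ.character g = ρ.character 1 → g = 1) (z : G) (ω : ℂ)
    (hω : star ω * ω = 1) (hω1 : ω ≠ 1) (hr : ‖ω - 1‖ < 1)
    (hz : (ρ z - 1) * (ρ z - ω • (1 : Module.End ℂ (Fin n → ℂ))) = 0) (g : G) :
    z * (g * z * g⁻¹) = (g * z * g⁻¹) * z := by
  obtain ⟨T, hT⟩ : ∃ T : Module.End ℂ (Fin n → ℂ) ≃ₐ[ℂ] Matrix (Fin n) (Fin n) ℂ, T = T :=
    ⟨LinearMap.toMatrixAlgEquiv', rfl⟩
  let R : G →* Matrix (Fin n) (Fin n) ℂ :=
    { toFun := fun g => T (ρ g)
      map_one' := by simp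
      map_mul' := fun a b => by simp }
  have hR : ∀ a : G, R a = T (ρ a) := fun a => rfl
  obtain ⟨C, D, U, hCD, hDC, hUR, hUu⟩ := hUx R
  have hRz : (R z - 1) * (R z - ω • (1 : Matrix (Fin n) (Fin n) ℂ)) = 0 := by
    have h := congrArg T hz
    rw [map_mul, map_sub, map_sub, map_one, map_smul, map_one, map_zero] at h
    rw [hR]
    exact h
  have hzU : (U z - 1) * (U z - ω • (1 : Matrix (Fin n) (Fin n) ℂ)) = 0 := by
    have e1 : U z - 1 = C * (R z - 1) * D := by
      rw [hUR, Matrix.mul_sub, Matrix.sub_mul, Matrix.mul_one, hCD]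
    have e2 : U z - ω • (1 : Matrix (Fin n) (Fin n) ℂ)
        = C * (R z - ω • (1 : Matrix (Fin n) (Fin n) ℂ)) * D := by
      rw [hUR, Matrix.mul_sub, Matrix.sub_mul, Matrix.mul_smul, Matrix.mul_one, Matrix.smul_mul, hCD]
    rw [e1, e2]
    calc C * (R z - 1) * D * (C * (R z - ω • (1 : Matrix (Fin n) (Fin n) ℂ)) * D)
        = C * ((R z - 1) * (D * C) * (R z - ω • (1 : Matrix (Fin n) (Fin n) ℂ))) * D := by
          simp only [Matrix.mul_assoc]
      _ = 0 := by rw [hDC, Matrix.mul_one, hRz, Matrix.mul_zero, Matrix.zero_mul]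
  have hcomm := hFB U hUu z ω hω hω1 hr hzU g
  rw [← map_mul, ← map_mul] at hcomm
  -- injectivity of U
  have hinj : ∀ a b : G, U a = U b → a = b := by
    intro a b hab
    rw [hUR, hUR] at hab
    have hRab : R a = R b := by
      have h : D * (C * R a * D) * C = D * (C * R b * D) * C := by rw [hab]
      have e : ∀ M : Matrix (Fin n) (Fin n) ℂ, D * (C * M * D) * C = M := by
        intro M
        calc D * (C * M * D) * C = (D * C) * M * (D * C) := by simp only [Matrix.mul_assoc]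
          _ = M := by rw [hDC, Matrix.one_mul, Matrix.mul_one]
      rw [e, e] at h
      exact h
    have hρab : ρ a = ρ b := T.injective (by rw [← hR, ← hR]; exact hRab)
    have h1 : ρ (a * b⁻¹) = ρ 1 := by
      rw [map_mul, hρab, ← map_mul, mul_inv_cancel]
    have h2 : ρ.character (a * b⁻¹) = ρ.character 1 := by
      unfold Representation.character
      rw [h1]
    have h3 := hfaith _ h2
    exact mul_inv_eq_one.1 h3
  exact hinj _ _ hcomm

end Cfsg.Agent.Lib.helper68.BL
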