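import Mathlib
import Cfsg.Agent.Lib.helper21.BLTcore
import Cfsg.Agent.Lib.helper47.BLU
import Cfsg.Agent.Lib.helper11.BLFB

/-!
# S4471 piece T (`commute_of_rep`): transfer to a faithful representation (verbatim statement),
from the core `helper21_commute_of_rep_core` + U (`exists_unitary_hom`) + FB (`fb_commute`).
-/

set_option autoImplicit false

namespace Cfsg.Agent.Lib.helper68.BL

open scoped ComplexConjugate Matrix

universe u

/-- T : transfer to a faithful representation. -/
theorem commute_of_rep {G : Type u} [Group G] [Finite G] {n : ℕ}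
    (ρ : Representation ℂ G (Fin n → ℂ))
    (hfaith : ∀ g : G, ρ.character g = ρ.character 1 → g = 1) (z : G) (ω : ℂ)
    (hω : star ω * ω = 1) (hω1 : ω ≠ 1) (hr : ‖ω - 1‖ < 1)
    (hz : (ρ z - 1) * (ρ z - ω • (1 : Module.End ℂ (Fin n → ℂ))) = 0) (g : G) :
    z * (g * z * g⁻¹) = (g * z * g⁻¹) * z :=
  helper21_commute_of_rep_core (fun R => exists_unitary_hom R)
    (fun U hU z ω hω hω1 hr hz g => fb_commute U hU z ω hω hω1 hr hz g) ρ hfaith z ω hω hω1 hr hz g

end Cfsg.Agent.Lib.helper68.BL
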