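import Mathlib
import Cfsg.Prelude.Def_LocalStructure

set_option autoImplicit false

/-!
# Definitions for S3875 (least order of a non-`p`-closed group), helper21

`MinBad p H`: `H` is not `p`-closed, but all its proper subgroups and proper quotients are.
-/

namespace Cfsg.Agent.Lib.helper21.BRL

open Cfsg

/-- `H` is not `p`-closed, but all its proper subgroups and proper quotients are. -/
structure MinBad (p : ℕ) (H : Type*) [Group H] : Prop where
  bad : ¬ IsPClosed p H
  sub : ∀ K : Subgroup H, K ≠ ⊤ → IsPClosed p K
  quot : ∀ (N : Subgroup H) [N.Normal], N ≠ ⊥ → IsPClosed p (H ⧸ N)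

end Cfsg.Agent.Lib.helper21.BRL
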