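import Mathlib
import Cfsg.Prelude.Def_LocalStructure
import Cfsg.Agent.Lib.helper21.BRLDefs
import Cfsg.Agent.Lib.helper71.BRL_B7
import Cfsg.Agent.Lib.helper32.BRL_B8
import Cfsg.Agent.Lib.helper39.BRL_E1
import Cfsg.Agent.Lib.helper32.BRL_E2

set_option autoImplicit false

/-!
# S3875 (least order of a non-`p`-closed group): reduction to S0999, assembly (helper21)
-/

namespace Cfsg.Agent.Lib.helper21.BRL

open Cfsg

/-- B9 (helper21): strong induction. -/
theorem lower_bound (p : ℕ) [Fact p.Prime] (m : ℕ)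
    (hleast : ∀ k : ℕ, IsPrimePow k → k % p = 1 → m ≤ k)
    (hBR : ∀ (H : Type) [Group H] [Finite H] [IsSimpleGroup H], ¬ IsCyclic H →
      p ∣ Nat.card H → Nat.card H < p ^ 3 → p * (p ^ 2 - 1) / 2 ≤ Nat.card H) :
    ∀ (n : ℕ) (H : Type) [Group H] [Finite H], Nat.card H = n → ¬ IsPClosed p H →
      min (p * m) (p * (p ^ 2 - 1) / 2) ≤ Nat.card H := by
  intro n
  induction n using Nat.strong_induction_on with
  | _ n ih =>
    intro H _ _ hn hH
    by_contra hlt
    push Not at hlt
    have hmb : MinBad p H := by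
      refine ⟨hH, ?_, ?_⟩
      · intro K hK
        by_contra hKc
        have hlt' : Nat.card K < Nat.card H := by
          rcases lt_or_eq_of_le (Subgroup.card_le_card_group K) with h | h
          · exact h
          · exact absurd ((Subgroup.card_eq_iff_eq_top K).mp h) hK
        have := ih (Nat.card K) (hn ▸ hlt') K rfl hKc
        omega
      · intro N _ hN
        by_contra hNc
        have hlt' : Nat.card (H ⧸ N) < Nat.card H := by
          have h1 : Nat.card H = Nat.card (H ⧸ N) * Nat.card N := by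
            rw [← Subgroup.index_eq_card, mul_comm]; exact (Subgroup.card_mul_index N).symm
          have h2 : 2 ≤ Nat.card N := by
            have : Nat.card N ≠ 1 := fun hc => hN (Subgroup.card_eq_one.mp hc)
            have hpos : 0 < Nat.card N := Nat.card_pos
            omega
          have h3 : 0 < Nat.card (H ⧸ N) := Nat.card_pos
          nlinarith
        have := ih (Nat.card (H ⧸ N)) (hn ▸ hlt') (H ⧸ N) rfl hNc
        omega
    have := minbad_bound p m hleast hBR H hmb
    omega

/-- S3875 from the conclusion of S0999 (helper21). -/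
theorem least_main (p : ℕ) [Fact p.Prime] (hp : p ≠ 2) (m : ℕ) (hm : IsPrimePow m)
    (hm1 : m % p = 1) (hleast : ∀ k : ℕ, IsPrimePow k → k % p = 1 → m ≤ k)
    (hS : ∀ (H : Type) [Group H] [Finite H] [IsSimpleGroup H], ¬ IsCyclic H →
      p ∣ Nat.card H → Nat.card H < p ^ 3 →
      (∃ (F : Type) (_ : Field F) (_ : Fintype F), Fintype.card F = p ∧ 3 < p ∧
        Nonempty (H ≃* Matrix.ProjectiveSpecialLinearGroup (Fin 2) F)) ∨
      (∃ (m : ℕ) (F : Type) (_ : Field F) (_ : Fintype F), Fintype.card F = 2 ^ m ∧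
        p = 2 ^ m + 1 ∧ 3 < p ∧
        Nonempty (H ≃* Matrix.ProjectiveSpecialLinearGroup (Fin 2) F))) :
    (∀ (H : Type) [Group H] [Finite H], ¬ Cfsg.IsPClosed p H →
        min (p * m) (p * (p ^ 2 - 1) / 2) ≤ Nat.card H) ∧
      ∃ (H : Type) (_ : Group H) (_ : Finite H),
        Nat.card H = min (p * m) (p * (p ^ 2 - 1) / 2) ∧ ¬ Cfsg.IsPClosed p H := by
  have hpp : p.Prime := Fact.out
  have hBR : ∀ (H : Type) [Group H] [Finite H] [IsSimpleGroup H], ¬ IsCyclic H →
      p ∣ Nat.card H → Nat.card H < p ^ 3 → p * (p ^ 2 - 1) / 2 ≤ Nat.card H :=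
    fun H _ _ _ h1 h2 h3 => size_bound2 p hpp (hS H h1 h2 h3)
  refine ⟨fun H _ _ hH => lower_bound p m hleast hBR (Nat.card H) H rfl hH, ?_⟩
  rcases le_total (p * m) (p * (p ^ 2 - 1) / 2) with hle | hle
  · rw [min_eq_left hle]
    exact exists_frobenius p m hm hm1
  · rw [min_eq_right hle]
    obtain ⟨hc, hn⟩ := psl_not_pclosed p hp
    exact ⟨Matrix.ProjectiveSpecialLinearGroup (Fin 2) (ZMod p), inferInstance, inferInstance,
      hc, hn⟩

end Cfsg.Agent.Lib.helper21.BRL
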