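import Mathlib
import Cfsg.Agent.Lib.helper21.BRDefs
import Cfsg.Agent.Lib.helper32.BR_M12a
import Cfsg.Agent.Lib.helper78.BR_GT5
import Cfsg.Agent.Lib.helper17.BR_GT7
import Cfsg.Agent.Lib.helper53.BR_Cores
import Cfsg.Agent.Lib.helper53.BR_M2
import Cfsg.Agent.Lib.helper22.BR_M3
import Cfsg.Agent.Lib.helper51.BR_M4
import Cfsg.Agent.Lib.helper51.BR_M5

set_option autoImplicit false

/-!
# S0999: the two last wrappers (helper21's own copies of the pieces M5' and M12)

* `brself_of_num_h21`: the self-centralizing stage, from the pieces M2, M3, M4, M5 and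
  helper53's core `brself_of_num_core`.
* `final_e2_h21`: the case `e = 2`, from the pieces M12a, GT5 and GT7.
-/

namespace Cfsg.Agent.Lib.helper21.BR

open Cfsg Cfsg.Agent.Lib.helper21

universe u

section Chars

variable {G : Type u} [Group G] [Fintype G]
variable {p : ℕ} [Fact p.Prime] {P : Sylow p G}
variable {e t n v : ℕ} {X Y : Finset (IrrCharacter G)} {εX : IrrCharacter G → ℤ} {ε : ℤ}
  {f₀ : ℕ}

/-- M5' (own copy). -/
theorem brself_of_num_h21 (hN : BRNum p P e t n v)
    (hD : BRData (P : Subgroup G) p e X Y εX ε) :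
    ∃ f₀ : ℕ, BRSelf p P e t X Y εX ε f₀ := by
  have hs : IsSimpleGroup G := hN.simple
  have hM2 := degX_of_num hN hD
  exact Cfsg.Agent.Lib.helper53.BR.brself_of_num_core hM2 (exists_minus hN hD hM2)
    (fun χ₀ hχ hs' hdeg => centralizer_card_eq hN.noncyc hN.cardP hD χ₀ hχ hs' hdeg)
    (fun hcard he het ht => exc_degree hN.noncyc hD hcard he het ht) hN hD

/-- M12 (own copy). -/
theorem final_e2_h21 (h : BRSelf p P 2 t X Y εX ε f₀) (hε : ε = -1)
    (hmix : ∀ g : G, ¬ p ∣ orderOf g → ∀ r r' : ℕ, r.Prime → r'.Prime → r ∣ p - 1 →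
      r' ∣ p - 2 → r ∣ orderOf g → r' ∣ orderOf g → False) :
    ∃ (m : ℕ) (F : Type) (_ : Field F) (_ : Fintype F), Fintype.card F = 2 ^ m ∧
      p = 2 ^ m + 1 ∧ 3 < p ∧
      Nonempty (G ≃* Matrix.ProjectiveSpecialLinearGroup (Fin 2) F) := by
  have hs : IsSimpleGroup G := h.simple
  have hp5 : 5 ≤ p := by
    have h1 := h.et
    have h2 := h.t_ge
    omega
  exact final_group h.noncyc p hp5 h.cardG (card_A h hε)
    (order_eq_of_dvd p P h.cardP h.cardC) hmix

end Chars

end Cfsg.Agent.Lib.helper21.BR
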