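import Mathlib
import Cfsg.Agent.Lib.helper71.FourOrbMat
import Cfsg.Agent.Lib.helper48.BRP_Q1
import Cfsg.Agent.Lib.helper48.BRP_Q3
import Cfsg.Agent.Lib.helper70.BRP_Q5
import Cfsg.Agent.Lib.helper48.BRP_Q7

set_option autoImplicit false

/-!
# S4701 (perfect version of Brauer–Reynolds): reduction to S0999, assembly (helper21)
-/

namespace Cfsg.Agent.Lib.helper21.BRP

universe u

/-- Q6 (helper21): S4701 from S0999. -/
theorem perfect_main {G : Type u} [Group G] [Finite G] (hperf : commutator G = ⊤) (p : ℕ)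
    [Fact p.Prime] (hdvd : p ∣ Nat.card G) (hbig : Nat.card G < p ^ 3) (P : Sylow p G)
    (hP : ¬ (P : Subgroup G).Normal) (h2 : ∀ N : Subgroup G, N.Normal → Nat.card N ≠ 2)
    (hS : ∀ (H : Type u) [Group H] [Finite H] [IsSimpleGroup H], ¬ IsCyclic H →
      p ∣ Nat.card H → Nat.card H < p ^ 3 →
      (∃ (F : Type) (_ : Field F) (_ : Fintype F), Fintype.card F = p ∧ 3 < p ∧
        Nonempty (H ≃* Matrix.ProjectiveSpecialLinearGroup (Fin 2) F)) ∨
      (∃ (m : ℕ) (F : Type) (_ : Field F) (_ : Fintype F), Fintype.card F = 2 ^ m ∧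
        p = 2 ^ m + 1 ∧ 3 < p ∧
        Nonempty (H ≃* Matrix.ProjectiveSpecialLinearGroup (Fin 2) F))) :
    (∃ (F : Type) (_ : Field F) (_ : Fintype F), Fintype.card F = p ∧ 3 < p ∧
        Nonempty (G ≃* Matrix.ProjectiveSpecialLinearGroup (Fin 2) F)) ∨
      (∃ (m : ℕ) (F : Type) (_ : Field F) (_ : Fintype F), Fintype.card F = 2 ^ m ∧
        p = 2 ^ m + 1 ∧ 3 < p ∧ Nonempty (G ≃* Matrix.SpecialLinearGroup (Fin 2) F)) := by
  have hp : p.Prime := Fact.out
  have hp2 := sylow_card_of_small p hdvd hbig P hP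
  have hBR : ∀ (H : Type u) [Group H] [Finite H] [IsSimpleGroup H], ¬ IsCyclic H →
      p ∣ Nat.card H → Nat.card H < p ^ 3 → p ^ 3 < 3 * Nat.card H :=
    fun H _ _ _ h1 h2' h3 => size_bound p hp (hS H h1 h2' h3)
  obtain ⟨Z, hZn, hZ2, hsimp⟩ := perfect_structure p hBR G hperf hdvd hp2 hbig
  have hZ1 : Nat.card Z = 1 := by
    have h := h2 Z hZn
    have hpos : 0 < Nat.card Z := Nat.card_pos
    omega
  have hZbot : Z = ⊥ := (Subgroup.card_eq_one).mp hZ1
  subst hZbot
  haveI : IsSimpleGroup G :=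
    (QuotientGroup.quotientBot (G := G)).symm.isSimpleGroup
  have hnc : ¬ IsCyclic G := by
    intro hc
    have hab : commutator G = ⊥ := by
      rw [commutator_eq_bot_iff_center_eq_top]
      letI := hc.commGroup
      exact CommGroup.center_eq_top
    rw [hab] at hperf
    exact bot_ne_top hperf
  rcases hS G hnc hdvd hbig with h | ⟨m, F, hF1, hF2, hcard, hpm, h3, ⟨e⟩⟩
  · exact Or.inl h
  · right
    have hm : 1 ≤ m := by
      rcases Nat.eq_zero_or_pos m with h0 | h0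
      · subst h0; omega
      · exact h0
    have h20 : (2 : F) = 0 := two_eq_zero_of_card m hm hcard
    obtain ⟨e'⟩ := Cfsg.Agent.Lib.helper71.FourOrb.nonempty_sl2_equiv_psl2 F h20
    exact ⟨m, F, hF1, hF2, hcard, hpm, h3, ⟨e.trans e'.symm⟩⟩

end Cfsg.Agent.Lib.helper21.BRP
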