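import Mathlib
import Cfsg.Agent.Lib.helper21.BRDefs
import Cfsg.Agent.Lib.helper78.BR_GT1
import Cfsg.Agent.Lib.helper78.BR_GT2
import Cfsg.Agent.Lib.helper78.BR_GT3
import Cfsg.Agent.Lib.helper17.BR_GT4
import Cfsg.Agent.Lib.helper20.BR_CH1
import Cfsg.Agent.Lib.helper21.BRLast
import Cfsg.Agent.Lib.helper15.BR_M6
import Cfsg.Agent.Lib.helper15.BR_M7
import Cfsg.Agent.Lib.helper15.BR_M8
import Cfsg.Agent.Lib.helper32.BR_M9
import Cfsg.Agent.Lib.helper32.BR_M10
import Cfsg.Agent.Lib.helper27.BR_M11
import Cfsg.Agent.Lib.helper75.BR_AR4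

set_option autoImplicit false

/-!
# S0999 (Brauer–Reynolds): assembly of the pieces (helper21)

`brself_final`: the self-centralizing stage `BRSelf` gives `G ≅ PSL(2, 2^m)`, `p = 2^m + 1`.
`br_main`: the statement of S0999.
-/

namespace Cfsg.Agent.Lib.helper21.BR

open Cfsg Cfsg.Agent.Lib.helper21

universe u

section Top

variable {G : Type u} [Group G] [Fintype G] {p : ℕ} [Fact p.Prime] {P : Sylow p G}
  {e t : ℕ} {X Y : Finset (IrrCharacter G)} {εX : IrrCharacter G → ℤ} {ε : ℤ} {f₀ : ℕ}

/-- The self-centralizing stage gives `PSL(2, 2^m)`. -/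
theorem brself_final (h : BRSelf p P e t X Y εX ε f₀) :
    ∃ (m : ℕ) (F : Type) (_ : Field F) (_ : Fintype F), Fintype.card F = 2 ^ m ∧
      p = 2 ^ m + 1 ∧ 3 < p ∧
      Nonempty (G ≃* Matrix.ProjectiveSpecialLinearGroup (Fin 2) F) := by
  classical
  letI : Fintype ↥(P : Subgroup G) := Fintype.ofFinite _
  obtain ⟨hvan, hdvd, hsq⟩ := others_vanish h
  have hsum := sum_P_theta h
  rcases h.data.sgn with hε | hε
  · exact (configI_false h hε hvan hsq hsum).elim
  · obtain ⟨a, -, hII⟩ := config_count h
    obtain ⟨hea, hcnt⟩ := hII hε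
    have hp2 : 2 ≤ p := (Fact.out : p.Prime).two_le
    have hcop := coprime_of_config p e t a h.et hea hp2
    have hmix := no_mixed h hε hcop
    rcases Nat.eq_zero_or_pos a with ha | ha
    · subst ha
      have he2 : e = 2 := by simpa using hea
      subst he2
      exact final_e2_h21 h hε hmix
    · exact (configII_false h hε a ha hea hcnt hdvd hmix).elim

end Top

/-- S0999. -/
theorem br_main {G : Type*} [Group G] [Finite G] [IsSimpleGroup G] (hG : ¬ IsCyclic G) (p : ℕ) (hp : p.Prime) (hdvd : p ∣ Nat.card G) (hbig : Nat.card G < p ^ 3) : (∃ (F : Type) (_ : Field F) (_ : Fintype F), Fintype.card F = p ∧ 3 < p ∧ Nonempty (G ≃* Matrix.ProjectiveSpecialLinearGroup (Fin 2) F)) ∨ (∃ (m : ℕ) (F : Type) (_ : Field F) (_ : Fintype F), Fintype.card F = 2 ^ m ∧ p = 2 ^ m + 1 ∧ 3 < p ∧ Nonempty (G ≃* Matrix.ProjectiveSpecialLinearGroup (Fin 2) F)) := by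
  classical
  haveI : Fact p.Prime := ⟨hp⟩
  letI : Fintype G := Fintype.ofFinite G
  obtain ⟨P⟩ : Nonempty (Sylow p G) := inferInstance
  have hP := sylow_card_eq hG p hdvd hbig P
  obtain ⟨he2, hedvd⟩ := relIndex_facts hG p P hP
  obtain ⟨v, n, hn1, hC, hS, hcard⟩ := order_formula hG p P hP
  set e := (Subgroup.centralizer ((P : Subgroup G) : Set G)).relIndex
        (Subgroup.normalizer ((P : Subgroup G) : Set G)) with he
  have hp2 : 2 ≤ p := hp.two_le
  have hv : 1 ≤ v := by
    rcases Nat.eq_zero_or_pos v with h0 | h0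
    · exfalso
      rw [h0, Nat.mul_zero] at hC
      exact Nat.card_pos.ne' hC
    · exact h0
  -- e * v * n < p
  have hsmall : e * v * n < p := by
    rw [hcard] at hbig
    by_contra hcon
    push Not at hcon
    have h1 : p * p ≤ e * v * n * p := Nat.mul_le_mul_right p hcon
    have h2 : p * (e * v * n * p) ≤ p * e * v * (1 + n * p) := by
      have : p * e * v * (1 + n * p) = p * (e * v * n * p) + p * e * v := by ring
      omega
    have h3 : p * (p * p) ≤ p * (e * v * n * p) := Nat.mul_le_mul_left p h1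
    have h4 : p ^ 3 = p * (p * p) := by ring
    omega
  rcases Nat.lt_or_ge n 2 with hn | hn
  · -- n = 1
    have hn' : n = 1 := by omega
    subst hn'
    left
    have hd : e * v < p := by simpa using hsmall
    have hS' : Nat.card (Sylow p G) = p + 1 := by rw [hS]; ring
    have hcard' : Nat.card G = (p + 1) * p * (e * v) := by rw [hcard]; ring
    obtain ⟨h3, hiso⟩ := case_n_one hG p (e * v) hS' hcard' hd
    exact ⟨ZMod p, inferInstance, inferInstance, ZMod.card p, h3, hiso⟩
  · -- n ≥ 2
    right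
    have hen : e * n < p := by
      have : e * n ≤ e * v * n := by
        calc e * n = e * 1 * n := by ring
          _ ≤ e * v * n := Nat.mul_le_mul_right n (Nat.mul_le_mul_left e hv)
      omega
    obtain ⟨t, ht⟩ := hedvd
    have het : e * t = p - 1 := ht.symm
    have ht2 : 2 ≤ t := by
      by_contra hcon
      push Not at hcon
      have ht1 : t ≤ 1 := by omega
      have : e * t ≤ e := by
        calc e * t ≤ e * 1 := Nat.mul_le_mul_left e ht1
          _ = e := by ring
      have h2e : 2 * e ≤ e * n := by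
        calc 2 * e = e * 2 := by ring
          _ ≤ e * n := Nat.mul_le_mul_left e hn
      omega
    have hodd : p ≠ 2 := by
      rintro rfl
      have : e * t = 1 := het
      have h1 : e ∣ 1 := Dvd.intro t this
      have : e = 1 := Nat.dvd_one.mp h1
      omega
    have he2' : 2 * e ≤ p - 1 := by
      rw [← het]
      calc 2 * e = e * 2 := by ring
        _ ≤ e * t := Nat.mul_le_mul_left e ht2
    have hN : BRNum p P e t n v :=
      { simple := inferInstance, noncyc := hG, cardP := hP, relIdx := he.symm, e_ge := he2,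
        et := het, t_ge := ht2, cardC := hC, cardG := hcard, n_ge := hn, small := hsmall }
    obtain ⟨X, Y, εX, ε, hD⟩ := brdata_exists p P hG hodd hP e he.symm ⟨t, ht⟩ he2'
    obtain ⟨f₀, hself⟩ := brself_of_num_h21 hN hD
    exact brself_final hself

end Cfsg.Agent.Lib.helper21.BR
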