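import Mathlib

/-!
# S0997 piece AR2 (helper21, insurance copy): the arithmetic of the case `ε = -1`
-/

set_option autoImplicit false

namespace Cfsg.Agent.Lib.helper21.BU

/-- AR2 : the case `ε = -1` (`S = X ∖ 1`, `d` = degrees, `δ` = signs, `N = |Syl_p|`). -/
theorem ar_minus (p q e b N : ℕ) (hp : p.Prime) (hq : q.Prime) (hpq : p ≠ q)
    (he2 : 2 ≤ e) (hep : e ∣ p - 1) (hef : e + 2 ≤ p) (hN : e * N = q ^ b * (p - e))
    {ι : Type*} (S : Finset ι) (d : ι → ℕ) (δ : ι → ℤ) (hS : S.card + 1 = e)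
    (hδ : ∀ i ∈ S, δ i = 1 ∨ δ i = -1)
    (hq' : ∀ i ∈ S, q ∣ d i) (hd : ∀ i ∈ S, d i ∣ q ^ b * (p - e))
    (hmod : ∀ i ∈ S, (d i : ℤ) ≡ δ i [ZMOD p])
    (hsum : ∑ i ∈ S, δ i * (d i : ℤ) = -((p : ℤ) - (e : ℤ)) - 1) :
    q = 2 ∧ ((e = 2 ∧ ∃ i ∈ S, δ i = -1 ∧ d i = p - 1 ∧ ∃ k : ℕ, p - 1 = 2 ^ k) ∨
      (4 ≤ e ∧ p - 1 = 2 * e ∧ ∃ a : ℕ, e = 2 ^ a)) := by
  classical
  have he0 : 0 < e := by omega
  have helt : e < p := by omega
  have hcop : Nat.Coprime e (p - e) := by
    have h1 := Nat.gcd_dvd_left e (p - e)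
    have h2 := Nat.gcd_dvd_right e (p - e)
    have h3 : Nat.gcd e (p - e) ∣ e + (p - e) := Nat.dvd_add h1 h2
    have h4 : e + (p - e) = p := by omega
    rw [h4] at h3
    rcases (Nat.dvd_prime hp).mp h3 with h | h
    · exact h
    · have := Nat.le_of_dvd he0 h1
      omega
  have hdvd : e ∣ q ^ b := by
    have h : e ∣ q ^ b * (p - e) := Dvd.intro N hN
    exact hcop.dvd_of_dvd_mul_right h
  obtain ⟨a, -, ha⟩ := (Nat.dvd_prime_pow hq).mp hdvd
  have ha1 : 1 ≤ a := by
    by_contra hcon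
    have h0 : a = 0 := by omega
    rw [h0, pow_zero] at ha
    omega
  have hqe : q ∣ e := by rw [ha]; exact dvd_pow_self q (by omega)
  have hqp1 : q ∣ p - 1 := hqe.trans hep
  have hq2 : q = 2 := by
    have h1 : (q : ℤ) ∣ ∑ i ∈ S, δ i * (d i : ℤ) := by
      apply Finset.dvd_sum
      intro i hi
      exact Dvd.dvd.mul_left (Int.natCast_dvd_natCast.mpr (hq' i hi)) _
    rw [hsum] at h1
    have h2 : (q : ℤ) ∣ (e : ℤ) := Int.natCast_dvd_natCast.mpr hqe
    have h3 : (q : ℤ) ∣ (p : ℤ) - 1 := by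
      have h := Int.natCast_dvd_natCast.mpr hqp1
      rwa [Nat.cast_sub (by omega : 1 ≤ p), Nat.cast_one] at h
    have h4 : (q : ℤ) ∣ 2 := by
      have h5 : (2 : ℤ) = (e : ℤ) - ((p : ℤ) - 1) - (-((p : ℤ) - (e : ℤ)) - 1) := by ring
      rw [h5]
      exact dvd_sub (dvd_sub h2 h3) h1
    have h6 : q ∣ 2 := by exact_mod_cast h4
    exact (Nat.prime_dvd_prime_iff_eq hq Nat.prime_two).mp h6
  subst hq2
  refine ⟨rfl, ?_⟩
  rcases Nat.lt_or_ge a 2 with ha2 | ha2
  · -- `a = 1`, `e = 2`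
    have ha' : a = 1 := by omega
    subst ha'
    have he : e = 2 := by rw [ha]; norm_num
    left
    refine ⟨he, ?_⟩
    have hcard : S.card = 1 := by omega
    obtain ⟨i, hi⟩ := Finset.card_eq_one.mp hcard
    have hiS : i ∈ S := by rw [hi]; exact Finset.mem_singleton_self i
    rw [hi, Finset.sum_singleton] at hsum
    have hp4 : (4 : ℤ) ≤ (p : ℤ) := by exact_mod_cast (by omega : 4 ≤ p)
    have he' : (e : ℤ) = 2 := by exact_mod_cast he
    have hdnn : (0 : ℤ) ≤ (d i : ℤ) := Int.natCast_nonneg _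
    rcases hδ i hiS with h1 | h1
    · exfalso
      rw [h1] at hsum
      linarith
    · have hdi : d i = p - 1 := by
        rw [h1] at hsum
        have h2 : (d i : ℤ) = (p : ℤ) - 1 := by linarith
        omega
      refine ⟨i, hiS, h1, hdi, ?_⟩
      have h3 := hd i hiS
      rw [hdi, he] at h3
      have hc : Nat.Coprime (p - 1) (p - 2) := by
        have h : p - 1 = (p - 2) + 1 := by omega
        rw [h]; simp
      have h4 : p - 1 ∣ 2 ^ b := hc.dvd_of_dvd_mul_right h3
      obtain ⟨k, -, hk⟩ := (Nat.dvd_prime_pow Nat.prime_two).mp h4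
      exact ⟨k, hk⟩
  · -- `a ≥ 2`
    right
    have h4e : 4 ∣ e := by
      rw [ha]
      have h : (2 : ℕ) ^ a = 4 * 2 ^ (a - 2) := by
        rw [show (4 : ℕ) = 2 ^ 2 by norm_num, ← pow_add]
        congr 1
        omega
      rw [h]
      exact Dvd.intro _ rfl
    have he4 : 4 ≤ e := Nat.le_of_dvd he0 h4e
    refine ⟨he4, ?_, a, ha⟩
    have h4p : 4 ∣ p - 1 := h4e.trans hep
    have h2e : 2 * e ≤ p - 1 := by
      obtain ⟨c, hc⟩ := hep
      have hc2 : 2 ≤ c := by
        by_contra hcon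
        push Not at hcon
        interval_cases c
        · simp at hc; omega
        · simp at hc; omega
      calc 2 * e = e * 2 := by ring
        _ ≤ e * c := Nat.mul_le_mul_left e hc2
        _ = p - 1 := hc.symm
    have hpmod : p % 4 = 1 := by omega
    have hemod : e % 4 = 0 := by omega
    have hex : ∃ i ∈ S, d i % 4 = 2 := by
      by_contra hcon
      push Not at hcon
      have h1 : (4 : ℤ) ∣ ∑ i ∈ S, δ i * (d i : ℤ) := by
        apply Finset.dvd_sum
        intro i hi
        have h2 : 2 ∣ d i := hq' i hi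
        have h3 : d i % 4 ≠ 2 := hcon i hi
        have h4 : 4 ∣ d i := by omega
        have h5 : (4 : ℤ) ∣ (d i : ℤ) := by exact_mod_cast h4
        exact Dvd.dvd.mul_left h5 _
      rw [hsum] at h1
      omega
    obtain ⟨i, hiS, hi2⟩ := hex
    obtain ⟨D, hD⟩ : ∃ D, D = d i := ⟨d i, rfl⟩
    rw [← hD] at hi2
    have hDge : p - 1 ≤ D := by
      have hm := hmod i hiS
      rw [← hD] at hm
      rcases hδ i hiS with h1 | h1
      · rw [h1] at hm
        have h2 : (p : ℤ) ∣ (D : ℤ) - 1 := Int.modEq_iff_dvd.mp hm.symm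
        have h3 : p ∣ D - 1 := by
          have h4 : ((D - 1 : ℕ) : ℤ) = (D : ℤ) - 1 := by
            rw [Nat.cast_sub (by omega : 1 ≤ D)]; simp
          rw [← h4] at h2
          exact_mod_cast h2
        have h5 : 0 < D - 1 := by omega
        have h6 := Nat.le_of_dvd h5 h3
        omega
      · rw [h1] at hm
        have h2 : (p : ℤ) ∣ (D : ℤ) + 1 := by
          have h := Int.modEq_iff_dvd.mp hm.symm
          simpa using h
        have h3 : p ∣ D + 1 := by exact_mod_cast h2
        have h6 := Nat.le_of_dvd (by omega) h3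
        omega
    obtain ⟨D', hD'⟩ : ∃ D', D = 2 * D' := ⟨D / 2, by omega⟩
    have hD'odd : D' % 2 = 1 := by omega
    have hD'dvd : D' ∣ p - e := by
      have h0 : D ∣ 2 ^ b * (p - e) := by rw [hD]; exact hd i hiS
      have h1 : D' ∣ 2 ^ b * (p - e) := (Dvd.intro_left 2 hD'.symm).trans h0
      have hc : Nat.Coprime D' (2 ^ b) := by
        apply Nat.Coprime.pow_right
        rw [Nat.coprime_comm, Nat.Prime.coprime_iff_not_dvd Nat.prime_two]
        omega
      exact hc.dvd_of_dvd_mul_left h1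
    have hD'eq : D' = p - e := by
      obtain ⟨c, hc⟩ := hD'dvd
      have hpe_odd : (p - e) % 2 = 1 := by omega
      have hc1 : c = 1 := by
        by_contra hcne
        have hc0 : c ≠ 0 := by
          rintro rfl
          simp at hc
          omega
        have hcodd : c % 2 = 1 := by
          rcases Nat.even_or_odd c with h | h
          · exfalso
            have h2 : Even (D' * c) := Even.mul_left h D'
            rw [← hc, Nat.even_iff] at h2
            omega
          · exact Nat.odd_iff.mp h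
        have hc3 : 3 ≤ c := by omega
        have h3 : D' * 3 ≤ D' * c := Nat.mul_le_mul_left D' hc3
        rw [← hc] at h3
        omega
      rw [hc1, mul_one] at hc
      exact hc.symm
    have hDval : D = 2 * (p - e) := by rw [hD', hD'eq]
    have hDZ : (D : ℤ) = 2 * ((p : ℤ) - (e : ℤ)) := by
      rw [hDval]
      push_cast [Nat.cast_sub helt.le]
      ring
    have hm := hmod i hiS
    rw [← hD] at hm
    rcases hδ i hiS with h1 | h1
    · rw [h1] at hm
      have h2 : (p : ℤ) ∣ (D : ℤ) - 1 := Int.modEq_iff_dvd.mp hm.symm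
      have h3 : (p : ℤ) ∣ 2 * (e : ℤ) + 1 := by
        have h5 : 2 * (e : ℤ) + 1 = 2 * (p : ℤ) - ((D : ℤ) - 1) := by rw [hDZ]; ring
        rw [h5]
        exact dvd_sub (Dvd.intro_left 2 rfl) h2
      have h6 : p ∣ 2 * e + 1 := by exact_mod_cast h3
      have h7 := Nat.le_of_dvd (by omega) h6
      omega
    · exfalso
      rw [h1] at hm
      have h2 : (p : ℤ) ∣ (D : ℤ) + 1 := by
        have h := Int.modEq_iff_dvd.mp hm.symm
        simpa using h
      have h3 : (p : ℤ) ∣ 2 * (e : ℤ) - 1 := by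
        have h5 : 2 * (e : ℤ) - 1 = 2 * (p : ℤ) - ((D : ℤ) + 1) := by rw [hDZ]; ring
        rw [h5]
        exact dvd_sub (Dvd.intro_left 2 rfl) h2
      have h6 : p ∣ 2 * e - 1 := by
        have h7 : ((2 * e - 1 : ℕ) : ℤ) = 2 * (e : ℤ) - 1 := by
          rw [Nat.cast_sub (by omega)]
          push_cast
          ring
        rw [← h7] at h3
        exact_mod_cast h3
      have h8 := Nat.le_of_dvd (by omega) h6
      omega

end Cfsg.Agent.Lib.helper21.BU
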