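import Mathlib

/-!
# S0997 piece AR3 (helper21, insurance copy): the final bound in the case `ε = -1`,
`p = 2 e + 1`, `e = 2^a ≥ 4`
-/

set_option autoImplicit false

namespace Cfsg.Agent.Lib.helper21.BU

/-- AR3 : the final bound in the case `ε = -1`, `p = 2 e + 1`, `e = 2^a ≥ 4`
(`d` = a degree with `d ≥ 2^b`, `d² < |G| = e p N`). -/
theorem ar_fin_minus (p e a b N d : ℕ) (hpe : p - 1 = 2 * e) (hea : e = 2 ^ a) (he4 : 4 ≤ e)
    (hN : e * N = 2 ^ b * (e + 1)) (h1 : e * N ≤ d * (e + 1)) (h2 : d * d < e * p * N) :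
    2 * N < (p + 1) * (p + 2) := by
  have hp : p = 2 * e + 1 := by omega
  subst hp
  have he0 : 0 < e := by omega
  -- `e ∣ 2^b`
  have hcop : Nat.Coprime e (e + 1) := by
    simp
  have hdvd : e ∣ 2 ^ b := by
    have h : e ∣ 2 ^ b * (e + 1) := Dvd.intro N hN
    exact hcop.dvd_of_dvd_mul_right h
  obtain ⟨m, hm⟩ := hdvd
  -- `N = m (e + 1)`
  have hNm : N = m * (e + 1) := by
    have h : e * N = e * (m * (e + 1)) := by rw [hN, hm]; ring
    exact Nat.eq_of_mul_eq_mul_left he0 h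
  -- `m` is a power of two
  have hmdvd : m ∣ 2 ^ b := Dvd.intro_left e hm.symm
  obtain ⟨c, -, hc⟩ := (Nat.dvd_prime_pow Nat.prime_two).mp hmdvd
  have hm0 : 0 < m := by rw [hc]; positivity
  -- `e m ≤ d`
  have hem : e * m ≤ d := by
    have h : (e * m) * (e + 1) ≤ d * (e + 1) := by
      calc (e * m) * (e + 1) = e * N := by rw [hNm]; ring
        _ ≤ d * (e + 1) := h1
    exact Nat.le_of_mul_le_mul_right h (by omega)
  -- `e m < (2 e + 1) (e + 1)`
  have hlt : e * m < (2 * e + 1) * (e + 1) := by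
    have h3 : (e * m) * (e * m) ≤ d * d := Nat.mul_le_mul hem hem
    have h4 : (e * m) * (e * m) < (e * m) * ((2 * e + 1) * (e + 1)) := by
      calc (e * m) * (e * m) ≤ d * d := h3
        _ < e * (2 * e + 1) * N := h2
        _ = (e * m) * ((2 * e + 1) * (e + 1)) := by rw [hNm]; ring
    exact Nat.lt_of_mul_lt_mul_left h4
  -- `m ≤ 2 e + 3`
  have hm3 : m ≤ 2 * e + 3 := by
    by_contra hcon
    push Not at hcon
    have h5 : e * (2 * e + 4) ≤ e * m := Nat.mul_le_mul_left e hcon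
    nlinarith
  -- `m ≤ 2 e` since both are powers of two
  have hm2 : m ≤ 2 * e := by
    rw [hc, hea] at hm3 ⊢
    have hlt2 : (2 : ℕ) ^ c < 2 ^ (a + 2) := by
      have h6 : (2 : ℕ) ^ (a + 2) = 4 * 2 ^ a := by ring
      have h7 : 4 ≤ (2 : ℕ) ^ a := hea ▸ he4
      omega
    have hca : c < a + 2 := (Nat.pow_lt_pow_iff_right (by norm_num : 1 < 2)).mp hlt2
    have hca' : c ≤ a + 1 := by omega
    calc (2 : ℕ) ^ c ≤ 2 ^ (a + 1) := Nat.pow_le_pow_right (by norm_num) hca'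
      _ = 2 * 2 ^ a := by ring
  rw [hNm]
  have h8 : 2 * (m * (e + 1)) ≤ 2 * (2 * e * (e + 1)) :=
    Nat.mul_le_mul_left 2 (Nat.mul_le_mul_right (e + 1) hm2)
  nlinarith

end Cfsg.Agent.Lib.helper21.BU
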