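import Mathlib
import Cfsg.Agent.Lib.helper21.PrimeTI
import Cfsg.Agent.Lib.helper82.CharSums

set_option autoImplicit false

/-!
# Exceptional characters for a self-centralizing subgroup of prime order: the general case

`P ≤ G` of prime order `p`, `C_G(P) ≤ P`, `|N_G(P)| = p e` with `e < p - 1` (at least two
classes of nontrivial characters of `P` under the normalizer).  No restriction on the number of
exceptional characters; the exceptional characters may occur in `(1_P - λ)^G`.
-/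

namespace Cfsg.Agent.Lib.helper21

open Cfsg Cfsg.Agent.Lib.helper4
open scoped ComplexConjugate

universe u

section ExcGen

variable {G : Type u} [Group G] [Fintype G]

/-- **Exceptional characters, general form.**  Let `P ≤ G` have prime order `p`, `C_G(P) ≤ P`,
`|N_G(P)| = p e`, `e < p - 1`.  There are a sign `ε`, integers `b ψ`, a set `S` of at least
`(p - 1) / e ≥ 2` irreducible characters of common degree `f₀` and common coefficient `b₀`
such that `b 1 = 1`, `1 ∉ S`, `∑ b ψ ^ 2 = e + 2 ε b₀`, `∑ b ψ ψ(1) = ε f₀`,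
`ψ(1) ≡ b ψ` modulo `p` for `ψ ∉ S` and `f₀ ≡ b₀ + ε e` modulo `p`.
(For each `χ ∈ S`, `∑ b ψ ψ - ε χ` is `(1_P - λ)^G` for a nontrivial character `λ` of `P`.) -/
theorem exceptional_general [Fintype (IrrCharacter G)] {p e : ℕ}
    (hp : p.Prime) (P : Subgroup G) (hP : Nat.card P = p)
    (hC : Subgroup.centralizer (P : Set G) ≤ P)
    (hN : Nat.card (Subgroup.normalizer (P : Set G)) = p * e) (he : e < p - 1) :
    ∃ (ε : ℤ) (b : IrrCharacter G → ℤ) (S : Finset (IrrCharacter G)) (b₀ : ℤ) (f₀ : ℕ),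
      (ε = 1 ∨ ε = -1) ∧ b ⟨fun _ => 1, isIrrCharacter_one⟩ = 1 ∧
      (⟨fun _ => 1, isIrrCharacter_one⟩ : IrrCharacter G) ∉ S ∧ 2 ≤ S.card ∧
      p - 1 ≤ e * S.card ∧ (∀ χ ∈ S, b χ = b₀ ∧ charDegree (χ : G → ℂ) = f₀) ∧
      ∑ ψ, b ψ ^ 2 = (e : ℤ) + 2 * ε * b₀ ∧
      ∑ ψ, b ψ * (charDegree (ψ : G → ℂ) : ℤ) = ε * f₀ ∧
      (∀ ψ, ψ ∉ S → (p : ℤ) ∣ (charDegree (ψ : G → ℂ) : ℤ) - b ψ) ∧
      (p : ℤ) ∣ (f₀ : ℤ) - b₀ - ε * e := by
  classical
  have := Fintype.ofFinite P
  have := Fintype.ofFinite (IrrCharacter P)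
  have hcardP : (Nat.card P : ℂ) ≠ 0 := by rw [hP]; exact_mod_cast hp.ne_zero
  obtain ⟨one, hone⟩ : ∃ one : P → ℂ, one = fun _ => 1 := ⟨_, rfl⟩
  have h1P : IsIrrCharacter P one := by rw [hone]; exact isIrrCharacter_one
  obtain ⟨triv, htriv⟩ : ∃ triv : IrrCharacter P, triv = ⟨one, h1P⟩ := ⟨_, rfl⟩
  -- the number of irreducible characters of `P`
  have hcardIrr : Fintype.card (IrrCharacter P) = p := by
    have h := sum_irr_degree_sq (G := P)
    have h2 : ∀ χ : IrrCharacter P, (χ : P → ℂ) 1 ^ 2 = 1 := fun χ => by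
      rw [irr_apply_one_of_prime_card hp hP χ.2, one_pow]
    rw [Finset.sum_congr rfl (fun χ _ => h2 χ), Finset.sum_const, Finset.card_univ, hP] at h
    simpa using h
  obtain ⟨s, hs⟩ : ∃ s : Finset (IrrCharacter P), s = Finset.univ.erase triv := ⟨_, rfl⟩
  have hscard : s.card = p - 1 := by
    rw [hs, Finset.card_erase_of_mem (Finset.mem_univ _), Finset.card_univ, hcardIrr]
  have hsmem : ∀ b : IrrCharacter P, b ∈ s ↔ (b : P → ℂ) ≠ one := by
    intro b
    rw [hs, Finset.mem_erase, htriv]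
    simp [Subtype.ext_iff]
  -- fibres of induction
  have hfibeq : ∀ b ∈ s, (s.filter (fun b' : IrrCharacter P =>
      indFun P (b' : P → ℂ) = indFun P (b : P → ℂ))).card = e := by
    intro b hb
    have hb1 := (hsmem b).mp hb
    have h1 : ∑ b' ∈ s.filter (fun b' : IrrCharacter P =>
        indFun P (b' : P → ℂ) = indFun P (b : P → ℂ)), tiCount P (b' : P → ℂ) (b : P → ℂ) =
        (s.filter (fun b' : IrrCharacter P =>
          indFun P (b' : P → ℂ) = indFun P (b : P → ℂ))).card * p := by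
      apply Finset.sum_const_nat
      intro b' hb'
      rw [Finset.mem_filter] at hb'
      rw [tiCount_of_indFun_eq hp hP hC b'.2 b.2 (hone ▸ (hsmem b').mp hb'.1) (hone ▸ hb1) hb'.2,
        hP]
    have h2 : ∑ b' ∈ s.filter (fun b' : IrrCharacter P =>
        indFun P (b' : P → ℂ) = indFun P (b : P → ℂ)), tiCount P (b' : P → ℂ) (b : P → ℂ) =
        ∑ b' : IrrCharacter P, tiCount P (b' : P → ℂ) (b : P → ℂ) := by
      apply Finset.sum_subset (Finset.subset_univ _)
      intro b' _ hb'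
      by_cases hb's : b' ∈ s
      · apply tiCount_eq_zero_of_indFun_ne
        intro h
        exact hb' (Finset.mem_filter.mpr ⟨hb's, h⟩)
      · have hb'1 : (b' : P → ℂ) = one := by
          by_contra h
          exact hb's ((hsmem b').mpr h)
        rw [hb'1, hone]
        exact tiCount_one_right (hone ▸ hb1)
    rw [h1, sum_tiCount hp hP b.2, hN, mul_comm] at h2
    exact Nat.eq_of_mul_eq_mul_left hp.pos h2
  have hfib : ∀ b ∈ s, (s.filter (fun b' : IrrCharacter P =>
      indFun P (b' : P → ℂ) = indFun P (b : P → ℂ))).card ≤ e := fun b hb => (hfibeq b hb).le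
  obtain ⟨n, r, hrs, hrinj, hrsurj, hcard⟩ :=
    exists_fin_reps s (fun b : IrrCharacter P => indFun P (b : P → ℂ)) e hfib
  rw [hscard] at hcard
  have hn : 2 ≤ n := by
    by_contra hcon
    have h1 : e * n ≤ e * 1 := Nat.mul_le_mul_left e (by omega)
    omega
  obtain ⟨i₀, hi₀⟩ : ∃ i₀ : Fin n, i₀ = ⟨0, by omega⟩ := ⟨_, rfl⟩
  obtain ⟨ν, hνdef⟩ : ∃ ν : Fin n → (P → ℂ), ν = fun i => (r i : P → ℂ) := ⟨_, rfl⟩
  have hνirr : ∀ i, IsIrrCharacter P (ν i) := fun i => by rw [hνdef]; exact (r i).2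
  have hν1 : ∀ i, ν i ≠ one := fun i => by rw [hνdef]; exact (hsmem (r i)).mp (hrs i)
  have hνinj : ∀ i j, indFun P (ν i) = indFun P (ν j) → i = j := fun i j h => by
    rw [hνdef] at h; exact hrinj i j h
  have hνsurj : ∀ b : P → ℂ, IsIrrCharacter P b → b ≠ one → ∃ i, indFun P b = indFun P (ν i) := by
    intro b hb hb1
    obtain ⟨i, hi⟩ := hrsurj ⟨b, hb⟩ ((hsmem _).mpr hb1)
    exact ⟨i, by rw [hνdef]; exact hi⟩
  -- values of the kernel
  have hK0 : ∀ i j, i ≠ j → tiK P (ν i) (ν j) = 0 := by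
    intro i j hij
    rw [tiK_eq_tiCount hp hP (hνirr i) (hνirr j),
      tiCount_eq_zero_of_indFun_ne (fun h => hij (hνinj i j h))]
    simp
  have hK1 : ∀ i, tiK P (ν i) (ν i) = 1 := by
    intro i
    rw [tiK_eq_tiCount hp hP (hνirr i) (hνirr i),
      tiCount_self hp hP hC (hνirr i) (hone ▸ hν1 i)]
    exact inv_mul_cancel₀ hcardP
  have hK10 : ∀ i, tiK P (ν i) one = 0 := by
    intro i
    rw [tiK_eq_tiCount hp hP (hνirr i) h1P]
    subst hone
    rw [tiCount_one_left (hν1 i)]
    simp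
  have hK01 : ∀ i, tiK P one (ν i) = 0 := by
    intro i
    rw [tiK_eq_tiCount hp hP h1P (hνirr i)]
    subst hone
    rw [tiCount_one_right (hν1 i)]
    simp
  have hK11 : tiK P one one = (e : ℂ) := by
    rw [tiK_eq_tiCount hp hP h1P h1P]
    subst hone
    rw [tiCount_one_one, hN]
    rw [hP] at hcardP ⊢
    push_cast
    field_simp
  have hdeg1 : ∀ i, ν i 1 = 1 := fun i => irr_apply_one_of_prime_card hp hP (hνirr i)
  -- the isometry lemma
  obtain ⟨ε, hε, μ, hμirr, hμinj, hτ⟩ := Cfsg.Agent.S0198.result n i₀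
    (fun i => indFun P (ν i) - indFun P (ν i₀)) (sub_self _)
    (fun i => ⟨_, _, isCharacter_indFun P (isCharacter_of_isIrrCharacter (hνirr i)),
      isCharacter_indFun P (isCharacter_of_isIrrCharacter (hνirr i₀)), rfl⟩)
    (fun i => by rw [Pi.sub_apply, indFun_one, indFun_one, hdeg1, hdeg1, sub_self])
    (fun i j hi hj => by
      rw [classInner_indFun_sub_indFun_sub hp hP (hνirr i) (hνirr i₀), hK1 i₀, hK0 i i₀ hi,
        hK0 i₀ j (Ne.symm hj)]
      by_cases hij : i = j
      · rw [if_pos hij, hij, hK1]; norm_num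
      · rw [if_neg hij, hK0 i j hij]; norm_num)
  obtain ⟨εz, hεz, rfl⟩ : ∃ εz : ℤ, (εz = 1 ∨ εz = -1) ∧ ε = (εz : ℂ) := by
    rcases hε with h | h
    · exact ⟨1, Or.inl rfl, by rw [h]; simp⟩
    · exact ⟨-1, Or.inr rfl, by rw [h]; simp⟩
  have hεsq : εz ^ 2 = 1 := by rcases hεz with h | h <;> rw [h] <;> norm_num
  obtain ⟨Γ, hΓdef⟩ : ∃ Γ : G → ℂ,
      Γ = indFun P (ν i₀) - indFun P one - (εz : ℂ) • μ i₀ := ⟨_, rfl⟩
  have hΓgen : IsGeneralizedCharacter G Γ := by
    rw [hΓdef]
    exact isGeneralizedCharacter_sub (isGeneralizedCharacter_sub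
      (isGeneralizedCharacter_of_isCharacter
        (isCharacter_indFun P (isCharacter_of_isIrrCharacter (hνirr i₀))))
      (isGeneralizedCharacter_of_isCharacter
        (isCharacter_indFun P (isCharacter_of_isIrrCharacter h1P))))
      (isGeneralizedCharacter_intCast_smul εz (isGeneralizedCharacter_of_isIrrCharacter (hμirr i₀)))
  have hΔ : ∀ i, indFun P (ν i) - indFun P one = (εz : ℂ) • μ i + Γ := by
    intro i
    have h := hτ i
    rw [hΓdef]
    funext x
    have hx := congrFun h x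
    simp only [Pi.sub_apply, Pi.smul_apply, Pi.add_apply, smul_eq_mul] at hx ⊢
    linear_combination hx
  obtain ⟨c, hΓsum, hc, hnorm⟩ := exists_int_coeff hΓgen
  obtain ⟨M, hM⟩ : ∃ M : Fin n → IrrCharacter G, M = fun i => ⟨μ i, hμirr i⟩ := ⟨_, rfl⟩
  have hMval : ∀ i, (M i : G → ℂ) = μ i := fun i => by rw [hM]
  have hMinj : Function.Injective M := fun i j h => hμinj (by rw [← hMval i, ← hMval j, h])
  -- the norm of `Δ_i`
  have hΔnorm : ∀ i, classInner (indFun P (ν i) - indFun P one)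
      (indFun P (ν i) - indFun P one) = (e : ℂ) + 1 := by
    intro i
    rw [classInner_indFun_sub_indFun_sub hp hP (hνirr i) h1P, hK1, hK10, hK01, hK11]
    ring
  have hcμ : ∀ i, classInner (μ i) Γ = (c (M i) : ℂ) := by
    intro i
    rw [← classInner_conj_symm, ← hMval i, hc (M i)]
    simp
  have hb : ∀ i, (e : ℤ) = 2 * εz * c (M i) + ∑ ψ, c ψ ^ 2 := by
    intro i
    have h := hΔnorm i
    rw [hΔ i, classInner_add_left, classInner_add_right, classInner_add_right,
      classInner_smul_left, classInner_smul_left, classInner_smul_right, classInner_smul_right,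
      classInner_irr_self (hμirr i), hcμ i, ← hMval i, hc (M i), hnorm] at h
    have h' : ((εz * (εz * 1 + c (M i)) + (εz * c (M i) + ∑ ψ, c ψ ^ 2) : ℤ) : ℂ) =
        ((e + 1 : ℤ) : ℂ) := by
      simp only [map_intCast] at h
      push_cast at h ⊢
      linear_combination h
    have h'' := Int.cast_injective h'
    linear_combination (-1 : ℤ) * h'' + hεsq
  -- the trivial character
  obtain ⟨oneG, honeG⟩ : ∃ oneG : IrrCharacter G, oneG = ⟨fun _ => 1, isIrrCharacter_one⟩ :=
    ⟨_, rfl⟩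
  have honeGval : (oneG : G → ℂ) = fun _ => 1 := by rw [honeG]
  have hD : ∀ i, classInner (indFun P (ν i) - indFun P one) (oneG : G → ℂ) = -1 := by
    intro i
    have hcl : IsClassFunction G (oneG : G → ℂ) := isClassFunction_of_isIrrCharacter oneG.2
    rw [classInner_sub_left, frobenius_reciprocity P _ hcl, frobenius_reciprocity P _ hcl]
    have hres : (fun h : P => (oneG : G → ℂ) h) = one := by rw [honeGval, hone]
    rw [hres, classInner_irr_ne (hνirr i) h1P (hν1 i), classInner_irr_self h1P]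
    norm_num
  have hc1 : ∀ i, (-1 : ℤ) = εz * (if M i = oneG then 1 else 0) + c oneG := by
    intro i
    have h := hD i
    rw [hΔ i, classInner_add_left, classInner_smul_left, hc oneG, ← hMval i,
      classInner_irr (M i).2 oneG.2] at h
    have hiff : ((M i : G → ℂ) = (oneG : G → ℂ)) ↔ M i = oneG := Subtype.ext_iff.symm
    by_cases hMi : M i = oneG
    · rw [if_pos hMi]
      rw [if_pos (hiff.mpr hMi)] at h
      exact_mod_cast h.symm
    · rw [if_neg hMi]
      rw [if_neg (fun hh => hMi (hiff.mp hh))] at h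
      exact_mod_cast h.symm
  have hex : ∃ i, M i ≠ oneG := by
    by_contra hcon
    push Not at hcon
    have h01 : (⟨0, by omega⟩ : Fin n) = ⟨1, by omega⟩ :=
      hMinj ((hcon _).trans (hcon _).symm)
    simp [Fin.ext_iff] at h01
  have hcone : c oneG = -1 := by
    obtain ⟨i, hi⟩ := hex
    have h := hc1 i
    rw [if_neg hi] at h
    omega
  have hMne : ∀ i, M i ≠ oneG := by
    intro i hi
    have h := hc1 i
    rw [if_pos hi, hcone] at h
    rcases hεz with h' | h' <;> rw [h'] at h <;> omega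
  -- the exceptional characters have a common coefficient in `Γ`
  have hconst : ∀ i, c (M i) = c (M i₀) := by
    intro i
    have h1 := hb i
    have h2 := hb i₀
    rcases hεz with h' | h' <;> rw [h'] at h1 h2 <;> omega
  have hsumsq : ∑ ψ, c ψ ^ 2 = (e : ℤ) - 2 * εz * c (M i₀) := by
    have h2 := hb i₀
    linarith
  -- the value of `Γ` at the identity
  have hΓ1 : Γ 1 = ∑ ψ : IrrCharacter G, (c ψ : ℂ) * (ψ : G → ℂ) 1 := by
    have h := congrFun hΓsum 1
    rw [Finset.sum_apply] at h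
    exact h
  have hdegeq : ∀ i, ∑ ψ : IrrCharacter G, ((-c ψ : ℤ) : ℂ) * (ψ : G → ℂ) 1 =
      (εz : ℂ) * (M i : G → ℂ) 1 := by
    intro i
    have h := congrFun (hΔ i) 1
    rw [Pi.sub_apply, indFun_one, indFun_one, hdeg1, hone, sub_self, Pi.add_apply, Pi.smul_apply,
      smul_eq_mul, hΓ1, ← hMval i] at h
    have h2 : ∑ ψ : IrrCharacter G, ((-c ψ : ℤ) : ℂ) * (ψ : G → ℂ) 1 =
        -∑ ψ : IrrCharacter G, (c ψ : ℂ) * (ψ : G → ℂ) 1 := by
      rw [← Finset.sum_neg_distrib]
      apply Finset.sum_congr rfl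
      intro ψ _
      push_cast
      ring
    rw [h2]
    linear_combination h
  have hdegc : ∀ ψ : IrrCharacter G, (ψ : G → ℂ) 1 = (charDegree (ψ : G → ℂ) : ℂ) :=
    fun ψ => Cfsg.Agent.Lib.helper82.irr_one_eq ψ
  have hεne : (εz : ℂ) ≠ 0 := by
    rcases hεz with h | h <;> rw [h] <;> norm_num
  have hdegM : ∀ i, charDegree (M i : G → ℂ) = charDegree (M i₀ : G → ℂ) := by
    intro i
    have h1 := hdegeq i
    rw [hdegeq i₀, hdegc, hdegc] at h1
    have h2 := mul_left_cancel₀ hεne h1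
    exact_mod_cast h2.symm
  -- multiplicities and congruences
  have hmult : ∀ ψ : IrrCharacter G, ∃ m1 : ℤ, ∀ cnt : ℕ,
      (s.filter (fun b : IrrCharacter P =>
        ∃ i, indFun P (b : P → ℂ) = indFun P (ν i) ∧ M i = ψ)).card = cnt →
      (ψ : G → ℂ) 1 = ((-c ψ + p * (c ψ + m1) + εz * cnt : ℤ) : ℂ) := by
    intro ψ
    have hψcl : IsClassFunction G (ψ : G → ℂ) := isClassFunction_of_isIrrCharacter ψ.2
    obtain ⟨m1, hm1⟩ := exists_int_classInner
      (isGeneralizedCharacter_of_isCharacter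
        (isCharacter_indFun P (isCharacter_of_isIrrCharacter h1P)))
      (isGeneralizedCharacter_of_isIrrCharacter ψ.2)
    refine ⟨m1, ?_⟩
    intro cnt hcnt
    have hval : ∀ b : IrrCharacter P, b ∈ s →
        classInner (indFun P (b : P → ℂ)) (ψ : G → ℂ) = ((c ψ + m1 : ℤ) : ℂ) +
          (if ∃ i, indFun P (b : P → ℂ) = indFun P (ν i) ∧ M i = ψ then (εz : ℂ) else 0) := by
      intro b hb
      obtain ⟨i, hi⟩ := hνsurj b b.2 ((hsmem b).mp hb)
      have h1 : indFun P (ν i) = (εz : ℂ) • μ i + Γ + indFun P one := by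
        rw [← hΔ i]; ring
      have hiff : (∃ i', indFun P (b : P → ℂ) = indFun P (ν i') ∧ M i' = ψ) ↔ M i = ψ := by
        constructor
        · rintro ⟨i', h1', h2'⟩
          have : i = i' := hνinj i i' (by rw [← hi, h1'])
          rw [this]; exact h2'
        · intro h; exact ⟨i, hi, h⟩
      have hiff2 : (μ i = (ψ : G → ℂ)) ↔ M i = ψ := by
        rw [← hMval i]; exact Subtype.ext_iff.symm
      by_cases hMi : M i = ψ
      · rw [if_pos (hiff.mpr hMi), hi, h1, classInner_add_left, classInner_add_left,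
          classInner_smul_left, classInner_irr (hμirr i) ψ.2, if_pos (hiff2.mpr hMi), hc ψ, hm1]
        push_cast
        ring
      · rw [if_neg (fun h => hMi (hiff.mp h)), hi, h1, classInner_add_left, classInner_add_left,
          classInner_smul_left, classInner_irr (hμirr i) ψ.2,
          if_neg (fun h => hMi (hiff2.mp h)), hc ψ, hm1]
        push_cast
        ring
    have hres := classFunction_eq_sum_irr (isClassFunction_restrict P hψcl)
    have hres1 := congrFun hres 1
    rw [Finset.sum_apply] at hres1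
    have hterm : ∀ b : IrrCharacter P,
        (classInner (fun h : P => (ψ : G → ℂ) h) (b : P → ℂ) • (b : P → ℂ)) 1 =
          conj (classInner (indFun P (b : P → ℂ)) (ψ : G → ℂ)) := by
      intro b
      rw [Pi.smul_apply, irr_apply_one_of_prime_card hp hP b.2, smul_eq_mul, mul_one,
        frobenius_reciprocity P _ hψcl, classInner_conj_symm]
    have hsumS : ∑ b ∈ s, conj (classInner (indFun P (b : P → ℂ)) (ψ : G → ℂ)) =
        ((p - 1 : ℕ) : ℂ) * ((c ψ + m1 : ℤ) : ℂ) + (cnt : ℂ) * (εz : ℂ) := by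
      rw [Finset.sum_congr rfl (fun b hb => by rw [hval b hb])]
      have hconj : ∀ b : IrrCharacter P, conj (((c ψ + m1 : ℤ) : ℂ) +
          (if ∃ i, indFun P (b : P → ℂ) = indFun P (ν i) ∧ M i = ψ then (εz : ℂ) else 0)) =
          ((c ψ + m1 : ℤ) : ℂ) +
          (if ∃ i, indFun P (b : P → ℂ) = indFun P (ν i) ∧ M i = ψ then (εz : ℂ) else 0) := by
        intro b
        split_ifs <;> simp
      rw [Finset.sum_congr rfl (fun b _ => hconj b), Finset.sum_add_distrib, Finset.sum_const,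
        hscard, Finset.sum_ite, Finset.sum_const, Finset.sum_const_zero, add_zero, hcnt]
      simp [nsmul_eq_mul]
      ring
    rw [Finset.sum_congr rfl (fun b _ => hterm b),
      ← Finset.add_sum_erase Finset.univ _ (Finset.mem_univ triv), ← hs, hsumS, htriv] at hres1
    simp only [] at hres1
    rw [hm1] at hres1
    have hp1 : ((p - 1 : ℕ) : ℂ) = (p : ℂ) - 1 := by
      rw [Nat.cast_sub hp.one_le]; simp
    have hres2 : (ψ : G → ℂ) 1 = (m1 : ℂ) + ((p : ℂ) - 1) * ((c ψ : ℂ) + (m1 : ℂ)) +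
        (cnt : ℂ) * (εz : ℂ) := by
      have : (ψ : G → ℂ) 1 = (ψ : G → ℂ) ((1 : P) : G) := by simp
      rw [this, hres1, hp1]
      simp
      ring
    rw [hres2]
    push_cast
    ring
  have hMnotin : ∀ ψ : IrrCharacter G, ψ ∉ Finset.univ.image M → ∀ i, M i ≠ ψ := by
    intro ψ hψ i h
    exact hψ (Finset.mem_image.mpr ⟨i, Finset.mem_univ _, h⟩)
  refine ⟨εz, fun ψ => -c ψ, Finset.univ.image M, -c (M i₀), charDegree (M i₀ : G → ℂ), hεz,
    ?_, ?_, ?_, ?_, ?_, ?_, ?_, ?_, ?_⟩
  · show -c ⟨fun _ => 1, isIrrCharacter_one⟩ = 1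
    rw [← honeG, hcone]; norm_num
  · rw [← honeG]
    intro h
    obtain ⟨i, -, hi⟩ := Finset.mem_image.mp h
    exact hMne i hi
  · rw [Finset.card_image_of_injective _ hMinj, Finset.card_univ, Fintype.card_fin]
    exact hn
  · rw [Finset.card_image_of_injective _ hMinj, Finset.card_univ, Fintype.card_fin]
    exact hcard
  · intro χ hχ
    obtain ⟨i, -, rfl⟩ := Finset.mem_image.mp hχ
    exact ⟨by simp [hconst i], hdegM i⟩
  · have h1 : ∑ ψ : IrrCharacter G, (-c ψ) ^ 2 = ∑ ψ, c ψ ^ 2 :=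
      Finset.sum_congr rfl (fun ψ _ => by ring)
    rw [h1, hsumsq]
    ring
  · have h1 := hdegeq i₀
    rw [hdegc] at h1
    have h2 : ((∑ ψ : IrrCharacter G, (-c ψ) * (charDegree (ψ : G → ℂ) : ℤ) : ℤ) : ℂ) =
        ((εz * (charDegree (M i₀ : G → ℂ) : ℤ) : ℤ) : ℂ) := by
      push_cast
      rw [← h1]
      exact Finset.sum_congr rfl (fun ψ _ => by rw [hdegc]; push_cast; ring)
    exact Int.cast_injective h2
  · intro ψ hψ
    obtain ⟨m1, hm1⟩ := hmult ψ
    have hcnt : (s.filter (fun b : IrrCharacter P =>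
        ∃ i, indFun P (b : P → ℂ) = indFun P (ν i) ∧ M i = ψ)).card = 0 := by
      rw [Finset.card_eq_zero, Finset.filter_eq_empty_iff]
      rintro b - ⟨i, -, hi⟩
      exact hMnotin ψ hψ i hi
    have h1 := hm1 0 hcnt
    rw [hdegc] at h1
    have h2 : (charDegree (ψ : G → ℂ) : ℤ) = -c ψ + p * (c ψ + m1) + εz * (0 : ℕ) := by
      exact_mod_cast h1
    exact ⟨c ψ + m1, by rw [h2]; push_cast; ring⟩
  · obtain ⟨m1, hm1⟩ := hmult (M i₀)
    have hcnt : (s.filter (fun b : IrrCharacter P =>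
        ∃ i, indFun P (b : P → ℂ) = indFun P (ν i) ∧ M i = M i₀)).card = e := by
      rw [← hfibeq (r i₀) (hrs i₀)]
      congr 1
      apply Finset.filter_congr
      intro b _
      constructor
      · rintro ⟨i, h1, h2⟩
        rw [h1, hMinj h2, hνdef]
      · intro h
        exact ⟨i₀, by rw [h, hνdef], rfl⟩
    have h1 := hm1 e hcnt
    rw [hdegc] at h1
    have h2 : (charDegree (M i₀ : G → ℂ) : ℤ) = -c (M i₀) + p * (c (M i₀) + m1) + εz * (e : ℕ) := by
      exact_mod_cast h1
    exact ⟨c (M i₀) + m1, by rw [h2]; push_cast; ring⟩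

end ExcGen

end Cfsg.Agent.Lib.helper21
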