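import Mathlib

set_option autoImplicit false

namespace Cfsg.Agent.Lib.helper21

open Subgroup

/-- The size of a conjugacy class times the order of the centralizer is the group order. -/
theorem card_isConj_mul_card_centralizer {G : Type*} [Group G] [Finite G] (w : G) :
    Nat.card {g : G // IsConj w g} * Nat.card (centralizer ({w} : Set G)) = Nat.card G := by
  have h1 : MulAction.orbit (ConjAct G) w = {g : G | IsConj w g} := by
    ext g
    rw [ConjAct.mem_orbit_conjAct, isConj_comm]
    rfl
  have h2 := MulAction.index_stabilizer (G := ConjAct G) w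
  have h3 := Subgroup.nat_card_centralizer_nat_card_stabilizer w
  have h4 := (MulAction.stabilizer (ConjAct G) w).index_mul_card
  rw [h2, ← h3, h1] at h4
  exact h4

/-- The number of `g` with `g⁻¹ x g ∈ H` is the number of fixed cosets times `|H|`. -/
theorem card_conj_mem_eq_fixedBy {G : Type*} [Group G] [Finite G] (H : Subgroup G) (x : G) :
    Nat.card {g : G // g⁻¹ * x * g ∈ H} =
      Nat.card (MulAction.fixedBy (G ⧸ H) x) * Nat.card H := by
  have h1 : {g : G | g⁻¹ * x * g ∈ H} =
      (QuotientGroup.mk : G → G ⧸ H) ⁻¹' (MulAction.fixedBy (G ⧸ H) x) := by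
    ext g
    simp only [Set.mem_ofPred_eq, Set.mem_preimage, MulAction.mem_fixedBy]
    rw [MulAction.Quotient.smul_mk, QuotientGroup.eq]
    constructor
    · intro h
      have := H.inv_mem h
      simpa [mul_assoc] using this
    · intro h
      have := H.inv_mem h
      simpa [mul_assoc] using this
  have h2 : Nat.card {g : G // g⁻¹ * x * g ∈ H} = Nat.card ({g : G | g⁻¹ * x * g ∈ H} : Set G) := rfl
  rw [h2, h1, Nat.card_congr (QuotientGroup.preimageMkEquivSubgroupProdSet H _), Nat.card_prod,
    mul_comm]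

/-- The number of `g` with `g⁻¹ x g ∈ H` is the number of conjugates of `x` in `H` times
`|C(x)|`. -/
theorem card_conj_mem_eq_centralizer {G : Type*} [Group G] [Finite G] (H : Subgroup G) (x : G) :
    Nat.card {g : G // g⁻¹ * x * g ∈ H} =
      Nat.card {g : G // IsConj x g ∧ g ∈ H} * Nat.card (centralizer ({x} : Set G)) := by
  classical
  let f : {g : G // g⁻¹ * x * g ∈ H} → {g : G // IsConj x g ∧ g ∈ H} :=
    fun g => ⟨g.1⁻¹ * x * g.1, isConj_iff.mpr ⟨g.1⁻¹, by simp⟩, g.2⟩
  have : Fintype {g : G // IsConj x g ∧ g ∈ H} := Fintype.ofFinite _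
  rw [← Nat.card_congr (Equiv.sigmaFiberEquiv f), Nat.card_sigma]
  have hfib : ∀ y : {g : G // IsConj x g ∧ g ∈ H},
      Nat.card {g : {g : G // g⁻¹ * x * g ∈ H} // f g = y} =
        Nat.card (centralizer ({x} : Set G)) := by
    intro y
    obtain ⟨c, hc⟩ := isConj_iff.mp y.2.1
    apply Nat.card_congr
    refine
      { toFun := fun g => ⟨g.1.1 * c, ?_⟩
        invFun := fun z => ⟨⟨z.1 * c⁻¹, ?_⟩, ?_⟩
        left_inv := ?_
        right_inv := ?_ }
    · rw [mem_centralizer_singleton_iff]
      have h1 : g.1.1⁻¹ * x * g.1.1 = c * x * c⁻¹ := by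
        have := congrArg Subtype.val g.2
        rw [← hc] at this
        exact this
      have h2 : x * g.1.1 = g.1.1 * (c * x * c⁻¹) := by
        rw [← h1]; group
      calc g.1.1 * c * x = g.1.1 * (c * x * c⁻¹) * c := by group
        _ = x * g.1.1 * c := by rw [← h2]
        _ = x * (g.1.1 * c) := by group
    · have hz := mem_centralizer_singleton_iff.mp z.2
      have h1 : (z.1 * c⁻¹)⁻¹ * x * (z.1 * c⁻¹) = c * x * c⁻¹ := by
        calc (z.1 * c⁻¹)⁻¹ * x * (z.1 * c⁻¹) = c * z.1⁻¹ * (x * z.1) * c⁻¹ := by group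
          _ = c * z.1⁻¹ * (z.1 * x) * c⁻¹ := by rw [hz]
          _ = c * x * c⁻¹ := by group
      rw [h1, hc]
      exact y.2.2
    · have hz := mem_centralizer_singleton_iff.mp z.2
      have h1 : (z.1 * c⁻¹)⁻¹ * x * (z.1 * c⁻¹) = c * x * c⁻¹ := by
        calc (z.1 * c⁻¹)⁻¹ * x * (z.1 * c⁻¹) = c * z.1⁻¹ * (x * z.1) * c⁻¹ := by group
          _ = c * z.1⁻¹ * (z.1 * x) * c⁻¹ := by rw [hz]
          _ = c * x * c⁻¹ := by group
      apply Subtype.ext
      show (z.1 * c⁻¹)⁻¹ * x * (z.1 * c⁻¹) = y.1
      rw [h1, hc]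
    · intro g
      apply Subtype.ext
      apply Subtype.ext
      simp
    · intro z
      apply Subtype.ext
      simp
  simp only [hfib, Finset.sum_const, Finset.card_univ, smul_eq_mul, Nat.card_eq_fintype_card]

/-- Fixed-point formula for coset actions: `|Fix_{G/H}(x)| * |x^G| = [G:H] * |x^G ∩ H|`. -/
theorem card_fixedBy_mul_card_isConj {G : Type*} [Group G] [Finite G] (H : Subgroup G) (x : G) :
    Nat.card (MulAction.fixedBy (G ⧸ H) x) * Nat.card {g : G // IsConj x g} =
      H.index * Nat.card {g : G // IsConj x g ∧ g ∈ H} := by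
  have hA := card_conj_mem_eq_fixedBy H x
  have hB := card_conj_mem_eq_centralizer H x
  have hC := card_isConj_mul_card_centralizer x
  have hD := H.index_mul_card
  have hpos : 0 < Nat.card (centralizer ({x} : Set G)) * Nat.card H :=
    Nat.mul_pos Nat.card_pos Nat.card_pos
  apply Nat.eq_of_mul_eq_mul_right hpos
  calc Nat.card (MulAction.fixedBy (G ⧸ H) x) * Nat.card {g : G // IsConj x g} *
        (Nat.card (centralizer ({x} : Set G)) * Nat.card H)
      = (Nat.card (MulAction.fixedBy (G ⧸ H) x) * Nat.card H) *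
        (Nat.card {g : G // IsConj x g} * Nat.card (centralizer ({x} : Set G))) := by ring
    _ = (Nat.card {g : G // IsConj x g ∧ g ∈ H} * Nat.card (centralizer ({x} : Set G))) *
        (H.index * Nat.card H) := by rw [← hA, hB, hC, hD]
    _ = H.index * Nat.card {g : G // IsConj x g ∧ g ∈ H} *
        (Nat.card (centralizer ({x} : Set G)) * Nat.card H) := by ring

end Cfsg.Agent.Lib.helper21
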