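import Mathlib
import Cfsg.Prelude.Def_Characters
import Cfsg.Prelude.Def_Blocks
import Cfsg.Agent.Lib.helper4.CharDecomp
import Cfsg.Agent.Lib.helper82.CharQuot

/-!
# Congruences of algebraic integers modulo "the radical of `p`"

`frobIdeal p a` is the ideal of algebraic integers `t` with `t ^ (p ^ a) ∈ p 𝔸`, and
`FrobCongr p a z w` says that `z - w` lies in it.  Character values at `u * s` and `s` are
congruent when `u` is a `p`-element commuting with `s`.
-/

set_option autoImplicit false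

namespace Cfsg.Agent.Lib.helper21

open Cfsg

/-- A rational algebraic integer is an integer, in the form we use. -/
theorem natDvd_of_isIntegral_div {a b : ℕ} (hb : b ≠ 0) (h : IsIntegral ℤ ((a : ℂ) / (b : ℂ))) :
    b ∣ a := by
  have h1 : ((a : ℂ) / (b : ℂ)) = algebraMap ℚ ℂ ((a : ℚ) / (b : ℚ)) := by
    simp
  rw [h1, isIntegral_algebraMap_iff (algebraMap ℚ ℂ).injective] at h
  obtain ⟨y, hy⟩ := IsIntegrallyClosed.isIntegral_iff.mp h
  have hb' : (b : ℚ) ≠ 0 := by exact_mod_cast hb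
  have h2 : (a : ℚ) = (y : ℚ) * (b : ℚ) := by
    have : (algebraMap ℤ ℚ y) = (y : ℚ) := rfl
    rw [this] at hy
    rw [hy]
    field_simp
  have h3 : (a : ℤ) = y * (b : ℤ) := by exact_mod_cast h2
  have h4 : (b : ℤ) ∣ (a : ℤ) := ⟨y, by rw [h3]; ring⟩
  exact_mod_cast h4

/-- The ideal of algebraic integers `t` with `t ^ (p ^ a) ∈ p 𝔸`. -/
def frobIdeal (p a : ℕ) [hp : Fact p.Prime] : Ideal AlgInt where
  carrier := {t | ∃ γ : AlgInt, t ^ (p ^ a) = (p : AlgInt) * γ}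
  add_mem' := by
    rintro s t ⟨γ, hγ⟩ ⟨δ, hδ⟩
    obtain ⟨r, hr⟩ := exists_add_pow_prime_pow_eq hp.out s t a
    exact ⟨γ + δ + s * t * r, by rw [hr, hγ, hδ]; ring⟩
  zero_mem' := ⟨0, by rw [zero_pow (pow_pos hp.out.pos a).ne', mul_zero]⟩
  smul_mem' := by
    rintro c t ⟨γ, hγ⟩
    exact ⟨c ^ (p ^ a) * γ, by rw [smul_eq_mul, mul_pow, hγ]; ring⟩

theorem mem_frobIdeal {p a : ℕ} [Fact p.Prime] {t : AlgInt} :
    t ∈ frobIdeal p a ↔ ∃ γ : AlgInt, t ^ (p ^ a) = (p : AlgInt) * γ := Iff.rfl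

/-- Congruence of complex numbers modulo the Frobenius ideal. -/
def FrobCongr (p a : ℕ) [Fact p.Prime] (z w : ℂ) : Prop :=
  ∃ t ∈ frobIdeal p a, (t : ℂ) = z - w

namespace FrobCongr

variable {p a : ℕ} [Fact p.Prime]

theorem refl (z : ℂ) : FrobCongr p a z z := ⟨0, zero_mem _, by simp⟩

theorem symm {z w : ℂ} (h : FrobCongr p a z w) : FrobCongr p a w z := by
  obtain ⟨t, ht, h⟩ := h
  exact ⟨-t, neg_mem ht, by push_cast; rw [h]; ring⟩

theorem trans {z w v : ℂ} (h : FrobCongr p a z w) (h' : FrobCongr p a w v) :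
    FrobCongr p a z v := by
  obtain ⟨t, ht, h⟩ := h
  obtain ⟨t', ht', h'⟩ := h'
  exact ⟨t + t', add_mem ht ht', by push_cast; rw [h, h']; ring⟩

theorem add {z w z' w' : ℂ} (h : FrobCongr p a z w) (h' : FrobCongr p a z' w') :
    FrobCongr p a (z + z') (w + w') := by
  obtain ⟨t, ht, h⟩ := h
  obtain ⟨t', ht', h'⟩ := h'
  exact ⟨t + t', add_mem ht ht', by push_cast; rw [h, h']; ring⟩

theorem mul_left {z w : ℂ} (c : ℂ) (hc : IsIntegral ℤ c) (h : FrobCongr p a z w) :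
    FrobCongr p a (c * z) (c * w) := by
  obtain ⟨t, ht, h⟩ := h
  exact ⟨(⟨c, hc⟩ : AlgInt) * t, Ideal.mul_mem_left _ _ ht, by push_cast; rw [h]; ring⟩

theorem sum {ι : Type*} (s : Finset ι) (f g : ι → ℂ)
    (h : ∀ i ∈ s, FrobCongr p a (f i) (g i)) :
    FrobCongr p a (∑ i ∈ s, f i) (∑ i ∈ s, g i) := by
  classical
  induction s using Finset.induction_on with
  | empty => simpa using FrobCongr.refl (p := p) (a := a) 0
  | insert i s hi ih =>
    rw [Finset.sum_insert hi, Finset.sum_insert hi]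
    exact (h i (Finset.mem_insert_self i s)).add
      (ih fun j hj => h j (Finset.mem_insert_of_mem hj))

end FrobCongr

theorem frobCongr_iff_pow {p a : ℕ} [hp : Fact p.Prime] {z w : ℂ} (hz : IsIntegral ℤ z)
    (hw : IsIntegral ℤ w) :
    FrobCongr p a z w ↔ ∃ γ : AlgInt, z ^ (p ^ a) - w ^ (p ^ a) = (p : ℂ) * (γ : ℂ) := by
  obtain ⟨r, hr⟩ := exists_add_pow_prime_pow_eq hp.out
    ((⟨z, hz⟩ : AlgInt) - ⟨w, hw⟩) (⟨w, hw⟩ : AlgInt) a
  have hr' : z ^ (p ^ a) - w ^ (p ^ a)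
      = (z - w) ^ (p ^ a) + (p : ℂ) * ((z - w) * w * (r : ℂ)) := by
    have h1 := congrArg (fun q : AlgInt => (q : ℂ)) hr
    simp only [sub_add_cancel] at h1
    push_cast at h1
    rw [h1]; ring
  constructor
  · rintro ⟨t, ⟨γ, hγ⟩, ht⟩
    have h1 : (z - w) ^ (p ^ a) = (p : ℂ) * (γ : ℂ) := by
      rw [← ht]
      have h2 := congrArg (fun q : AlgInt => (q : ℂ)) hγ
      push_cast at h2
      exact h2
    refine ⟨γ + ((⟨z, hz⟩ : AlgInt) - ⟨w, hw⟩) * ⟨w, hw⟩ * r, ?_⟩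
    rw [hr', h1]; push_cast; ring
  · rintro ⟨γ, hγ⟩
    refine ⟨(⟨z, hz⟩ : AlgInt) - ⟨w, hw⟩,
      ⟨γ - ((⟨z, hz⟩ : AlgInt) - ⟨w, hw⟩) * ⟨w, hw⟩ * r, ?_⟩, by push_cast; rfl⟩
    apply Subtype.ext
    push_cast
    rw [hr'] at hγ
    linear_combination hγ

theorem frobCongr_one_of_pow_eq_one {p a : ℕ} [hp : Fact p.Prime] {ζ : ℂ}
    (h : ζ ^ (p ^ a) = 1) : FrobCongr p a ζ 1 := by
  have hζ : IsIntegral ℤ ζ :=
    IsIntegral.of_pow (pow_pos hp.out.pos a) (by rw [h]; exact isIntegral_one)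
  rw [frobCongr_iff_pow hζ isIntegral_one]
  exact ⟨0, by rw [h, one_pow, sub_self]; simp⟩

theorem dvd_of_frobCongr_natCast_zero {p a : ℕ} [hp : Fact p.Prime] {m : ℕ}
    (h : FrobCongr p a (m : ℂ) 0) : p ∣ m := by
  obtain ⟨t, ⟨γ, hγ⟩, ht⟩ := h
  rw [sub_zero] at ht
  have h1 : (m : ℂ) ^ (p ^ a) = (p : ℂ) * (γ : ℂ) := by
    rw [← ht]
    have h2 := congrArg (fun q : AlgInt => (q : ℂ)) hγ
    push_cast at h2
    exact h2
  have hp0 : (p : ℂ) ≠ 0 := Nat.cast_ne_zero.mpr hp.out.ne_zero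
  have h2 : IsIntegral ℤ (((m ^ (p ^ a) : ℕ) : ℂ) / (p : ℂ)) := by
    have h3 : ((m ^ (p ^ a) : ℕ) : ℂ) / (p : ℂ) = (γ : ℂ) := by
      push_cast; rw [h1]; field_simp
    rw [h3]; exact γ.2
  have h3 : p ∣ m ^ (p ^ a) := natDvd_of_isIntegral_div hp.out.ne_zero h2
  exact hp.out.dvd_of_dvd_pow h3

section Char

variable {G : Type*} [Group G] [Finite G] {p a : ℕ} [Fact p.Prime]

theorem isIntegral_of_isCharacter {χ : G → ℂ} (hχ : IsCharacter G χ) (g : G) :
    IsIntegral ℤ (χ g) := by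
  obtain ⟨n, ρ, rfl⟩ := hχ
  exact Cfsg.Agent.Lib.helper82.isIntegral_char ρ g

/-- Every character is the sum of a list of irreducible characters, pointwise form. -/
theorem exists_list_irr_apply {χ : G → ℂ} (hχ : IsCharacter G χ) :
    ∃ l : List (IrrCharacter G),
      ∀ g, χ g = (l.map (fun ψ : IrrCharacter G => (ψ : G → ℂ) g)).sum := by
  obtain ⟨l, hl⟩ := Cfsg.Agent.Lib.helper4.exists_list_irr_of_isCharacter hχ
  refine ⟨l, fun g => ?_⟩
  rw [hl]
  clear hl hχ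
  induction l with
  | nil => simp
  | cons ψ l ih =>
    simp at ih ⊢
    exact ih

/-- A congruence that holds for all irreducible characters holds for all characters. -/
theorem frobCongr_of_irr {χ : G → ℂ} (hχ : IsCharacter G χ) {x y : G}
    (h : ∀ ψ : IrrCharacter G, FrobCongr p a ((ψ : G → ℂ) x) ((ψ : G → ℂ) y)) :
    FrobCongr p a (χ x) (χ y) := by
  obtain ⟨l, hl⟩ := exists_list_irr_apply hχ
  rw [hl x, hl y]
  clear hl hχ
  induction l with
  | nil => simpa using FrobCongr.refl (p := p) (a := a) 0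
  | cons ψ l ih =>
    rw [List.map_cons, List.sum_cons, List.map_cons, List.sum_cons]
    exact (h ψ).add ih

/-- If `u` is a `p`-element commuting with `s` then `χ (u * s) ≡ χ s`. -/
theorem frobCongr_mul_of_commute {χ : G → ℂ} (hχ : IsCharacter G χ) {s u : G}
    (hc : Commute u s) (hu : u ^ (p ^ a) = 1) : FrobCongr p a (χ (u * s)) (χ s) := by
  classical
  let A : Subgroup G := Subgroup.closure {s, u}
  have hcomm : ∀ x ∈ ({s, u} : Set G), ∀ y ∈ ({s, u} : Set G), x * y = y * x := by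
    rintro x (rfl | rfl) y (rfl | rfl)
    · rfl
    · exact hc.eq.symm
    · exact hc.eq
    · rfl
  have hA : ∀ a b : A, a * b = b * a := by
    have := Subgroup.isMulCommutative_closure hcomm
    exact fun a b => mul_comm' a b
  have hsA : s ∈ A := Subgroup.subset_closure (by simp)
  have huA : u ∈ A := Subgroup.subset_closure (by simp)
  have hres := Cfsg.Agent.Lib.helper4.isCharacter_restrict A hχ
  obtain ⟨l, hl⟩ := exists_list_irr_apply hres
  have key : ∀ l : List (IrrCharacter A),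
      FrobCongr p a ((l.map (fun ψ : IrrCharacter A => (ψ : A → ℂ) ((⟨u, huA⟩ : A) * ⟨s, hsA⟩))).sum)
        ((l.map (fun ψ : IrrCharacter A => (ψ : A → ℂ) ⟨s, hsA⟩)).sum) := by
    intro l
    induction l with
    | nil => simpa using FrobCongr.refl (p := p) (a := a) 0
    | cons ψ l ih =>
      rw [List.map_cons, List.sum_cons, List.map_cons, List.sum_cons]
      refine FrobCongr.add ?_ ih
      obtain ⟨f, hf⟩ := Cfsg.Agent.Lib.helper82.exists_hom_of_linear
        (Cfsg.Agent.Lib.helper4.isCharacter_of_isIrrCharacter ψ.2)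
        (Cfsg.Agent.Lib.helper82.irr_one_of_commutative hA ψ.2)
      have h2 : IsIntegral ℤ ((f ⟨s, hsA⟩ : ℂˣ) : ℂ) := by
        rw [← hf]
        exact isIntegral_of_isCharacter
          (Cfsg.Agent.Lib.helper4.isCharacter_of_isIrrCharacter ψ.2) _
      rw [hf, hf, map_mul, Units.val_mul]
      have h1 : ((f ⟨u, huA⟩ : ℂˣ) : ℂ) ^ (p ^ a) = 1 := by
        rw [← Units.val_pow_eq_pow_val, ← map_pow]
        have h3 : (⟨u, huA⟩ : A) ^ (p ^ a) = 1 := Subtype.ext (by simpa using hu)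
        rw [h3, map_one, Units.val_one]
      have h4 := (frobCongr_one_of_pow_eq_one h1).mul_left _ h2
      rwa [mul_one, mul_comm] at h4
  have h5 := key l
  rw [← hl, ← hl] at h5
  exact h5

end Char

end Cfsg.Agent.Lib.helper21
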