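import Mathlib
import Cfsg.Prelude.Def_Characters
import Cfsg.Prelude.Def_Blocks
import Cfsg.Agent.Lib.helper21.GalConj

set_option autoImplicit false
set_option linter.unusedSectionVars false

/-!
# Galois conjugacy property: the case of a commutator subgroup of prime order
-/

namespace Cfsg.Agent.Lib.helper21

open Cfsg
open Cfsg.Agent.Lib.helper83 Cfsg.Agent.Lib.helper82 Cfsg.Agent.Lib.helper84
open scoped ComplexConjugate commutatorElement

universe u

variable {G : Type u} [Group G] [Finite G]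

/-- In a `p`-group a commutator subgroup of order `p` is central. -/
theorem commutator_le_center_of_card_prime {p : ℕ} [Fact p.Prime] (hP : IsPGroup p G)
    (hD : Nat.card (commutator G) = p) : commutator G ≤ Subgroup.center G := by
  have hp : p.Prime := Fact.out
  have hne : commutator G ≠ ⊥ := by
    intro h; rw [h, Subgroup.card_bot] at hD; exact hp.one_lt.ne hD
  obtain ⟨z, hzD, hzZ, hz1, -⟩ :=
    Cfsg.Agent.Lib.helper3.exists_central_of_normal_ne_bot hP (commutator G) hne
  rw [mem_zpowers_of_card_prime hp hD hzD hz1]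
  exact Subgroup.zpowers_le.mpr hzZ

/-- A nonlinear irreducible character is faithful on a commutator subgroup of prime order. -/
theorem irr_faithful_on_commutator {p : ℕ} (hp : p.Prime) (hD : Nat.card (commutator G) = p)
    (χ : IrrCharacter G) (hχ : charDegree (χ : G → ℂ) ≠ 1) :
    ∀ x ∈ commutator G, (χ : G → ℂ) x = (χ : G → ℂ) 1 → x = 1 := by
  intro x hx hx1
  by_contra hne
  apply hχ
  rw [charDegree_eq_one_iff, irr_linear_iff χ.2]
  obtain ⟨K, hKn, hK⟩ := exists_ker_of_isCharacter (isCharacter_of_irr χ.2)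
  have hxK : x ∈ K := (hK x).mpr hx1
  intro y hy
  rw [mem_zpowers_of_card_prime hp hD hx hne] at hy
  exact (hK y).mp (Subgroup.zpowers_le.mpr hxK hy)

/-- If the commutator subgroup is central of prime order, a nonlinear irreducible character has
`χ(1)² |Z(G)| = |G|`. -/
theorem irr_degree_sq_of_commutator_prime {p : ℕ} (hp : p.Prime)
    (hDZ : commutator G ≤ Subgroup.center G) (hD : Nat.card (commutator G) = p)
    (χ : IrrCharacter G) (hχ : charDegree (χ : G → ℂ) ≠ 1) :
    charDegree (χ : G → ℂ) ^ 2 * Nat.card (Subgroup.center G) = Nat.card G :=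
  irr_degree_sq_of_vanish χ
    (irr_vanish_off_center hDZ χ (irr_faithful_on_commutator hp hD χ hχ))

/-- In a cyclic `p`-subgroup, a subgroup of order `p` lies in every nontrivial subgroup. -/
theorem le_of_isCyclic_of_card_prime {p : ℕ} [Fact p.Prime] {Z D L : Subgroup G}
    (hZc : IsCyclic Z) (hZp : IsPGroup p Z) (hDZ : D ≤ Z) (hLZ : L ≤ Z) (hD : Nat.card D = p)
    (hL : L ≠ ⊥) : D ≤ L := by
  classical
  have hp : p.Prime := Fact.out
  obtain ⟨w, hw1⟩ := Subgroup.ne_bot_iff_exists_ne_one.mp hL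
  have hw1' : (w : G) ≠ 1 := fun h => hw1 (Subtype.ext h)
  have hwZ : (w : G) ∈ Z := hLZ w.2
  obtain ⟨k, hk⟩ := hZp ⟨w, hwZ⟩
  have hk' : (w : G) ^ (p ^ k) = 1 := by simpa using congrArg (fun x : Z => (x : G)) hk
  obtain ⟨s, hsk, hs⟩ := (Nat.dvd_prime_pow hp).mp (orderOf_dvd_of_pow_eq_one hk')
  have hs0 : s ≠ 0 := by
    intro h; rw [h, pow_zero, orderOf_eq_one_iff] at hs; exact hw1' hs
  set w' : G := (w : G) ^ (p ^ (s - 1)) with hw'def
  have hw'p : w' ^ p = 1 := by
    rw [hw'def, ← pow_mul, ← pow_succ, Nat.sub_add_cancel (Nat.one_le_iff_ne_zero.mpr hs0), ← hs,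
      pow_orderOf_eq_one]
  have hw'1 : w' ≠ 1 := by
    rw [hw'def]
    apply pow_ne_one_of_lt_orderOf (pow_pos hp.pos _).ne'
    rw [hs]
    exact Nat.pow_lt_pow_right hp.one_lt (Nat.sub_lt (Nat.pos_of_ne_zero hs0) Nat.one_pos)
  have hw'L : w' ∈ L := L.pow_mem w.2 _
  have hw'Z : w' ∈ Z := hLZ hw'L
  have : Fintype Z := Fintype.ofFinite Z
  have : Fintype D := Fintype.ofFinite D
  have hS := IsCyclic.card_pow_eq_one_le (α := Z) hp.pos
  let e : D ↪ Z := ⟨fun x => ⟨x.1, hDZ x.2⟩, fun a b h =>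
    Subtype.ext (congrArg (fun x : Z => (x : G)) h)⟩
  have hsub : (Finset.univ : Finset D).map e ⊆ Finset.univ.filter (fun a : Z => a ^ p = 1) := by
    intro a ha
    obtain ⟨x, -, rfl⟩ := Finset.mem_map.mp ha
    rw [Finset.mem_filter]
    refine ⟨Finset.mem_univ _, ?_⟩
    apply Subtype.ext
    have h1 : x ^ p = 1 := by rw [← hD]; exact pow_card_eq_one'
    have h2 : (x : G) ^ p = 1 := by simpa using congrArg (fun y : D => (y : G)) h1
    rw [Subgroup.coe_pow, Subgroup.coe_one]
    exact h2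
  have hcard : (Finset.univ.filter (fun a : Z => a ^ p = 1)).card
      ≤ ((Finset.univ : Finset D).map e).card := by
    rw [Finset.card_map, Finset.card_univ, ← Nat.card_eq_fintype_card, hD]
    exact hS
  have heq := Finset.eq_of_subset_of_card_le hsub hcard
  have hw'S : (⟨w', hw'Z⟩ : Z) ∈ Finset.univ.filter (fun a : Z => a ^ p = 1) := by
    rw [Finset.mem_filter]
    exact ⟨Finset.mem_univ _, Subtype.ext (by simpa using hw'p)⟩
  rw [← heq] at hw'S
  obtain ⟨x, -, hx⟩ := Finset.mem_map.mp hw'S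
  have hw'D : w' ∈ D := by
    have : (x : G) = w' := congrArg (fun y : Z => (y : G)) hx
    rw [← this]; exact x.2
  rw [mem_zpowers_of_card_prime hp hD hw'D hw'1]
  exact Subgroup.zpowers_le.mpr hw'L

/-- A `p`-group with cyclic centre and commutator subgroup of order `p` has the Galois
conjugacy property. -/
theorem galConjProp_of_cyclic_center {p : ℕ} [Fact p.Prime] (hP : IsPGroup p G)
    (hZ : IsCyclic (Subgroup.center G)) (hD : Nat.card (commutator G) = p) : GalConjProp G := by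
  have hp : p.Prime := Fact.out
  have hDZ := commutator_le_center_of_card_prime hP hD
  have hZp : IsPGroup p (Subgroup.center G) := hP.to_subgroup _
  have hfaithZ : ∀ χ : IrrCharacter G, charDegree (χ : G → ℂ) ≠ 1 → ∀ w ∈ Subgroup.center G,
      (χ : G → ℂ) w = (χ : G → ℂ) 1 → w = 1 := by
    intro χ hχ w hw hw1
    by_contra hne
    obtain ⟨K, hKn, hK⟩ := exists_ker_of_isCharacter (isCharacter_of_irr χ.2)
    have hL : K ⊓ Subgroup.center G ≠ ⊥ := by
      intro h
      have : w ∈ K ⊓ Subgroup.center G := ⟨(hK w).mpr hw1, hw⟩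
      rw [h] at this
      exact hne (Subgroup.mem_bot.mp this)
    have hle := le_of_isCyclic_of_card_prime hZ hZp hDZ inf_le_right hD hL
    apply hχ
    rw [charDegree_eq_one_iff, irr_linear_iff χ.2]
    intro y hy
    exact (hK y).mp (hle hy).1
  obtain ⟨z₀, hz₀⟩ := IsCyclic.exists_monoid_generator (α := Subgroup.center G)
  have hgen : ∀ g ∈ Subgroup.center G, ∃ i : ℕ, (z₀ : G) ^ i = g := by
    intro g hg
    obtain ⟨i, hi⟩ := (Submonoid.mem_powers_iff _ _).mp (hz₀ ⟨g, hg⟩)
    exact ⟨i, by simpa using congrArg (fun x : Subgroup.center G => (x : G)) hi⟩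
  have hm0 : 0 < orderOf (z₀ : G) := orderOf_pos _
  have hpm : p ∣ orderOf (z₀ : G) := by
    have hne : commutator G ≠ ⊥ := by
      intro h; rw [h, Subgroup.card_bot] at hD; exact hp.one_lt.ne hD
    obtain ⟨d, hd1⟩ := Subgroup.ne_bot_iff_exists_ne_one.mp hne
    have hd1' : (d : G) ≠ 1 := fun h => hd1 (Subtype.ext h)
    have hdp : (d : G) ^ p = 1 := by
      have : d ^ p = 1 := by rw [← hD]; exact pow_card_eq_one'
      simpa using congrArg (fun y : commutator G => (y : G)) this
    have hod : orderOf (d : G) = p := orderOf_eq_prime hdp hd1'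
    obtain ⟨i, hi⟩ := hgen d (hDZ d.2)
    rw [← hod, ← hi]
    exact orderOf_pow_dvd i
  have key : ∀ χ : IrrCharacter G, charDegree (χ : G → ℂ) ≠ 1 →
      ∃ a : ℂ, IsPrimitiveRoot a (orderOf (z₀ : G)) ∧
        ∀ i : ℕ, (χ : G → ℂ) ((z₀ : G) ^ i) = a ^ i * (χ : G → ℂ) 1 := by
    intro χ hχ
    have h10 := irr_one_ne_zero χ
    obtain ⟨a, ha⟩ := Cfsg.Agent.Lib.helper19.irr_mul_center χ (z₀ : G) z₀.2
    have hpow : ∀ i : ℕ, (χ : G → ℂ) ((z₀ : G) ^ i) = a ^ i * (χ : G → ℂ) 1 := by
      intro i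
      induction i with
      | zero => simp
      | succ i ih => rw [pow_succ, ha, ih, pow_succ]; ring
    refine ⟨a, ?_, hpow⟩
    apply IsPrimitiveRoot.mk_of_lt a hm0
    · have h1 := hpow (orderOf (z₀ : G))
      rw [pow_orderOf_eq_one] at h1
      have h2 : a ^ orderOf (z₀ : G) * (χ : G → ℂ) 1 = 1 * (χ : G → ℂ) 1 := by
        rw [one_mul]; exact h1.symm
      exact mul_right_cancel₀ h10 h2
    · intro l hl0 hlm hal
      have h1 := hpow l
      rw [hal, one_mul] at h1
      have h2 := hfaithZ χ hχ _ (Subgroup.pow_mem _ z₀.2 l) h1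
      exact pow_ne_one_of_lt_orderOf hl0.ne' hlm h2
  intro χ ψ hχ hdeg
  have hψ : charDegree (ψ : G → ℂ) ≠ 1 := by rw [← hdeg]; exact hχ
  obtain ⟨a, ha, hχpow⟩ := key χ hχ
  obtain ⟨b, hb, hψpow⟩ := key ψ hψ
  have : NeZero (orderOf (z₀ : G)) := ⟨hm0.ne'⟩
  obtain ⟨k, hkm, hk⟩ := ha.eq_pow_of_pow_eq_one hb.pow_eq_one
  have hkco : Nat.Coprime k (orderOf (z₀ : G)) := by
    rw [← hk] at hb
    exact (ha.pow_iff_coprime hm0 k).mp hb
  have hkp : Nat.Coprime k p := hkco.coprime_dvd_right hpm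
  obtain ⟨n, hn⟩ := IsPGroup.iff_card.mp hP
  refine ⟨k, by rw [hn]; exact Nat.Coprime.pow_right n hkp, ?_⟩
  have h11 : (ψ : G → ℂ) 1 = (χ : G → ℂ) 1 := by
    rw [irr_one_eq_charDegree, irr_one_eq_charDegree, hdeg]
  intro g
  by_cases hg : g ∈ Subgroup.center G
  · obtain ⟨i, rfl⟩ := hgen g hg
    rw [hψpow, ← pow_mul, hχpow, h11, ← hk]
    ring
  · have hgk : g ^ k ∉ Subgroup.center G := by
      intro h
      apply hg
      have hco : Nat.Coprime k (orderOf g) := by
        have : orderOf g ∣ p ^ n := by rw [← hn]; exact orderOf_dvd_natCard g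
        exact Nat.Coprime.coprime_dvd_right this (Nat.Coprime.pow_right n hkp)
      obtain ⟨j, hj⟩ := exists_pow_eq_self_of_coprime hco
      rw [← hj]
      exact Subgroup.pow_mem _ h j
    rw [irr_vanish_off_center hDZ ψ (irr_faithful_on_commutator hp hD ψ hψ) g hg,
      irr_vanish_off_center hDZ χ (irr_faithful_on_commutator hp hD χ hχ) _ hgk]

end Cfsg.Agent.Lib.helper21
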