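import Mathlib
import Cfsg.Prelude.Def_Characters
import Cfsg.Prelude.Def_Blocks
import Cfsg.Agent.Lib.helper21.GalConj2

set_option autoImplicit false
set_option linter.unusedSectionVars false

/-!
# Galois conjugacy property forces a commutator subgroup of order `p` (for `p`-groups)
-/

namespace Cfsg.Agent.Lib.helper21

open Cfsg
open Cfsg.Agent.Lib.helper83 Cfsg.Agent.Lib.helper82 Cfsg.Agent.Lib.helper84
open scoped ComplexConjugate commutatorElement

universe u

variable {G : Type u} [Group G] [Finite G]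

theorem normal_of_le_center' {N : Subgroup G} (h : N ≤ Subgroup.center G) : N.Normal :=
  ⟨fun n hn g => by
    have := Subgroup.mem_center_iff.mp (h hn) g
    rw [this, mul_inv_cancel_right]; exact hn⟩

/-- Order of the image of a subgroup `H ≥ K` in `G ⧸ K`. -/
theorem card_map_mk_mul (K H : Subgroup G) [K.Normal] (hKH : K ≤ H) :
    Nat.card (H.map (QuotientGroup.mk' K)) * Nat.card K = Nat.card H := by
  have h1 : (H.map (QuotientGroup.mk' K)).index = H.index := by
    rw [Subgroup.index_map, QuotientGroup.ker_mk', sup_of_le_left hKH,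
      (QuotientGroup.mk' K).range_eq_top_of_surjective (QuotientGroup.mk'_surjective K),
      Subgroup.index_top, mul_one]
  have h2 := Subgroup.index_mul_card (H.map (QuotientGroup.mk' K))
  have h3 := Subgroup.index_mul_card H
  have h4 : Nat.card (G ⧸ K) * Nat.card K = Nat.card G :=
    (Subgroup.card_eq_card_quotient_mul_card_subgroup K).symm
  have hpos : 0 < H.index := Nat.pos_of_ne_zero Subgroup.index_ne_zero_of_finite
  apply Nat.eq_of_mul_eq_mul_left hpos
  calc H.index * (Nat.card (H.map (QuotientGroup.mk' K)) * Nat.card K)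
      = (H.index * Nat.card (H.map (QuotientGroup.mk' K))) * Nat.card K := by ring
    _ = Nat.card (G ⧸ K) * Nat.card K := by rw [← h1, h2]
    _ = Nat.card G := h4
    _ = H.index * Nat.card H := h3.symm

/-- If `K` is a central subgroup of order `p` and `u` is central modulo `K`, then `u ^ p` is
central. -/
theorem pow_mem_center_of_mk_mem_center {p : ℕ} (K : Subgroup G) [K.Normal]
    (hKZ : K ≤ Subgroup.center G) (hK : Nat.card K = p) (u : G)
    (hu : (QuotientGroup.mk u : G ⧸ K) ∈ Subgroup.center (G ⧸ K)) :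
    u ^ p ∈ Subgroup.center G := by
  rw [Subgroup.mem_center_iff]
  intro x
  set c := u⁻¹ * (x * u * x⁻¹) with hc
  have hcK : c ∈ K := by
    rw [← QuotientGroup.eq_one_iff]
    have h1 := Subgroup.mem_center_iff.mp hu (QuotientGroup.mk x)
    show (QuotientGroup.mk (u⁻¹ * (x * u * x⁻¹)) : G ⧸ K) = 1
    rw [QuotientGroup.mk_mul, QuotientGroup.mk_mul, QuotientGroup.mk_mul, QuotientGroup.mk_inv,
      QuotientGroup.mk_inv, h1]
    group
  have hcZ : c ∈ Subgroup.center G := hKZ hcK
  have hcp : c ^ p = 1 := by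
    have : (⟨c, hcK⟩ : K) ^ p = 1 := by rw [← hK]; exact pow_card_eq_one'
    simpa using congrArg (fun y : K => (y : G)) this
  have hxu : x * u * x⁻¹ = u * c := by rw [hc]; group
  have hcomm : Commute u c := Subgroup.mem_center_iff.mp hcZ u
  have h2 : x * u ^ p * x⁻¹ = u ^ p := by
    rw [← conj_pow, hxu, hcomm.mul_pow, hcp, mul_one]
  calc x * u ^ p = (x * u ^ p * x⁻¹) * x := by group
    _ = u ^ p * x := by rw [h2]

/-- The centre of the quotient by a central subgroup of order `p`, when cyclic, has order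
`|Z(G)| / p` or `|Z(G)|`. -/
theorem card_center_quotient_cases {p : ℕ} [Fact p.Prime] (hP : IsPGroup p G) (K : Subgroup G)
    [K.Normal] (hKZ : K ≤ Subgroup.center G) (hK : Nat.card K = p)
    (hcyc : IsCyclic (Subgroup.center (G ⧸ K))) :
    Nat.card (Subgroup.center (G ⧸ K)) * p = Nat.card (Subgroup.center G) ∨
      Nat.card (Subgroup.center (G ⧸ K)) = Nat.card (Subgroup.center G) := by
  have hp : p.Prime := Fact.out
  set Zb : Subgroup (G ⧸ K) := (Subgroup.center G).map (QuotientGroup.mk' K) with hZb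
  have hZbcard : Nat.card Zb * p = Nat.card (Subgroup.center G) := by
    rw [← hK]; exact card_map_mk_mul K _ hKZ
  have hZble : Zb ≤ Subgroup.center (G ⧸ K) := by
    rintro _ ⟨z, hz, rfl⟩
    rw [Subgroup.mem_center_iff]
    intro q
    obtain ⟨g, rfl⟩ := QuotientGroup.mk_surjective q
    show (QuotientGroup.mk g : G ⧸ K) * QuotientGroup.mk z = QuotientGroup.mk z * QuotientGroup.mk g
    rw [← QuotientGroup.mk_mul, ← QuotientGroup.mk_mul, Subgroup.mem_center_iff.mp hz g]
  obtain ⟨ub, hub⟩ := IsCyclic.exists_monoid_generator (α := Subgroup.center (G ⧸ K))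
  obtain ⟨u, hu⟩ := QuotientGroup.mk_surjective (ub : G ⧸ K)
  have hupZ : u ^ p ∈ Subgroup.center G :=
    pow_mem_center_of_mk_mem_center K hKZ hK u (by rw [hu]; exact ub.2)
  have hubp : (ub : G ⧸ K) ^ p ∈ Zb := ⟨u ^ p, hupZ, by rw [← hu]; rfl⟩
  have hle : Nat.card (Subgroup.center (G ⧸ K)) ≤ p * Nat.card Zb := by
    let f : Fin p × Zb → Subgroup.center (G ⧸ K) :=
      fun t => ub ^ (t.1 : ℕ) * ⟨(t.2 : G ⧸ K), hZble t.2.2⟩
    have hsurj : Function.Surjective f := by
      intro w
      obtain ⟨n, hn⟩ := (Submonoid.mem_powers_iff _ _).mp (hub w)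
      refine ⟨(⟨n % p, Nat.mod_lt n hp.pos⟩, ⟨((ub : G ⧸ K) ^ p) ^ (n / p), Zb.pow_mem hubp _⟩), ?_⟩
      rw [← hn]
      apply Subtype.ext
      show (ub : G ⧸ K) ^ (n % p) * ((ub : G ⧸ K) ^ p) ^ (n / p) = ((ub ^ n : Subgroup.center (G ⧸ K)) : G ⧸ K)
      rw [← pow_mul, ← pow_add, Nat.mod_add_div, Subgroup.coe_pow]
    have := Nat.card_le_card_of_surjective f hsurj
    rwa [Nat.card_prod, Nat.card_fin] at this
  have hdvd : Nat.card Zb ∣ Nat.card (Subgroup.center (G ⧸ K)) := Subgroup.card_dvd_of_le hZble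
  have hQP : IsPGroup p (G ⧸ K) := hP.to_quotient K
  obtain ⟨b, hb⟩ := IsPGroup.iff_card.mp (hQP.to_subgroup (Subgroup.center (G ⧸ K)))
  obtain ⟨a, ha⟩ := IsPGroup.iff_card.mp (hQP.to_subgroup Zb)
  rw [ha, hb] at hdvd
  rw [ha, hb, ← pow_succ'] at hle
  have hab : a ≤ b := (Nat.pow_dvd_pow_iff_le_right hp.one_lt).mp hdvd
  have hba : b ≤ a + 1 := (Nat.pow_le_pow_iff_right hp.one_lt).mp hle
  have hcases : b = a ∨ b = a + 1 := by omega
  rcases hcases with h | h
  · left
    rw [hb, h, ← ha]; exact hZbcard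
  · right
    rw [hb, h, pow_succ, ← ha]; exact hZbcard

/-- A group with central commutator subgroup and an abelian subgroup of prime index `p` has
order at most `p |G'| |Z(G)|`. -/
theorem card_le_of_abelian_index_prime {p : ℕ} (hp : p.Prime) (A : Subgroup G)
    (hA : ∀ a ∈ A, ∀ b ∈ A, a * b = b * a) (hidx : A.index = p)
    (hDZ : commutator G ≤ Subgroup.center G) :
    Nat.card G ≤ p * (Nat.card (commutator G) * Nat.card (Subgroup.center G)) := by
  have hAtop : A ≠ ⊤ := by
    intro h; rw [h, Subgroup.index_top] at hidx; exact hp.one_lt.ne hidx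
  obtain ⟨x, hx⟩ : ∃ x : G, x ∉ A := by
    by_contra hcon; push Not at hcon
    exact hAtop (eq_top_iff.mpr (fun g _ => hcon g))
  have hcomm : ∀ a : G, ⁅a, x⁆ ∈ commutator G := fun a => by
    rw [commutator_def]
    exact Subgroup.commutator_mem_commutator (Subgroup.mem_top a) (Subgroup.mem_top x)
  let θ : A →* commutator G := MonoidHom.mk' (fun a => ⟨⁅(a : G), x⁆, hcomm a⟩) (by
    intro a b
    apply Subtype.ext
    show ⁅(a : G) * (b : G), x⁆ = ⁅(a : G), x⁆ * ⁅(b : G), x⁆
    have hb : ⁅(b : G), x⁆ ∈ Subgroup.center G := hDZ (hcomm b)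
    have h1 : ⁅(a : G) * (b : G), x⁆ = (a : G) * ⁅(b : G), x⁆ * (a : G)⁻¹ * ⁅(a : G), x⁆ := by
      simp only [commutatorElement_def]; group
    rw [h1, Subgroup.mem_center_iff.mp hb (a : G), mul_inv_cancel_right]
    exact (Subgroup.mem_center_iff.mp hb _).symm)
  have hker : ∀ a : A, a ∈ θ.ker → (a : G) ∈ Subgroup.center G := by
    intro a ha
    have h1 : ⁅(a : G), x⁆ = 1 :=
      congrArg (fun y : commutator G => (y : G)) (MonoidHom.mem_ker.mp ha)
    have hax : (a : G) * x = x * (a : G) := commutatorElement_eq_one_iff_mul_comm.mp h1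
    set M := Subgroup.centralizer ({(a : G)} : Set G) with hM
    have hAM : A ≤ M := by
      intro b hb
      rw [hM, Subgroup.mem_centralizer_iff]
      intro y hy
      rw [Set.mem_singleton_iff] at hy
      subst hy
      exact hA _ a.2 _ hb
    have hxM : x ∈ M := by
      rw [hM, Subgroup.mem_centralizer_iff]
      intro y hy
      rw [Set.mem_singleton_iff] at hy
      subst hy
      exact hax
    have hMtop : M = ⊤ := by
      rw [← Subgroup.index_eq_one]
      have h2 := Subgroup.relIndex_mul_index hAM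
      rw [hidx] at h2
      rcases (Nat.dvd_prime hp).mp (Dvd.intro_left _ h2) with h3 | h3
      · exact h3
      · exfalso
        rw [h3] at h2
        have h4 : A.relIndex M = 1 :=
          Nat.eq_of_mul_eq_mul_right hp.pos (by rw [h2, one_mul])
        exact hx (Subgroup.relIndex_eq_one.mp h4 hxM)
    rw [Subgroup.mem_center_iff]
    intro g
    have hg : g ∈ M := by rw [hMtop]; exact Subgroup.mem_top g
    exact (Subgroup.mem_centralizer_iff.mp hg a rfl).symm
  have hkercard : Nat.card θ.ker ≤ Nat.card (Subgroup.center G) := by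
    apply Nat.card_le_card_of_injective
      (fun a : θ.ker => (⟨((a : A) : G), hker a.1 a.2⟩ : Subgroup.center G))
    intro a b hab
    apply Subtype.ext; apply Subtype.ext
    exact congrArg (fun y : Subgroup.center G => (y : G)) hab
  have hrange : Nat.card θ.range ≤ Nat.card (commutator G) := Subgroup.card_le_card_group _
  have h1 : Nat.card A = Nat.card θ.range * Nat.card θ.ker := by
    rw [Subgroup.card_eq_card_quotient_mul_card_subgroup θ.ker,
      Nat.card_congr (QuotientGroup.quotientKerEquivRange θ).toEquiv]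
  have h2 := Subgroup.index_mul_card A
  rw [hidx] at h2
  calc Nat.card G = p * Nat.card A := h2.symm
    _ = p * (Nat.card θ.range * Nat.card θ.ker) := by rw [h1]
    _ ≤ p * (Nat.card (commutator G) * Nat.card (Subgroup.center G)) :=
        Nat.mul_le_mul_left _ (Nat.mul_le_mul hrange hkercard)

/-- In a `p`-group of order at most `p⁴` every nonlinear irreducible character has degree `p`. -/
theorem charDegree_eq_prime_of_card_le {p : ℕ} [Fact p.Prime] (hP : IsPGroup p G)
    (hcard : Nat.card G ≤ p ^ 4) (χ : IrrCharacter G) (hχ : charDegree (χ : G → ℂ) ≠ 1) :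
    charDegree (χ : G → ℂ) = p := by
  classical
  have hp : p.Prime := Fact.out
  have : Fintype (IrrCharacter G) := Fintype.ofFinite _
  obtain ⟨n, hn⟩ := IsPGroup.iff_card.mp hP
  have hd := irr_degree_dvd_card χ
  rw [hn] at hd
  obtain ⟨j, -, hj⟩ := (Nat.dvd_prime_pow hp).mp hd
  have hlt : charDegree (χ : G → ℂ) ^ 2 < Nat.card G := by
    have hsum := sum_charDegree_sq (G := G)
    rw [finsum_eq_sum_of_fintype] at hsum
    have h3 : charDegree (trivIrr G : G → ℂ) = 1 := by rw [charDegree_eq_one_iff]; simp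
    have hne : χ ≠ trivIrr G := by
      intro h; apply hχ; rw [h]; exact h3
    have h2 : charDegree (χ : G → ℂ) ^ 2 + charDegree (trivIrr G : G → ℂ) ^ 2 ≤ Nat.card G := by
      rw [← hsum]
      have h5 := Finset.sum_le_sum_of_subset (f := fun i : IrrCharacter G => charDegree (i : G → ℂ) ^ 2)
        (Finset.subset_univ ({χ, trivIrr G} : Finset (IrrCharacter G)))
      rw [Finset.sum_pair hne] at h5
      exact h5
    rw [h3] at h2
    omega
  rw [hj] at hlt ⊢
  have hj0 : j ≠ 0 := by
    intro h; apply hχ; rw [hj, h, pow_zero]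
  have hj2 : j < 2 := by
    by_contra hcon
    push Not at hcon
    have : p ^ 4 ≤ (p ^ j) ^ 2 := by
      rw [← pow_mul]
      exact Nat.pow_le_pow_right hp.pos (by omega)
    omega
  have : j = 1 := by omega
  rw [this, pow_one]

/-- If all nonlinear irreducible characters have the same degree, the Galois conjugacy property
fails as soon as some proper quotient by a subgroup meeting the commutator subgroup is
nonabelian. -/
theorem GalConjProp.false_of_same_degree (hGC : GalConjProp G) (N : Subgroup G) [N.Normal]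
    (hN : ¬ commutator G ≤ N) (z : G) (hzN : z ∈ N) (hzD : z ∈ commutator G) (hz1 : z ≠ 1)
    (hsame : ∀ χ ψ : IrrCharacter G, charDegree (χ : G → ℂ) ≠ 1 → charDegree (ψ : G → ℂ) ≠ 1 →
      charDegree (χ : G → ℂ) = charDegree (ψ : G → ℂ)) : False := by
  obtain ⟨χa, hχa, hχaN⟩ := exists_nonlinear_of_not_le N hN
  obtain ⟨χb, hχb⟩ := exists_irr_ne_of_ne_one hz1
  have hχb1 : charDegree (χb : G → ℂ) ≠ 1 := by
    intro h1
    apply hχb
    exact (irr_linear_iff χb.2).mp ((charDegree_eq_one_iff χb).mp h1) z hzD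
  obtain ⟨k, hk, hkψ⟩ := hGC χa χb hχa (hsame χa χb hχa hχb1)
  exact hχb ((galConj_ker χa χb k hk hkψ z).mpr (hχaN z hzN))

end Cfsg.Agent.Lib.helper21
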