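import Mathlib
import Cfsg.Prelude.Def_Characters
import Cfsg.Prelude.Def_Blocks
import Cfsg.Agent.Lib.helper21.GalConj3

set_option autoImplicit false
set_option linter.unusedSectionVars false

/-!
# Galois conjugacy property forces a commutator subgroup of order `p`: the induction
-/

namespace Cfsg.Agent.Lib.helper21

open Cfsg
open Cfsg.Agent.Lib.helper83 Cfsg.Agent.Lib.helper82 Cfsg.Agent.Lib.helper84
open scoped ComplexConjugate commutatorElement

universe u

/-- `a² c = b² c p` is impossible for positive `a`, `b`, `c`. -/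
theorem sq_mul_ne_sq_mul_prime {p : ℕ} [Fact p.Prime] {a b c : ℕ} (_ha : a ≠ 0) (hb : b ≠ 0)
    (hc : 0 < c) (h : a ^ 2 * c = b ^ 2 * c * p) : False := by
  have hp : p.Prime := Fact.out
  have h' : a ^ 2 = b ^ 2 * p := by
    have : a ^ 2 * c = (b ^ 2 * p) * c := by rw [h]; ring
    exact Nat.eq_of_mul_eq_mul_right hc this
  have h2 := congrArg (padicValNat p) h'
  rw [padicValNat.pow, padicValNat.mul (pow_ne_zero 2 hb) hp.ne_zero, padicValNat.pow,
    padicValNat_self] at h2
  omega

/-- Case of a noncentral commutator subgroup of order `p²`: the group has order at most `p⁴`. -/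
theorem card_le_of_noncentral_commutator {P : Type u} [Group P] [Finite P] {p : ℕ}
    [Fact p.Prime] (hP : IsPGroup p P) (N : Subgroup P) [N.Normal]
    (hNZ : N ≤ Subgroup.center P) (hND : N ≤ commutator P) (hNcard : Nat.card N = p)
    (hnle : ¬ commutator P ≤ N) (hQD : Nat.card (commutator (P ⧸ N)) = p)
    (hQZ : IsCyclic (Subgroup.center (P ⧸ N))) (hDZ : ¬ commutator P ≤ Subgroup.center P) :
    Nat.card P ≤ p ^ 4 := by
  have hp : p.Prime := Fact.out
  have hQP : IsPGroup p (P ⧸ N) := hP.to_quotient N
  have hQDZ := commutator_le_center_of_card_prime hQP hQD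
  have hmapD : (commutator P).map (QuotientGroup.mk' N) = commutator (P ⧸ N) := by
    rw [commutator_def, Subgroup.map_commutator,
      Subgroup.map_top_of_surjective _ (QuotientGroup.mk'_surjective N), ← commutator_def]
  have hmkD : ∀ s ∈ commutator P, (QuotientGroup.mk s : P ⧸ N) ∈ commutator (P ⧸ N) := by
    intro s hs
    rw [← hmapD]; exact ⟨s, hs, rfl⟩
  -- (II.1) the centre of the quotient has order p
  have hZQ : Nat.card (Subgroup.center (P ⧸ N)) = p := by
    by_contra hne
    apply hDZ
    obtain ⟨e, he⟩ := IsPGroup.iff_card.mp (hQP.to_subgroup (Subgroup.center (P ⧸ N)))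
    have hdvd : p ∣ Nat.card (Subgroup.center (P ⧸ N)) := by
      rw [← hQD]; exact Subgroup.card_dvd_of_le hQDZ
    have he2 : 2 ≤ e := by
      by_contra h
      push Not at h
      interval_cases e
      · rw [he, pow_zero] at hdvd
        exact hp.one_lt.ne' (Nat.dvd_one.mp hdvd)
      · exact hne (by rw [he, pow_one])
    obtain ⟨ub, hub⟩ := IsCyclic.exists_monoid_generator (α := Subgroup.center (P ⧸ N))
    have hubord : orderOf ub = p ^ e := by
      rw [← he]
      apply orderOf_eq_card_of_forall_mem_zpowers
      intro y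
      exact Submonoid.powers_le_zpowers ub (hub y)
    intro t ht
    have htQ := hmkD t ht
    have htp : (QuotientGroup.mk t : P ⧸ N) ^ p = 1 := by
      have : (⟨_, htQ⟩ : commutator (P ⧸ N)) ^ p = 1 := by rw [← hQD]; exact pow_card_eq_one'
      simpa using congrArg (fun y : commutator (P ⧸ N) => (y : P ⧸ N)) this
    obtain ⟨i, hi⟩ := (Submonoid.mem_powers_iff _ _).mp (hub ⟨_, hQDZ htQ⟩)
    have hi' : (ub : P ⧸ N) ^ i = QuotientGroup.mk t := by
      simpa using congrArg (fun y : Subgroup.center (P ⧸ N) => (y : P ⧸ N)) hi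
    have h1 : ub ^ (i * p) = 1 := by
      apply Subtype.ext
      rw [pow_mul, Subgroup.coe_pow, Subgroup.coe_pow, hi', htp]; rfl
    have h2 : p ^ e ∣ i * p := by rw [← hubord]; exact orderOf_dvd_of_pow_eq_one h1
    have h3 : p ∣ i := by
      have : p ^ 2 ∣ i * p := (pow_dvd_pow p he2).trans h2
      rw [pow_two] at this
      exact Nat.dvd_of_mul_dvd_mul_right hp.pos this
    obtain ⟨j, rfl⟩ := h3
    obtain ⟨w, hw⟩ := QuotientGroup.mk_surjective ((ub : P ⧸ N) ^ j)
    have hwZ : (QuotientGroup.mk w : P ⧸ N) ∈ Subgroup.center (P ⧸ N) := by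
      rw [hw]; exact Subgroup.pow_mem _ ub.2 j
    have hwp := pow_mem_center_of_mk_mem_center N hNZ hNcard w hwZ
    have h4 : (QuotientGroup.mk ((w ^ p)⁻¹ * t) : P ⧸ N) = 1 := by
      rw [QuotientGroup.mk_mul, QuotientGroup.mk_inv, QuotientGroup.mk_pow, hw, ← hi', ← pow_mul,
        mul_comm j p]
      exact inv_mul_cancel _
    have h5 : (w ^ p)⁻¹ * t ∈ N := (QuotientGroup.eq_one_iff _).mp h4
    have h6 : t = w ^ p * ((w ^ p)⁻¹ * t) := by group
    rw [h6]
    exact Subgroup.mul_mem _ hwp (hNZ h5)
  -- (II.2) pick t in the commutator subgroup outside N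
  obtain ⟨t, htD, htN⟩ : ∃ t ∈ commutator P, t ∉ N := by
    by_contra h
    push Not at h
    exact hnle h
  have htQ := hmkD t htD
  have hmk1 : (QuotientGroup.mk t : P ⧸ N) ≠ 1 := by
    rwa [Ne, QuotientGroup.eq_one_iff]
  have hrepr : ∀ (r : P), (QuotientGroup.mk r : P ⧸ N) ∈ commutator (P ⧸ N) →
      (QuotientGroup.mk r : P ⧸ N) ≠ 1 → ∀ s ∈ commutator P, ∃ i : ℤ, ∃ n ∈ N, s = r ^ i * n := by
    intro r hr hr1 s hs
    have h1 := hmkD s hs
    rw [mem_zpowers_of_card_prime hp hQD hr hr1] at h1
    obtain ⟨i, hi⟩ := Subgroup.mem_zpowers_iff.mp h1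
    refine ⟨i, (r ^ i)⁻¹ * s, ?_, by group⟩
    rw [← QuotientGroup.eq_one_iff, QuotientGroup.mk_mul, QuotientGroup.mk_inv,
      QuotientGroup.mk_zpow, hi]
    exact inv_mul_cancel _
  have hDrep := hrepr t htQ hmk1
  have htZ : t ∉ Subgroup.center P := by
    intro h
    apply hDZ
    intro s hs
    obtain ⟨i, n, hn, rfl⟩ := hDrep s hs
    exact Subgroup.mul_mem _ (Subgroup.zpow_mem _ h i) (hNZ hn)
  set C : Subgroup P := Subgroup.centralizer ({t} : Set P) with hC
  have hCt : ∀ a ∈ C, a * t = t * a := by
    intro a ha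
    exact (Subgroup.mem_centralizer_iff.mp ha t rfl).symm
  have hCD : ∀ a ∈ C, ∀ s ∈ commutator P, s * a = a * s := by
    intro a ha s hs
    obtain ⟨i, n, hn, rfl⟩ := hDrep s hs
    have h1 : Commute (t ^ i) a := (Commute.zpow_left (hCt a ha).symm i)
    have h2 : Commute n a := (Subgroup.mem_center_iff.mp (hNZ hn) a).symm
    exact (h1.mul_left h2)
  have hDC : commutator P ≤ C := by
    intro s hs
    rw [hC, Subgroup.mem_centralizer_iff]
    intro y hy
    rw [Set.mem_singleton_iff] at hy
    subst hy
    obtain ⟨i, n, hn, rfl⟩ := hDrep s hs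
    have h1 : Commute y (y ^ i) := Commute.zpow_right (Commute.refl y) i
    have h2 : Commute y n := Subgroup.mem_center_iff.mp (hNZ hn) y
    exact h1.mul_right h2
  have hNC : N ≤ C := hND.trans hDC
  -- the index of C is p
  have hCidx : C.index = p := by
    have h1 := card_conj_mul_card_centralizer t
    have h2 := Subgroup.index_mul_card C
    have h3 : C.index = Nat.card {x : P // IsConj x t} := by
      have hpos : 0 < Nat.card C := Nat.card_pos
      apply Nat.eq_of_mul_eq_mul_right hpos
      rw [h2, hC, h1]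
    have h4 : Nat.card {x : P // IsConj x t} ≤ p := by
      rw [← hNcard]
      have hmem : ∀ x : {x : P // IsConj x t}, t⁻¹ * (x : P) ∈ N := by
        rintro ⟨x, hx⟩
        obtain ⟨c, hc⟩ := isConj_iff.mp hx
        rw [← QuotientGroup.eq_one_iff]
        have hcen := Subgroup.mem_center_iff.mp (hQDZ htQ) (QuotientGroup.mk c)
        show (QuotientGroup.mk (t⁻¹ * x) : P ⧸ N) = 1
        have hx' : x = c⁻¹ * t * c := by rw [← hc]; group
        rw [hx', QuotientGroup.mk_mul, QuotientGroup.mk_mul, QuotientGroup.mk_mul,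
          QuotientGroup.mk_inv, QuotientGroup.mk_inv, mul_assoc, ← hcen]
        group
      apply Nat.card_le_card_of_injective
        (fun x : {x : P // IsConj x t} => (⟨t⁻¹ * (x : P), hmem x⟩ : N))
      intro x y hxy
      apply Subtype.ext
      have := congrArg (fun y : N => (y : P)) hxy
      exact mul_left_cancel this
    have h5 : C.index ≠ 1 := by
      intro h
      apply htZ
      rw [Subgroup.index_eq_one] at h
      rw [Subgroup.mem_center_iff]
      intro g
      have hg : g ∈ C := by rw [h]; exact Subgroup.mem_top g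
      exact hCt g hg
    obtain ⟨n, hn⟩ := IsPGroup.iff_card.mp hP
    have h6 : C.index ∣ p ^ n := by rw [← hn]; exact Subgroup.index_dvd_card C
    obtain ⟨j, -, hj⟩ := (Nat.dvd_prime_pow hp).mp h6
    rw [h3] at hj h5
    rw [h3]
    rw [hj] at h4 h5 ⊢
    have hj1 : j ≠ 0 := by
      intro h; apply h5; rw [h, pow_zero]
    have hj2 : j ≤ 1 := by
      by_contra hcon
      push Not at hcon
      have : p ^ 2 ≤ p ^ j := Nat.pow_le_pow_right hp.pos hcon
      have h7 : p < p ^ 2 := by
        calc p = p ^ 1 := (pow_one p).symm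
          _ < p ^ 2 := Nat.pow_lt_pow_right hp.one_lt (by norm_num)
      omega
    have : j = 1 := by omega
    rw [this, pow_one]
  -- commutators of elements of C are central
  have hcent : ∀ a ∈ C, ∀ b ∈ C, ⁅a, b⁆ ∈ Subgroup.center P := by
    intro a ha b hb
    rw [Subgroup.mem_center_iff]
    intro x
    have hsa : ⁅x, a⁆ ∈ commutator P := by
      rw [commutator_def]
      exact Subgroup.commutator_mem_commutator (Subgroup.mem_top x) (Subgroup.mem_top a)
    have hsb : ⁅x, b⁆ ∈ commutator P := by
      rw [commutator_def]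
      exact Subgroup.commutator_mem_commutator (Subgroup.mem_top x) (Subgroup.mem_top b)
    set sa := ⁅x, a⁆ with hsadef
    set sb := ⁅x, b⁆ with hsbdef
    have e1 : x * a * x⁻¹ = sa * a := by rw [hsadef, commutatorElement_def]; group
    have e2 : x * b * x⁻¹ = sb * b := by rw [hsbdef, commutatorElement_def]; group
    have h1 : sa * a = a * sa := hCD a ha sa hsa
    have h2 : sb * b = b * sb := hCD b hb sb hsb
    have h3 : sa * b = b * sa := hCD b hb sa hsa
    have h4 : sb * a = a * sb := hCD a ha sb hsb
    have h5 : sb * sa = sa * sb := hCD sa (hDC hsa) sb hsb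
    have hXY : (sa * a) * (sb * b) = a * b * (sa * sb) := by
      calc (sa * a) * (sb * b) = (a * sa) * (b * sb) := by rw [h1, h2]
        _ = a * (sa * b) * sb := by group
        _ = a * (b * sa) * sb := by rw [h3]
        _ = a * b * (sa * sb) := by group
    have hYX : (sb * b) * (sa * a) = b * a * (sa * sb) := by
      calc (sb * b) * (sa * a) = (b * sb) * (a * sa) := by rw [h1, h2]
        _ = b * (sb * a) * sa := by group
        _ = b * (a * sb) * sa := by rw [h4]
        _ = b * a * (sb * sa) := by group
        _ = b * a * (sa * sb) := by rw [h5]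
    have hconj : x * ⁅a, b⁆ * x⁻¹ = ⁅a, b⁆ := by
      rw [conjugate_commutatorElement, e1, e2]
      calc ⁅sa * a, sb * b⁆ = ((sa * a) * (sb * b)) * ((sb * b) * (sa * a))⁻¹ := by
            simp only [commutatorElement_def]; group
        _ = (a * b * (sa * sb)) * (b * a * (sa * sb))⁻¹ := by rw [hXY, hYX]
        _ = ⁅a, b⁆ := by simp only [commutatorElement_def]; group
    calc x * ⁅a, b⁆ = (x * ⁅a, b⁆ * x⁻¹) * x := by group
      _ = ⁅a, b⁆ * x := by rw [hconj]
  -- commutators of elements of C lie in N
  have habN : ∀ a ∈ C, ∀ b ∈ C, ⁅a, b⁆ ∈ N := by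
    intro a ha b hb
    by_contra hcon
    have hr1 : (QuotientGroup.mk ⁅a, b⁆ : P ⧸ N) ≠ 1 := by
      rwa [Ne, QuotientGroup.eq_one_iff]
    have hrD : ⁅a, b⁆ ∈ commutator P := by
      rw [commutator_def]
      exact Subgroup.commutator_mem_commutator (Subgroup.mem_top a) (Subgroup.mem_top b)
    obtain ⟨i, n, hn, hi⟩ := hrepr ⁅a, b⁆ (hmkD _ hrD) hr1 t htD
    apply htZ
    rw [hi]
    exact Subgroup.mul_mem _ (Subgroup.zpow_mem _ (hcent a ha b hb) i) (hNZ hn)
  -- the image of C in the quotient is abelian of index p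
  set A : Subgroup (P ⧸ N) := C.map (QuotientGroup.mk' N) with hA
  have hAab : ∀ x ∈ A, ∀ y ∈ A, x * y = y * x := by
    rintro _ ⟨a, ha, rfl⟩ _ ⟨b, hb, rfl⟩
    have h1 := habN a ha b hb
    rw [← QuotientGroup.eq_one_iff] at h1
    have h2 : ⁅(QuotientGroup.mk' N a), (QuotientGroup.mk' N b)⁆ = 1 := by
      rw [← map_commutatorElement]; exact h1
    exact commutatorElement_eq_one_iff_mul_comm.mp h2
  have hAidx : A.index = p := by
    rw [hA, Subgroup.index_map, QuotientGroup.ker_mk', sup_of_le_left hNC,
      (QuotientGroup.mk' N).range_eq_top_of_surjective (QuotientGroup.mk'_surjective N),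
      Subgroup.index_top, mul_one, hCidx]
  have hQle := card_le_of_abelian_index_prime hp A hAab hAidx hQDZ
  rw [hQD, hZQ] at hQle
  have hPQ := Subgroup.card_eq_card_quotient_mul_card_subgroup N
  rw [hNcard] at hPQ
  calc Nat.card P = Nat.card (P ⧸ N) * p := hPQ
    _ ≤ (p * (p * p)) * p := Nat.mul_le_mul_right _ hQle
    _ = p ^ 4 := by ring

/-- A nonabelian `p`-group with the Galois conjugacy property has commutator subgroup of order
`p`. -/
theorem card_commutator_of_galConj_aux (p : ℕ) [Fact p.Prime] :
    ∀ (n : ℕ) (P : Type u) [Group P] [Finite P], Nat.card P ≤ n → IsPGroup p P →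
      (¬ ∀ a b : P, a * b = b * a) → GalConjProp P → Nat.card (commutator P) = p := by
  have hp : p.Prime := Fact.out
  intro n
  induction n with
  | zero =>
    intro P _ _ hc
    exact absurd hc (by have := Nat.card_pos (α := P); omega)
  | succ n ih =>
    intro P _ _ hcard hP hnab hGC
    have hDne : commutator P ≠ ⊥ := by
      intro h
      apply hnab
      intro a b
      have h3 : ⁅a, b⁆ ∈ commutator P := by
        rw [commutator_def]
        exact Subgroup.commutator_mem_commutator (Subgroup.mem_top a) (Subgroup.mem_top b)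
      rw [h, Subgroup.mem_bot] at h3
      exact commutatorElement_eq_one_iff_mul_comm.mp h3
    obtain ⟨z, hzD, hzZ, hz1, hzp⟩ :=
      Cfsg.Agent.Lib.helper3.exists_central_of_normal_ne_bot hP (commutator P) hDne
    by_contra hcon
    have hquot : ∀ (K : Subgroup P) [K.Normal], K ≤ commutator P → Nat.card K = p →
        Nat.card (commutator (P ⧸ K)) = p ∧ IsCyclic (Subgroup.center (P ⧸ K)) ∧
          ¬ commutator P ≤ K := by
      intro K _ hKD hK
      have hnle : ¬ commutator P ≤ K := by
        intro h
        apply hcon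
        rw [le_antisymm h hKD, hK]
      have hQnab : ¬ ∀ a b : P ⧸ K, a * b = b * a := by
        intro h
        apply hnle
        rw [← Subgroup.Normal.quotient_commutative_iff_commutator_le, isMulCommutative_iff]
        exact h
      have hQcard : Nat.card (P ⧸ K) ≤ n := by
        have h1 := Subgroup.card_eq_card_quotient_mul_card_subgroup K
        rw [hK] at h1
        have h2 : Nat.card (P ⧸ K) * 2 ≤ Nat.card (P ⧸ K) * p :=
          Nat.mul_le_mul_left _ hp.two_le
        have h3 : 0 < Nat.card (P ⧸ K) := Nat.card_pos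
        omega
      have hQGC := hGC.quotient K
      have hQD := ih (P ⧸ K) hQcard (hP.to_quotient K) hQnab hQGC
      exact ⟨hQD, hQGC.isCyclic_center hp hQD, hnle⟩
    set N : Subgroup P := Subgroup.zpowers z with hNdef
    have hNZ : N ≤ Subgroup.center P := Subgroup.zpowers_le.mpr hzZ
    have hND : N ≤ commutator P := Subgroup.zpowers_le.mpr hzD
    have hNn : N.Normal := normal_of_le_center' hNZ
    have hNcard : Nat.card N = p := by
      rw [hNdef, Nat.card_zpowers, orderOf_eq_prime hzp hz1]
    obtain ⟨hQD, hQZ, hnle⟩ := hquot N hND hNcard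
    have hDcard : Nat.card (commutator P) = p * p := by
      have h1 := card_map_mk_mul N (commutator P) hND
      have h2 : (commutator P).map (QuotientGroup.mk' N) = commutator (P ⧸ N) := by
        rw [commutator_def, Subgroup.map_commutator,
          Subgroup.map_top_of_surjective _ (QuotientGroup.mk'_surjective N), ← commutator_def]
      rw [h2, hQD, hNcard] at h1
      exact h1.symm
    have hzN : z ∈ N := Subgroup.mem_zpowers z
    apply hGC.false_of_same_degree N hnle z hzN hzD hz1
    by_cases hDZ : commutator P ≤ Subgroup.center P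
    · -- the commutator subgroup is central
      have hdeg : ∀ χ : IrrCharacter P, charDegree (χ : P → ℂ) ≠ 1 →
          charDegree (χ : P → ℂ) ^ 2 * Nat.card (Subgroup.center P) = Nat.card P ∨
          charDegree (χ : P → ℂ) ^ 2 * Nat.card (Subgroup.center P) * p = Nat.card P := by
        intro χ hχ
        obtain ⟨K, hKn, hK⟩ := exists_ker_of_isCharacter (isCharacter_of_irr χ.2)
        have hKD : K ≤ commutator P :=
          fun g hg => hGC.ker_le_commutator χ hχ g ((hK g).mp hg)
        have hKne : K ≠ commutator P := by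
          intro h
          apply hχ
          rw [charDegree_eq_one_iff, irr_linear_iff χ.2]
          intro y hy
          rw [← h] at hy
          exact (hK y).mp hy
        have hKdvd : Nat.card K ∣ p ^ 2 := by
          rw [pow_two, ← hDcard]; exact Subgroup.card_dvd_of_le hKD
        have hKc : Nat.card K = 1 ∨ Nat.card K = p := by
          obtain ⟨j, hj2, hj⟩ := (Nat.dvd_prime_pow hp).mp hKdvd
          interval_cases j
          · left; simpa using hj
          · right; simpa using hj
          · exfalso
            apply hKne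
            exact Subgroup.eq_of_le_of_card_ge hKD (by rw [hj, hDcard, pow_two])
        rcases hKc with hK1 | hKp
        · left
          have hKbot : K = ⊥ := Subgroup.card_eq_one.mp hK1
          apply irr_degree_sq_of_vanish χ
          apply irr_vanish_off_center hDZ χ
          intro x _ hx
          have : x ∈ K := (hK x).mpr hx
          rw [hKbot] at this
          exact Subgroup.mem_bot.mp this
        · have hKZ : K ≤ Subgroup.center P := hKD.trans hDZ
          obtain ⟨hQ2D, hQ2Z, hnle2⟩ := hquot K hKD hKp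
          obtain ⟨ψ, hψ, hψχ⟩ := isIrrCharacter_deflation K χ.2 (fun x hx => (hK x).mp hx)
          let ψ' : IrrCharacter (P ⧸ K) := ⟨ψ, hψ⟩
          have hψdeg : charDegree (ψ' : P ⧸ K → ℂ) = charDegree (χ : P → ℂ) := by
            unfold charDegree
            have h0 := hψχ 1
            rw [← h0]
            rfl
          have hψnl : charDegree (ψ' : P ⧸ K → ℂ) ≠ 1 := by rw [hψdeg]; exact hχ
          have hQ2DZ := commutator_le_center_of_card_prime (hP.to_quotient K) hQ2D
          have h1 := irr_degree_sq_of_commutator_prime hp hQ2DZ hQ2D ψ' hψnl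
          rw [hψdeg] at h1
          have h2 := Subgroup.card_eq_card_quotient_mul_card_subgroup K
          rw [hKp] at h2
          rcases card_center_quotient_cases hP K hKZ hKp hQ2Z with h3 | h3
          · left
            rw [← h3, h2, ← h1]; ring
          · right
            rw [← h3, h2, ← h1]
      intro χ ψ hχ hψ
      have hZpos : 0 < Nat.card (Subgroup.center P) := Nat.card_pos
      have hχ0 : charDegree (χ : P → ℂ) ≠ 0 := (charDegree_pos χ).ne'
      have hψ0 : charDegree (ψ : P → ℂ) ≠ 0 := (charDegree_pos ψ).ne'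
      rcases hdeg χ hχ with h1 | h1 <;> rcases hdeg ψ hψ with h2 | h2
      · have h3 : charDegree (χ : P → ℂ) ^ 2 = charDegree (ψ : P → ℂ) ^ 2 :=
          Nat.eq_of_mul_eq_mul_right hZpos (h1.trans h2.symm)
        exact Nat.pow_left_injective (by norm_num : (2 : ℕ) ≠ 0) h3
      · exfalso
        exact sq_mul_ne_sq_mul_prime hχ0 hψ0 hZpos (h1.trans h2.symm)
      · exfalso
        exact sq_mul_ne_sq_mul_prime hψ0 hχ0 hZpos (h2.trans h1.symm)
      · have h3 : charDegree (χ : P → ℂ) ^ 2 = charDegree (ψ : P → ℂ) ^ 2 := by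
          have h4 := h1.trans h2.symm
          rw [mul_assoc, mul_assoc] at h4
          exact Nat.eq_of_mul_eq_mul_right (Nat.mul_pos hZpos hp.pos) h4
        exact Nat.pow_left_injective (by norm_num : (2 : ℕ) ≠ 0) h3
    · -- the commutator subgroup is not central
      have hle := card_le_of_noncentral_commutator hP N hNZ hND hNcard hnle hQD hQZ hDZ
      intro χ ψ hχ hψ
      rw [charDegree_eq_prime_of_card_le hP hle χ hχ, charDegree_eq_prime_of_card_le hP hle ψ hψ]

/-- A nonabelian `p`-group with the Galois conjugacy property has cyclic centre and commutator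
subgroup of order `p`. -/
theorem GalConjProp.cyclic_center_and_card_commutator {P : Type u} [Group P] [Finite P] {p : ℕ}
    [Fact p.Prime] (hP : IsPGroup p P) (hnab : ¬ ∀ a b : P, a * b = b * a)
    (hGC : GalConjProp P) :
    IsCyclic (Subgroup.center P) ∧ Nat.card (commutator P) = p := by
  have hD := card_commutator_of_galConj_aux p (Nat.card P) P le_rfl hP hnab hGC
  exact ⟨hGC.isCyclic_center Fact.out hD, hD⟩

end Cfsg.Agent.Lib.helper21
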