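import Mathlib
import Cfsg.Agent.Lib.helper3.GfDefs

set_option autoImplicit false

namespace Cfsg.Agent.Lib.helper3.Gf

/-- `T` as an element of the endomorphism ring. -/
def h21E {V : Type*} [AddCommGroup V] (T : V ≃+ V) : AddMonoid.End V := T.toAddMonoidHom

theorem h21E_apply {V : Type*} [AddCommGroup V] (T : V ≃+ V) (v : V) : h21E T v = T v := rfl

theorem h21_end_pow_apply {V : Type*} [AddCommGroup V] (T : V ≃+ V) (n : ℕ) (v : V) :
    (h21E T ^ n) v = (⇑T)^[n] v := by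
  rw [AddMonoid.End.coe_pow]; rfl

theorem h21_end_sum_apply {V : Type*} [AddCommGroup V] (s : Finset ℕ) (f : ℕ → AddMonoid.End V)
    (x : V) : (∑ i ∈ s, f i) x = ∑ i ∈ s, (f i) x := by
  classical
  induction s using Finset.induction_on with
  | empty => rw [Finset.sum_empty, Finset.sum_empty]; rfl
  | insert a s ha ih => rw [Finset.sum_insert ha, Finset.sum_insert ha, ← ih]; rfl

/-- In an irreducible module, the geometric sum of an endomorphism `u ≠ 1` with `u ^ q = 1`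
commuting with `T` vanishes. -/
theorem h21_geom_zero {p q : ℕ} {V : Type*} [AddCommGroup V] (T : V ≃+ V) (h : Irr p q T)
    (u : AddMonoid.End V) (hcomm : ∀ w, u (T w) = T (u w)) (huq : u ^ q = 1) (hu1 : u ≠ 1) :
    ∑ n ∈ Finset.range q, u ^ n = 0 := by
  set s : AddMonoid.End V := ∑ n ∈ Finset.range q, u ^ n with hs
  have h1 : (u - 1) * s = 0 := by rw [hs, mul_geom_sum, huq, sub_self]
  let F : AddSubgroup V := AddMonoidHom.ker (u - 1 : AddMonoid.End V)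
  have hmemF : ∀ w, w ∈ F ↔ u w = w := by
    intro w
    have e : (u - 1 : AddMonoid.End V) w = u w - w := rfl
    show (u - 1 : AddMonoid.End V) w = 0 ↔ u w = w
    rw [e]
    exact sub_eq_zero
  have hF : ∀ w ∈ F, T w ∈ F := by
    intro w hw
    rw [hmemF] at hw ⊢
    rw [hcomm, hw]
  rcases h.irr F hF with h0 | htop
  · ext w
    have hsw : s w ∈ F := by
      rw [hmemF]
      have h2 : ((u - 1) * s) w = 0 := by rw [h1]; rfl
      have h3 : ((u - 1) * s) w = u (s w) - s w := rfl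
      rw [h3] at h2
      exact sub_eq_zero.1 h2
    rw [h0, AddSubgroup.mem_bot] at hsw
    rw [hsw]; rfl
  · exfalso; apply hu1; ext w
    have hw : w ∈ F := by rw [htop]; trivial
    rw [hmemF] at hw
    rw [hw]; rfl

theorem h21_exists_hom (p : ℕ) [Fact p.Prime] {V₁ V₂ : Type*} [AddCommGroup V₁] [AddCommGroup V₂]
    [Module (ZMod p) V₁] [Module (ZMod p) V₂] (v₁ : V₁) (v₂ : V₂) (hv₁0 : v₁ ≠ 0) (hv₂0 : v₂ ≠ 0) :
    ∃ (φ₀ : V₁ →+ V₂) (x₀ : V₁), φ₀ x₀ ≠ 0 := by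
  obtain ⟨f, hf⟩ : ∃ f : V₁ →ₗ[ZMod p] ZMod p, f v₁ ≠ 0 := by
    by_contra hcon
    push Not at hcon
    exact hv₁0 ((Module.forall_dual_apply_eq_zero_iff (ZMod p) v₁).1 hcon)
  refine ⟨((LinearMap.toSpanSingleton (ZMod p) V₂ v₂).comp f).toAddMonoidHom, v₁, ?_⟩
  show (f v₁) • v₂ ≠ 0
  exact smul_ne_zero hf hv₂0

/-- asymmetric form: an injective intertwiner. -/
theorem h21_irr_inj (p q : ℕ) [Fact p.Prime] [Fact q.Prime] (hpq : p ≠ q) {V₁ V₂ : Type*}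
    [AddCommGroup V₁] [AddCommGroup V₂]
    (T₁ : V₁ ≃+ V₁) (T₂ : V₂ ≃+ V₂) (h₁ : Irr p q T₁) (h₂ : Irr p q T₂) :
    ∃ (m : ℕ) (ψ : V₁ →+ V₂), 0 < m ∧ m < q ∧ Function.Injective ψ ∧
      ∀ v : V₁, ψ (T₁ v) = (⇑T₂)^[m] (ψ v) := by
  classical
  have hq : q.Prime := Fact.out
  have hp : p.Prime := Fact.out
  set t₁ : AddMonoid.End V₁ := h21E T₁ with ht₁
  set t₂ : AddMonoid.End V₂ := h21E T₂ with ht₂
  have ht₁q : t₁ ^ q = 1 := by
    ext v; rw [h21_end_pow_apply]; exact h₁.pow v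
  have ht₂q : t₂ ^ q = 1 := by
    ext v; rw [h21_end_pow_apply]; exact h₂.pow v
  have ht₁1 : t₁ ≠ 1 := by
    obtain ⟨v, hv⟩ := h₁.ne
    intro h; apply hv
    have h2 : t₁ v = (1 : AddMonoid.End V₁) v := by rw [h]
    exact h2
  have ht₂1 : t₂ ≠ 1 := by
    obtain ⟨v, hv⟩ := h₂.ne
    intro h; apply hv
    have h2 : t₂ v = (1 : AddMonoid.End V₂) v := by rw [h]
    exact h2
  -- a nonzero additive map
  obtain ⟨φ₀, x₀, hφ₀⟩ : ∃ (φ₀ : V₁ →+ V₂) (x₀ : V₁), φ₀ x₀ ≠ 0 := by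
    obtain ⟨v₁, hv₁⟩ := h₁.ne
    obtain ⟨v₂, hv₂⟩ := h₂.ne
    have hv₁0 : v₁ ≠ 0 := by rintro rfl; exact hv₁ (map_zero T₁)
    have hv₂0 : v₂ ≠ 0 := by rintro rfl; exact hv₂ (map_zero T₂)
    exact @h21_exists_hom p _ V₁ V₂ _ _ (AddCommGroup.zmodModule h₁.exp)
      (AddCommGroup.zmodModule h₂.exp) v₁ v₂ hv₁0 hv₂0
  -- the averaged maps
  let Φ : ℕ → (V₁ →+ V₂) := fun n =>
    ∑ i ∈ Finset.range q, ((t₂ ^ (n * i)).comp (φ₀.comp (t₁ ^ i)))
  have hΦ : ∀ n x, Φ n x = ∑ i ∈ Finset.range q, (t₂ ^ (n * i)) (φ₀ ((t₁ ^ i) x)) := by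
    intro n x
    simp only [Φ, AddMonoidHom.finsetSum_apply]
    rfl
  have hord : orderOf t₂ = q := orderOf_eq_prime ht₂q ht₂1
  have hgeom₂ : ∀ i, 0 < i → i < q → ∑ n ∈ Finset.range q, (t₂ ^ i) ^ n = 0 := by
    intro i hi0 hiq
    apply h21_geom_zero T₂ h₂ (t₂ ^ i)
    · intro w
      have e1 : (t₂ ^ i) (T₂ w) = (t₂ ^ i * t₂) w := rfl
      have e2 : T₂ ((t₂ ^ i) w) = (t₂ * t₂ ^ i) w := rfl
      rw [e1, e2, ← pow_succ, ← pow_succ']
    · rw [← pow_mul, mul_comm, pow_mul, ht₂q, one_pow]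
    · exact pow_ne_one_of_lt_orderOf (Nat.pos_iff_ne_zero.1 hi0) (by rw [hord]; exact hiq)
  have hgeom₁ : ∑ n ∈ Finset.range q, t₁ ^ n = 0 :=
    h21_geom_zero T₁ h₁ t₁ (fun w => rfl) ht₁q ht₁1
  have hΦ0 : ∀ x, Φ 0 x = 0 := by
    intro x
    rw [hΦ]
    have e : ∀ i ∈ Finset.range q, (t₂ ^ (0 * i)) (φ₀ ((t₁ ^ i) x)) = φ₀ ((t₁ ^ i) x) := by
      intro i _
      rw [zero_mul, pow_zero]; rfl
    rw [Finset.sum_congr rfl e, ← map_sum]
    have e2 : ∑ i ∈ Finset.range q, (t₁ ^ i) x = (∑ i ∈ Finset.range q, t₁ ^ i) x := by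
      rw [h21_end_sum_apply]
    rw [e2, hgeom₁]
    exact map_zero φ₀
  have hsum : ∀ x, ∑ n ∈ Finset.range q, Φ n x = q • φ₀ x := by
    intro x
    have e : ∀ n ∈ Finset.range q, Φ n x =
        ∑ i ∈ Finset.range q, ((t₂ ^ i) ^ n) (φ₀ ((t₁ ^ i) x)) := by
      intro n _
      rw [hΦ]
      refine Finset.sum_congr rfl (fun i _ => ?_)
      rw [pow_mul']
    rw [Finset.sum_congr rfl e, Finset.sum_comm]
    have e3 : ∀ i ∈ Finset.range q, ∑ n ∈ Finset.range q, ((t₂ ^ i) ^ n) (φ₀ ((t₁ ^ i) x)) =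
        (∑ n ∈ Finset.range q, (t₂ ^ i) ^ n) (φ₀ ((t₁ ^ i) x)) := by
      intro i _
      rw [h21_end_sum_apply]
    rw [Finset.sum_congr rfl e3]
    rw [Finset.sum_eq_single 0]
    · rw [pow_zero, pow_zero]
      simp only [one_pow, Finset.sum_const, Finset.card_range]
      rfl
    · intro i hi hi0
      rw [hgeom₂ i (Nat.pos_of_ne_zero hi0) (Finset.mem_range.1 hi)]
      rfl
    · intro h0
      exact absurd (Finset.mem_range.2 hq.pos) h0
  have hqφ : q • φ₀ x₀ ≠ 0 := by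
    intro h0
    apply hφ₀
    have d1 : addOrderOf (φ₀ x₀) ∣ q := addOrderOf_dvd_of_nsmul_eq_zero h0
    have d2 : addOrderOf (φ₀ x₀) ∣ p := addOrderOf_dvd_of_nsmul_eq_zero (h₂.exp _)
    have d3 : addOrderOf (φ₀ x₀) ∣ Nat.gcd p q := Nat.dvd_gcd d2 d1
    rw [(Nat.coprime_primes hp hq).2 hpq] at d3
    exact AddMonoid.addOrderOf_eq_one_iff.1 (Nat.dvd_one.1 d3)
  obtain ⟨n, hnq, hn⟩ : ∃ n ∈ Finset.range q, Φ n x₀ ≠ 0 := by
    apply Finset.exists_ne_zero_of_sum_ne_zero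
    rw [hsum]; exact hqφ
  have hnq' : n < q := Finset.mem_range.1 hnq
  have hn0 : n ≠ 0 := by
    rintro rfl
    exact hn (hΦ0 x₀)
  -- the intertwining relation
  have hrel : ∀ x, (t₂ ^ n) (Φ n (T₁ x)) = Φ n x := by
    intro x
    rw [hΦ, hΦ, map_sum]
    set g : ℕ → V₂ := fun j => (t₂ ^ (n * j)) (φ₀ ((t₁ ^ j) x)) with hg
    have e1 : ∀ i ∈ Finset.range q,
        (t₂ ^ n) ((t₂ ^ (n * i)) (φ₀ ((t₁ ^ i) (T₁ x)))) = g (i + 1) := by
      intro i _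
      have a1 : (t₁ ^ i) (T₁ x) = (t₁ ^ (i + 1)) x := by
        rw [pow_succ]; rfl
      have a2 : ∀ w, (t₂ ^ n) ((t₂ ^ (n * i)) w) = (t₂ ^ (n * (i + 1))) w := by
        intro w
        have : n * (i + 1) = n + n * i := by ring
        rw [this, pow_add]; rfl
      rw [a1, a2]
    rw [Finset.sum_congr rfl e1]
    have e2 : ∑ i ∈ Finset.range q, g (i + 1) + g 0 = ∑ i ∈ Finset.range q, g i + g q := by
      rw [← Finset.sum_range_succ', ← Finset.sum_range_succ]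
    have e3 : g q = g 0 := by
      simp only [hg]
      rw [mul_zero, pow_zero, pow_zero, mul_comm, pow_mul, ht₂q, one_pow, ht₁q]
    rw [e3] at e2
    exact add_right_cancel e2
  refine ⟨q - n, Φ n, by omega, by omega, ?_, ?_⟩
  · -- injectivity
    have hinv : ∀ x, Φ n (T₁ x) = (⇑T₂)^[q - n] (Φ n x) := by
      intro x
      have h3 : (t₂ ^ (q - n)) ((t₂ ^ n) (Φ n (T₁ x))) = (t₂ ^ (q - n)) (Φ n x) := by
        rw [hrel x]
      have h4 : (t₂ ^ (q - n)) ((t₂ ^ n) (Φ n (T₁ x))) = (t₂ ^ q) (Φ n (T₁ x)) := by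
        have : q = (q - n) + n := by omega
        conv_rhs => rw [this, pow_add]
        rfl
      rw [h4, ht₂q] at h3
      rw [← h21_end_pow_apply]
      exact h3
    rw [injective_iff_map_eq_zero]
    intro x hx
    have hK : ∀ w ∈ (Φ n).ker, T₁ w ∈ (Φ n).ker := by
      intro w hw
      rw [AddMonoidHom.mem_ker] at hw ⊢
      rw [hinv, hw, ← h21_end_pow_apply]
      exact map_zero _
    rcases h₁.irr (Φ n).ker hK with h0 | htop
    · have : x ∈ (Φ n).ker := hx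
      rw [h0, AddSubgroup.mem_bot] at this
      exact this
    · exfalso
      apply hn
      have : x₀ ∈ (Φ n).ker := by rw [htop]; trivial
      exact this
  · intro x
    have h3 : (t₂ ^ (q - n)) ((t₂ ^ n) (Φ n (T₁ x))) = (t₂ ^ (q - n)) (Φ n x) := by
      rw [hrel x]
    have h4 : (t₂ ^ (q - n)) ((t₂ ^ n) (Φ n (T₁ x))) = (t₂ ^ q) (Φ n (T₁ x)) := by
      have : q = (q - n) + n := by omega
      conv_rhs => rw [this, pow_add]
      rfl
    rw [h4, ht₂q] at h3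
    rw [← h21_end_pow_apply]
    exact h3

/-- IRRMATCH (racing copy by helper21, verbatim statement) -/
theorem h21_irr_match (p q : ℕ) [Fact p.Prime] [Fact q.Prime] (hpq : p ≠ q) {V₁ V₂ : Type*}
    [AddCommGroup V₁] [Finite V₁] [AddCommGroup V₂] [Finite V₂]
    (T₁ : V₁ ≃+ V₁) (T₂ : V₂ ≃+ V₂) (h₁ : Irr p q T₁) (h₂ : Irr p q T₂) :
    ∃ (m : ℕ) (ψ : V₁ ≃+ V₂), ¬ q ∣ m ∧ ∀ v : V₁, ψ (T₁ v) = (⇑T₂)^[m] (ψ v) := by
  obtain ⟨m, ψ, hm0, hmq, hinj, hrel⟩ := h21_irr_inj p q hpq T₁ T₂ h₁ h₂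
  obtain ⟨_, ψ', _, _, hinj', _⟩ := h21_irr_inj p q hpq T₂ T₁ h₂ h₁
  have hcard : Nat.card V₂ ≤ Nat.card V₁ := Nat.card_le_card_of_injective ψ' hinj'
  have hbij : Function.Bijective ψ := hinj.bijective_of_nat_card_le hcard
  exact ⟨m, AddEquiv.ofBijective ψ hbij, Nat.not_dvd_of_pos_of_lt hm0 hmq, hrel⟩

end Cfsg.Agent.Lib.helper3.Gf
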