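import Mathlib

set_option autoImplicit false

namespace Cfsg.Agent.Lib.helper21

open Subgroup MulAction

/-- A permutation `σ` with `σ ^ 2 = 1` on a finite set has `k` transpositions, where the size of
the set is the number of fixed points plus `2 * k`, and `sign σ = (-1) ^ k`. -/
theorem exists_card_eq_add_of_sq_eq_one {α : Type*} [Fintype α] [DecidableEq α]
    (σ : Equiv.Perm α) (h : σ ^ 2 = 1) :
    ∃ k : ℕ, Fintype.card α = Fintype.card (Function.fixedPoints σ) + 2 * k ∧
      Equiv.Perm.sign σ = (-1) ^ k := by
  have hct : σ.cycleType = Multiset.replicate (Multiset.card σ.cycleType) 2 := by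
    rw [Multiset.eq_replicate_card]
    intro n hn
    have h1 : n ∣ 2 := (Equiv.Perm.dvd_of_mem_cycleType hn).trans (orderOf_dvd_of_pow_eq_one h)
    have h2 := Equiv.Perm.two_le_of_mem_cycleType hn
    exact Nat.le_antisymm (Nat.le_of_dvd (by norm_num) h1) h2
  have hsum : σ.cycleType.sum = 2 * Multiset.card σ.cycleType := by
    conv_lhs => rw [hct]
    rw [Multiset.sum_replicate, smul_eq_mul, mul_comm]
  refine ⟨Multiset.card σ.cycleType, ?_, ?_⟩
  · have h1 := σ.card_fixedPoints
    have h2 := σ.sum_cycleType_le
    omega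
  · rw [Equiv.Perm.sign_of_cycleType, hsum, pow_add, pow_mul]
    simp

/-- In a finite simple group of order greater than `2`, every element acts as an even
permutation on every finite `G`-set. -/
theorem sign_toPerm_eq_one_of_simple {G : Type*} [Group G] [Finite G] [IsSimpleGroup G]
    (hcard : 2 < Nat.card G) {X : Type*} [MulAction G X] [Fintype X] [DecidableEq X] (g : G) :
    Equiv.Perm.sign (MulAction.toPerm g : Equiv.Perm X) = 1 := by
  let σ : G →* ℤˣ := Equiv.Perm.sign.comp (MulAction.toPermHom G X)
  rcases (MonoidHom.normal_ker σ).eq_bot_or_eq_top with h | h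
  · exfalso
    have hσ : Function.Injective σ := (MonoidHom.ker_eq_bot_iff σ).mp h
    have h1 := Nat.card_le_card_of_injective σ hσ
    have h2 : Nat.card ℤˣ = 2 := by
      rw [Nat.card_eq_fintype_card]
      exact Fintype.card_units_int
    omega
  · have h1 : g ∈ MonoidHom.ker σ := by rw [h]; trivial
    exact h1

/-- An involution `x` in a finite simple group of order greater than `2` acting on a finite
set `X`: `|X| = |Fix(x)| + 4 * j` for some `j`. -/
theorem exists_card_eq_fixedBy_add_four_mul_of_simple {G : Type*} [Group G] [Finite G]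
    [IsSimpleGroup G] (hcard : 2 < Nat.card G) {X : Type*} [MulAction G X] [Finite X] (x : G)
    (hx : x ^ 2 = 1) : ∃ j : ℕ, Nat.card X = Nat.card (fixedBy X x) + 4 * j := by
  classical
  have : Fintype X := Fintype.ofFinite X
  have h2 : (MulAction.toPerm x : Equiv.Perm X) ^ 2 = 1 := by
    have h3 : MulAction.toPermHom G X x ^ 2 = 1 := by rw [← map_pow, hx, map_one]
    exact h3
  obtain ⟨k, hk1, hk2⟩ := exists_card_eq_add_of_sq_eq_one (MulAction.toPerm x : Equiv.Perm X) h2
  rw [sign_toPerm_eq_one_of_simple hcard x] at hk2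
  have hk3 : Even k := by
    by_contra hodd
    rw [Nat.not_even_iff_odd] at hodd
    rw [hodd.neg_one_pow] at hk2
    exact absurd hk2 (by decide)
  obtain ⟨j, hj⟩ := hk3
  refine ⟨j, ?_⟩
  have h4 : Nat.card (fixedBy X x) =
      Fintype.card (Function.fixedPoints (MulAction.toPerm x : Equiv.Perm X)) := by
    rw [← Nat.card_eq_fintype_card]
    rfl
  rw [Nat.card_eq_fintype_card, h4, hk1, hj]
  omega

end Cfsg.Agent.Lib.helper21
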