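import Mathlib
import Cfsg.Prelude.Def_Characters
import Cfsg.Prelude.Def_Blocks
import Cfsg.Agent.Lib.helper83.CharBasic2
import Cfsg.Agent.Lib.helper82.CharQuot
import Cfsg.Agent.Lib.helper82.CharInt
import Cfsg.Agent.Lib.helper4.CharDecomp
import Cfsg.Agent.Lib.helper20.Induced
import Cfsg.Agent.Lib.helper19.LinChar
import Cfsg.Agent.Lib.helper43.Constituent

set_option autoImplicit false
set_option linter.unusedSectionVars false

/-!
# Constituents of `(χ_N)^G` when `G = K N` and `K ≤ ker χ`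

If `χ` is an irreducible character of `G` with `K ≤ ker χ` and `G = K N`, then `χ_N` is
irreducible, and either `χ` vanishes on `N` off the core of `N`, or `(χ_N)^G` has an irreducible
constituent `ψ` of larger degree; such a `ψ` satisfies `ker ψ ∩ N ≤ ker χ` and `K ≰ ker ψ`.
-/

namespace Cfsg.Agent.Lib.helper21

open Cfsg
open scoped ComplexConjugate

universe u

variable {G : Type u} [Group G]

/-- Restriction to `N` of an irreducible character with `K` in its kernel is irreducible when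
`G = K N`. -/
theorem isIrrCharacter_restrict_of_sup_eq_top [Finite G] (K N : Subgroup G) [K.Normal]
    {χ : G → ℂ} (hχ : IsIrrCharacter G χ) (hK : ∀ k ∈ K, χ k = χ 1) (hKN : K ⊔ N = ⊤) :
    IsIrrCharacter N (fun n : N => χ n) := by
  obtain ⟨χ', ⟨n, ρ, hρ, hρχ⟩, hχ'⟩ := Cfsg.Agent.Lib.helper82.isIrrCharacter_deflation K hχ hK
  have hf : Function.Surjective ((QuotientGroup.mk' K).comp N.subtype) := by
    intro q
    obtain ⟨g, rfl⟩ := QuotientGroup.mk_surjective q
    have hg : g ∈ ((K ⊔ N : Subgroup G) : Set G) := by rw [hKN]; trivial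
    rw [Subgroup.normal_mul] at hg
    obtain ⟨k, hk, m, hm, rfl⟩ := Set.mem_mul.mp hg
    refine ⟨⟨m, hm⟩, ?_⟩
    have h1 : ((k : G) : G ⧸ K) = 1 := (QuotientGroup.eq_one_iff k).mpr hk
    simp [h1]
  refine ⟨n, Cfsg.Agent.Lib.helper82.compRep ((QuotientGroup.mk' K).comp N.subtype) ρ,
    (Cfsg.Agent.Lib.helper82.isIrreducible_comp_iff _ hf ρ).mpr hρ, ?_⟩
  funext x
  rw [Cfsg.Agent.Lib.helper82.character_comp, hρχ]
  exact hχ' x

/-- A complex number of norm at most `a` which, added to one of norm at most `b`, gives `a + b`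
is `a`. -/
theorem eq_of_norm_le_of_add_eq {z w : ℂ} {a b : ℝ} (hz : ‖z‖ ≤ a) (hw : ‖w‖ ≤ b)
    (h : z + w = (a : ℂ) + b) : z = a := by
  have h1 : z.re ≤ ‖z‖ := Complex.re_le_norm z
  have h2 : w.re ≤ ‖w‖ := Complex.re_le_norm w
  have h3 : z.re + w.re = a + b := by
    have := congrArg Complex.re h
    simpa using this
  have hre : z.re = a := by linarith
  have him : z.im = 0 := by
    have h4 : ‖z‖ ^ 2 = z.re ^ 2 + z.im ^ 2 := by
      rw [Complex.sq_norm, Complex.normSq_apply]; ring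
    have h5 : ‖z‖ ^ 2 ≤ a ^ 2 := by
      have := norm_nonneg z
      nlinarith
    have h6 : z.im ^ 2 ≤ 0 := by rw [hre] at h4; linarith
    nlinarith [sq_nonneg z.im]
  apply Complex.ext <;> simp [hre, him]

/-- The values of a character are bounded by its degree. -/
theorem exists_nat_norm_le_of_isCharacter [Finite G] {α : G → ℂ} (hα : IsCharacter G α) :
    ∃ n : ℕ, α 1 = n ∧ ∀ g, ‖α g‖ ≤ n := by
  obtain ⟨n, ρ, rfl⟩ := hα
  refine ⟨n, ?_, fun g => ?_⟩
  · rw [Representation.char_one, Module.finrank_fin_fun]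
  · have := Cfsg.Agent.Lib.helper82.norm_char_le ρ g
    rwa [Module.finrank_fin_fun] at this

/-- If a character `Ψ = θ + η` takes the value `Ψ 1` at `x`, then so does `θ`. -/
theorem eq_one_of_add_eq_one [Finite G] {θ η : G → ℂ} (hθ : IsCharacter G θ)
    (hη : IsCharacter G η) (x : G) (h : θ x + η x = θ 1 + η 1) : θ x = θ 1 := by
  obtain ⟨n1, h1, b1⟩ := exists_nat_norm_le_of_isCharacter hθ
  obtain ⟨n2, h2, b2⟩ := exists_nat_norm_le_of_isCharacter hη
  rw [h1]
  have := eq_of_norm_le_of_add_eq (a := (n1 : ℝ)) (b := (n2 : ℝ)) (b1 x) (b2 x)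
    (by rw [h, h1, h2]; push_cast; ring)
  simpa using this

/-- Main lemma on the constituents of `(χ_N)^G` for `G = K N`, `K ≤ ker χ`. -/
theorem exists_larger_constituent [Finite G] (χ : IrrCharacter G) (K N : Subgroup G) [K.Normal]
    (hK : ∀ k ∈ K, (χ : G → ℂ) k = (χ : G → ℂ) 1) (hKN : K ⊔ N = ⊤) :
    (∀ n ∈ N, (χ : G → ℂ) n ≠ 0 → ∀ x : G, x⁻¹ * n * x ∈ N) ∨
    ∃ ψ : IrrCharacter G, charDegree (χ : G → ℂ) < charDegree (ψ : G → ℂ) ∧
      (∀ x ∈ N, (ψ : G → ℂ) x = (ψ : G → ℂ) 1 → (χ : G → ℂ) x = (χ : G → ℂ) 1) ∧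
      ¬ (∀ k ∈ K, (ψ : G → ℂ) k = (ψ : G → ℂ) 1) := by
  classical
  have instG : Fintype G := Fintype.ofFinite G
  have instN : Fintype N := Fintype.ofFinite N
  have instI : Fintype (IrrCharacter G) := Fintype.ofFinite _
  have hθirr : IsIrrCharacter N (fun n : N => (χ : G → ℂ) n) :=
    isIrrCharacter_restrict_of_sup_eq_top K N χ.2 hK hKN
  have hθch : IsCharacter N (fun n : N => (χ : G → ℂ) n) :=
    Cfsg.Agent.Lib.helper4.isCharacter_restrict N (Cfsg.Agent.Lib.helper83.isCharacter_of_irr χ.2)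
  -- decomposition of the restriction of a constituent
  have hdec : ∀ ψ : IrrCharacter G,
      classInner (fun n : N => (χ : G → ℂ) n) (fun n : N => (ψ : G → ℂ) n) ≠ 0 →
      ∃ η : N → ℂ, IsCharacter N η ∧
        (fun n : N => (ψ : G → ℂ) n) = (fun n : N => (χ : G → ℂ) n) + η := by
    intro ψ hψ
    have hψN : IsCharacter N (fun n : N => (ψ : G → ℂ) n) :=
      Cfsg.Agent.Lib.helper4.isCharacter_restrict N
        (Cfsg.Agent.Lib.helper83.isCharacter_of_irr ψ.2)
    have h2 : classInner (fun n : N => (ψ : G → ℂ) n) (fun n : N => (χ : G → ℂ) n) ≠ 0 := by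
      rw [Cfsg.Agent.Lib.helper20.classInner_conj_symm']
      intro h0
      apply hψ
      have := congrArg (starRingEnd ℂ) h0
      simpa using this
    exact Cfsg.Agent.Lib.helper43.exists_add_of_classInner_ne_zero hψN hθirr h2
  by_cases hyp : ∀ ψ : IrrCharacter G,
      classInner (fun n : N => (χ : G → ℂ) n) (fun n : N => (ψ : G → ℂ) n) ≠ 0 →
      charDegree (ψ : G → ℂ) ≤ charDegree (χ : G → ℂ)
  · left
    have hres : ∀ ψ : IrrCharacter G,
        classInner (fun n : N => (χ : G → ℂ) n) (fun n : N => (ψ : G → ℂ) n) ≠ 0 →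
        ∀ n : N, (ψ : G → ℂ) n = (χ : G → ℂ) n := by
      intro ψ hψ
      obtain ⟨η, hη, hsum⟩ := hdec ψ hψ
      obtain ⟨m, hm⟩ := Cfsg.Agent.Lib.helper4.exists_nat_degree hη
      have h1 := congrFun hsum 1
      simp only [Pi.add_apply, Subgroup.coe_one] at h1
      rw [Cfsg.Agent.Lib.helper83.irr_one_eq_charDegree, Cfsg.Agent.Lib.helper83.irr_one_eq_charDegree,
        hm] at h1
      have h3 : charDegree (ψ : G → ℂ) = charDegree (χ : G → ℂ) + m := by exact_mod_cast h1
      have hm0 : m = 0 := by have := hyp ψ hψ; omega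
      have hη0 : η = 0 :=
        Cfsg.Agent.Lib.helper43.isCharacter_eq_zero_of_one hη (by rw [hm, hm0]; simp)
      intro n
      have := congrFun hsum n
      simpa [hη0] using this
    have hcf : IsClassFunction G (indFun N (fun n : N => (χ : G → ℂ) n)) :=
      Cfsg.Agent.Lib.helper20.isClassFunction_indFun N _
    have hcoef : ∀ ψ : IrrCharacter G,
        classInner (indFun N (fun n : N => (χ : G → ℂ) n)) (ψ : G → ℂ) =
          classInner (fun n : N => (χ : G → ℂ) n) (fun n : N => (ψ : G → ℂ) n) := by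
      intro ψ
      apply Cfsg.Agent.Lib.helper20.classInner_indFun
      intro x y hxy
      obtain ⟨c, hc⟩ := isConj_iff.mp hxy
      rw [← hc]
      exact (Cfsg.Agent.Lib.helper83.isClassFunction_irr ψ x c).symm
    have hexp : ∀ n : N, indFun N (fun n : N => (χ : G → ℂ) n) (n : G) =
        (∑ ψ : IrrCharacter G, classInner (indFun N (fun n : N => (χ : G → ℂ) n)) (ψ : G → ℂ)) *
          (χ : G → ℂ) n := by
      intro n
      rw [Cfsg.Agent.Lib.helper83.classFunction_expansion' _ hcf, Finset.sum_mul]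
      refine Finset.sum_congr rfl fun ψ _ => ?_
      by_cases h0 : classInner (indFun N (fun n : N => (χ : G → ℂ) n)) (ψ : G → ℂ) = 0
      · rw [h0]; simp
      · rw [hres ψ (by rwa [← hcoef ψ])]
    have hΘ1 : indFun N (fun n : N => (χ : G → ℂ) n) 1 =
        (Nat.card N : ℂ)⁻¹ * (Nat.card G : ℂ) * (χ : G → ℂ) 1 := by
      rw [Cfsg.Agent.Lib.helper19.indFun_apply]
      have h1 : ∀ x : G, extendByZero N (fun n : N => (χ : G → ℂ) n) (x⁻¹ * 1 * x) =
          (χ : G → ℂ) 1 := by
        intro x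
        rw [show x⁻¹ * 1 * x = ((1 : N) : G) by simp, Cfsg.Agent.Lib.helper19.extendByZero_coe]
        simp
      rw [Finset.sum_congr rfl (fun x _ => h1 x)]
      simp [Nat.card_eq_fintype_card]
      ring
    intro n hn hχn x
    have hΘn : indFun N (fun n : N => (χ : G → ℂ) n) n =
        (Nat.card N : ℂ)⁻¹ * ((Finset.univ.filter (fun y : G => y⁻¹ * n * y ∈ N)).card : ℂ) *
          (χ : G → ℂ) n := by
      rw [Cfsg.Agent.Lib.helper19.indFun_apply]
      have h1 : ∀ y : G, extendByZero N (fun n : N => (χ : G → ℂ) n) (y⁻¹ * n * y) =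
          if y⁻¹ * n * y ∈ N then (χ : G → ℂ) n else 0 := by
        intro y
        split_ifs with hy
        · rw [Cfsg.Agent.Lib.helper19.extendByZero_of_mem N _ _ hy]
          show (χ : G → ℂ) (y⁻¹ * n * y) = (χ : G → ℂ) n
          have := Cfsg.Agent.Lib.helper83.isClassFunction_irr χ n y⁻¹
          simpa using this
        · exact Cfsg.Agent.Lib.helper19.extendByZero_of_not_mem N _ _ hy
      rw [Finset.sum_congr rfl (fun y _ => h1 y), Finset.sum_ite, Finset.sum_const_zero, add_zero,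
        Finset.sum_const, nsmul_eq_mul]
      ring
    have e1 := hexp ⟨n, hn⟩
    have e2 := hexp 1
    simp only [Subgroup.coe_one] at e1 e2
    have hχ1 : (χ : G → ℂ) 1 ≠ 0 := Cfsg.Agent.Lib.helper4.irr_degree_ne_zero χ.2
    have hA : (∑ ψ : IrrCharacter G,
        classInner (indFun N (fun n : N => (χ : G → ℂ) n)) (ψ : G → ℂ)) =
        (Nat.card N : ℂ)⁻¹ * (Nat.card G : ℂ) :=
      mul_right_cancel₀ hχ1 (by rw [← e2, hΘ1])
    have hNne : (Nat.card N : ℂ) ≠ 0 := Nat.cast_ne_zero.mpr Nat.card_pos.ne'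
    have hc : (((Finset.univ.filter (fun y : G => y⁻¹ * n * y ∈ N)).card : ℕ) : ℂ) =
        (Nat.card G : ℂ) := by
      have h3 : (Nat.card N : ℂ)⁻¹ *
          ((Finset.univ.filter (fun y : G => y⁻¹ * n * y ∈ N)).card : ℂ) =
          (Nat.card N : ℂ)⁻¹ * (Nat.card G : ℂ) := by
        apply mul_right_cancel₀ hχn
        rw [← hΘn, e1, hA]
      exact mul_left_cancel₀ (inv_ne_zero hNne) h3
    have hc' : (Finset.univ.filter (fun y : G => y⁻¹ * n * y ∈ N)).card = Fintype.card G := by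
      rw [Nat.card_eq_fintype_card] at hc
      exact_mod_cast hc
    have huniv := (Finset.card_eq_iff_eq_univ _).mp hc'
    have hx := Finset.mem_univ x
    rw [← huniv] at hx
    exact (Finset.mem_filter.mp hx).2
  · right
    push Not at hyp
    obtain ⟨ψ, hψ, hdeg⟩ := hyp
    refine ⟨ψ, hdeg, ?_, ?_⟩
    · obtain ⟨η, hη, hsum⟩ := hdec ψ hψ
      intro x hx hψx
      have e1 := congrFun hsum ⟨x, hx⟩
      have e2 := congrFun hsum 1
      simp only [Pi.add_apply, Subgroup.coe_one] at e1 e2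
      have h3 := eq_one_of_add_eq_one hθch hη ⟨x, hx⟩ (by
        simp only [Subgroup.coe_one]
        rw [← e1, ← e2]; exact hψx)
      simpa using h3
    · intro hKψ
      have hψirr : IsIrrCharacter N (fun n : N => (ψ : G → ℂ) n) :=
        isIrrCharacter_restrict_of_sup_eq_top K N ψ.2 hKψ hKN
      have h4 := Cfsg.Agent.Lib.helper83.classInner_irr
        (⟨fun n : N => (χ : G → ℂ) n, hθirr⟩ : IrrCharacter N) ⟨_, hψirr⟩
      by_cases heq : (⟨fun n : N => (χ : G → ℂ) n, hθirr⟩ : IrrCharacter N) = ⟨_, hψirr⟩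
      · have h5 := congrFun (congrArg Subtype.val heq) 1
        simp only [Subgroup.coe_one] at h5
        rw [Cfsg.Agent.Lib.helper83.irr_one_eq_charDegree,
          Cfsg.Agent.Lib.helper83.irr_one_eq_charDegree] at h5
        have h6 : charDegree (χ : G → ℂ) = charDegree (ψ : G → ℂ) := by exact_mod_cast h5
        omega
      · rw [if_neg heq] at h4
        exact hψ h4

end Cfsg.Agent.Lib.helper21
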