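import Mathlib
import Cfsg.Agent.Lib.helper21.M11Defs

set_option autoImplicit false

/-!
# More definitions for a simple group of order 7920 (helper21)

* `M11FullData P α₁ α₂ α₃ β γ₁ γ₂ ψ₁ ψ₂ ψ₃`: the complete list of irreducible characters
  `1, α₁, α₂, α₃ (10), β (45), γ₁, γ₂ (16), ψ₁ (11), ψ₂ (44), ψ₃ (55)` together with the values
  on a Sylow `11`-subgroup `P` and the relation `γ₁ = γ₂ = 1 - α₁ - α₂ - α₃ + β` off the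
  conjugates of `P`.
* `M11Full P`: such characters exist.
* `M11InvVals α₁ α₂ α₃ β γ₁ γ₂ t`: the values of `α₁, α₂, α₃, β, γ₁, γ₂` at an involution `t`.
-/

namespace Cfsg.Agent.Lib.helper21

open Cfsg Cfsg.Agent.Lib.helper4

universe u

section M11Defs2

variable {G : Type u} [Group G] [Fintype G]

/-- The complete list of irreducible characters of a simple group of order `7920`, with the
information given by the exceptional characters for the prime `11`. -/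
def M11FullData (P : Subgroup G) (α₁ α₂ α₃ β γ₁ γ₂ ψ₁ ψ₂ ψ₃ : IrrCharacter G) : Prop :=
  [trivIrr G, α₁, α₂, α₃, β, γ₁, γ₂, ψ₁, ψ₂, ψ₃].Nodup ∧
  (∀ ψ : IrrCharacter G, ψ ∈ [trivIrr G, α₁, α₂, α₃, β, γ₁, γ₂, ψ₁, ψ₂, ψ₃]) ∧
  charDegree (α₁ : G → ℂ) = 10 ∧ charDegree (α₂ : G → ℂ) = 10 ∧
  charDegree (α₃ : G → ℂ) = 10 ∧ charDegree (β : G → ℂ) = 45 ∧
  charDegree (γ₁ : G → ℂ) = 16 ∧ charDegree (γ₂ : G → ℂ) = 16 ∧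
  charDegree (ψ₁ : G → ℂ) = 11 ∧ charDegree (ψ₂ : G → ℂ) = 44 ∧
  charDegree (ψ₃ : G → ℂ) = 55 ∧
  (∀ x ∈ P, x ≠ 1 → (α₁ : G → ℂ) x = -1 ∧ (α₂ : G → ℂ) x = -1 ∧ (α₃ : G → ℂ) x = -1 ∧
    (β : G → ℂ) x = 1 ∧ (γ₁ : G → ℂ) x + (γ₂ : G → ℂ) x = -1) ∧
  (∀ g : G, (∀ h : G, h * g * h⁻¹ ∈ P → g = 1) →
    (γ₁ : G → ℂ) g = 1 - (α₁ : G → ℂ) g - (α₂ : G → ℂ) g - (α₃ : G → ℂ) g + (β : G → ℂ) g ∧
    (γ₂ : G → ℂ) g = (γ₁ : G → ℂ) g)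

/-- The complete list of irreducible characters exists (pattern (I) completed). -/
def M11Full (P : Subgroup G) : Prop :=
  ∃ α₁ α₂ α₃ β γ₁ γ₂ ψ₁ ψ₂ ψ₃ : IrrCharacter G, M11FullData P α₁ α₂ α₃ β γ₁ γ₂ ψ₁ ψ₂ ψ₃

/-- The values of the characters of degree prime to `11` at an involution. -/
def M11InvVals (α₁ α₂ α₃ β γ₁ γ₂ : IrrCharacter G) (t : G) : Prop :=
  (β : G → ℂ) t = -3 ∧ (γ₁ : G → ℂ) t = 0 ∧ (γ₂ : G → ℂ) t = 0 ∧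
  (((α₁ : G → ℂ) t = 2 ∧ (α₂ : G → ℂ) t = -2 ∧ (α₃ : G → ℂ) t = -2) ∨
   ((α₁ : G → ℂ) t = -2 ∧ (α₂ : G → ℂ) t = 2 ∧ (α₃ : G → ℂ) t = -2) ∨
   ((α₁ : G → ℂ) t = -2 ∧ (α₂ : G → ℂ) t = -2 ∧ (α₃ : G → ℂ) t = 2))

end M11Defs2

end Cfsg.Agent.Lib.helper21
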