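import Mathlib
import Cfsg.Agent.Lib.helper21.M11Defs2
import Cfsg.Agent.Lib.helper82.CharSums

set_option autoImplicit false
open Cfsg Cfsg.Agent.Lib.helper4 Cfsg.Agent.Lib.helper21
universe u

/-!
# Pattern (I) completed to the full list of irreducible characters (helper21)

`m11_full_of_list`: pattern (I) together with a complete duplicate-free list of the irreducible
characters with degrees `1, 10, 10, 10, 45, 16, 16, 11, 44, 55` gives `M11Full P`.
-/

namespace Cfsg.Agent.Lib.helper21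

theorem charDegree_trivIrr {G : Type u} [Group G] [Fintype G] :
    charDegree ((trivIrr G : IrrCharacter G) : G → ℂ) = 1 := by
  have h1 := Cfsg.Agent.Lib.helper82.irr_one_eq (trivIrr G)
  have h2 : ((trivIrr G : IrrCharacter G) : G → ℂ) 1 = 1 := rfl
  rw [h2] at h1
  exact_mod_cast h1.symm

/-- Pattern (I) completed to the full list of irreducible characters. -/
theorem m11_full_of_list {G : Type u} [Group G] [Fintype G]
    (P : Subgroup G) (h : M11PatI P)
    (l : List (IrrCharacter G)) (hnd : l.Nodup) (hall : ∀ ψ : IrrCharacter G, ψ ∈ l)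
    (hdeg : l.map (fun ψ : IrrCharacter G => charDegree (ψ : G → ℂ)) =
        [1, 10, 10, 10, 45, 16, 16, 11, 44, 55]) : M11Full P := by
  classical
  obtain ⟨α₁, α₂, α₃, β, γ₁, γ₂, hnd7, hα₁, hα₂, hα₃, hβ, hγ₁, hγ₂, h11, hval, hE1⟩ := h
  obtain ⟨l0, t0, rfl, h0, hdeg⟩ := List.map_eq_cons_iff.mp hdeg
  obtain ⟨l1, t1, rfl, h1, hdeg⟩ := List.map_eq_cons_iff.mp hdeg
  obtain ⟨l2, t2, rfl, h2, hdeg⟩ := List.map_eq_cons_iff.mp hdeg
  obtain ⟨l3, t3, rfl, h3, hdeg⟩ := List.map_eq_cons_iff.mp hdeg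
  obtain ⟨l4, t4, rfl, h4, hdeg⟩ := List.map_eq_cons_iff.mp hdeg
  obtain ⟨l5, t5, rfl, h5, hdeg⟩ := List.map_eq_cons_iff.mp hdeg
  obtain ⟨l6, t6, rfl, h6, hdeg⟩ := List.map_eq_cons_iff.mp hdeg
  obtain ⟨l7, t7, rfl, h7, hdeg⟩ := List.map_eq_cons_iff.mp hdeg
  obtain ⟨l8, t8, rfl, h8, hdeg⟩ := List.map_eq_cons_iff.mp hdeg
  obtain ⟨l9, t9, rfl, h9, hdeg⟩ := List.map_eq_cons_iff.mp hdeg
  rw [List.map_eq_nil_iff] at hdeg
  subst hdeg
  try simp only [] at h0 h1 h2 h3 h4 h5 h6 h7 h8 h9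
  have htriv : charDegree ((trivIrr G : IrrCharacter G) : G → ℂ) = 1 := charDegree_trivIrr
  have key : ∀ a ∈ [trivIrr G, α₁, α₂, α₃, β, γ₁, γ₂],
      charDegree (a : G → ℂ) = 1 ∨ charDegree (a : G → ℂ) = 10 ∨
      charDegree (a : G → ℂ) = 45 ∨ charDegree (a : G → ℂ) = 16 := by
    intro a ha
    simp only [List.mem_cons, List.not_mem_nil, or_false] at ha
    rcases ha with rfl | rfl | rfl | rfl | rfl | rfl | rfl <;> omega
  have hne : ∀ a b : IrrCharacter G, charDegree (a : G → ℂ) ≠ charDegree (b : G → ℂ) → a ≠ b :=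
    fun a b hab heq => hab (by rw [heq])
  refine ⟨α₁, α₂, α₃, β, γ₁, γ₂, l7, l8, l9, ?_, ?_, hα₁, hα₂, hα₃, hβ, hγ₁, hγ₂, h7, h8, h9,
    hval, hE1⟩
  · show ([trivIrr G, α₁, α₂, α₃, β, γ₁, γ₂] ++ [l7, l8, l9]).Nodup
    rw [List.nodup_append]
    refine ⟨hnd7, ?_, ?_⟩
    · have h78 : l7 ≠ l8 := hne _ _ (by omega)
      have h79 : l7 ≠ l9 := hne _ _ (by omega)
      have h89 : l8 ≠ l9 := hne _ _ (by omega)
      simp [h78, h79, h89]
    · intro a ha b hb
      have hk := key a ha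
      simp only [List.mem_cons, List.not_mem_nil, or_false] at hb
      apply hne
      rcases hb with rfl | rfl | rfl <;> omega
  · intro ψ
    show ψ ∈ [trivIrr G, α₁, α₂, α₃, β, γ₁, γ₂] ++ [l7, l8, l9]
    rw [List.mem_append]
    by_cases hψ : ψ ∈ [trivIrr G, α₁, α₂, α₃, β, γ₁, γ₂]
    · exact Or.inl hψ
    · right
      have hdvd := h11 ψ hψ
      have hmem := hall ψ
      simp only [List.mem_cons, List.not_mem_nil, or_false] at hmem
      rcases hmem with rfl | rfl | rfl | rfl | rfl | rfl | rfl | rfl | rfl | rfl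
      · omega
      · omega
      · omega
      · omega
      · omega
      · omega
      · omega
      · simp
      · simp
      · simp

end Cfsg.Agent.Lib.helper21
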