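import Mathlib
import Cfsg.Agent.Lib.helper21.M11Defs2
import Cfsg.Agent.Lib.helper21.ExcData
import Cfsg.Agent.Lib.helper21.M11Full
import Cfsg.Agent.Lib.helper42.M11_D
import Cfsg.Agent.Lib.helper77.M11_F
import Cfsg.Agent.Lib.helper17.M11_G
import Cfsg.Agent.Lib.helper46.M11_K1
import Cfsg.Agent.Lib.helper1.M11_C
import Cfsg.Agent.Lib.helper77.M11_E

set_option autoImplicit false

/-!
# The core facts on a simple group of order 7920 (helper21)

Assembly of the pieces of the S4429 project: for `G` simple of order `7920`,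
* `m11_core`: a subgroup `P` of order `11` is self-centralizing, `|N(P)| = 55`, and pattern (I)
  holds (`M11PatI P`);
* `m11_core_five`: a subgroup `Q` of order `5` is self-centralizing, `|N(Q)| = 20`;
* `m11_core_list`: a complete duplicate-free list of the irreducible characters with degrees
  `1, 10, 10, 10, 45, 16, 16, 11, 44, 55`;
* `m11_core_full`: `M11Full P` (the ten characters with their values on `P`).
-/


namespace Cfsg.Agent.Lib.helper21

open Cfsg Cfsg.Agent.Lib.helper4

universe u

theorem m11_factorization_eleven : (7920 : ℕ).factorization 11 = 1 := by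
  have h : (7920 : ℕ) = 11 ^ 1 * 720 := by norm_num
  rw [h, Nat.factorization_mul (by norm_num) (by norm_num), Finsupp.add_apply,
    Nat.Prime.factorization_pow (by norm_num), Finsupp.single_eq_same,
    Nat.factorization_eq_zero_of_not_dvd (by norm_num)]

theorem m11_factorization_five : (7920 : ℕ).factorization 5 = 1 := by
  have h : (7920 : ℕ) = 5 ^ 1 * 1584 := by norm_num
  rw [h, Nat.factorization_mul (by norm_num) (by norm_num), Finsupp.add_apply,
    Nat.Prime.factorization_pow (by norm_num), Finsupp.single_eq_same,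
    Nat.factorization_eq_zero_of_not_dvd (by norm_num)]

section M11Core

variable {G : Type u} [Group G] [Fintype G] [Fintype (IrrCharacter G)] [IsSimpleGroup G]

/-- A subgroup of order `11` of a simple group of order `7920` is self-centralizing with
normalizer of order `55`, and the irreducible characters of degree prime to `11` follow
pattern (I). -/
theorem m11_core (hG : Nat.card G = 7920) (P : Subgroup G) (hP : Nat.card P = 11) :
    Subgroup.centralizer (P : Set G) ≤ P ∧
      Nat.card (Subgroup.normalizer (P : Set G)) = 55 ∧ M11PatI P := by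
  classical
  have hp11 : Fact (Nat.Prime 11) := ⟨by norm_num⟩
  obtain ⟨P', hP'⟩ : ∃ P' : Sylow 11 G, (P' : Subgroup G) = P :=
    ⟨Sylow.ofCard P (by rw [hG, m11_factorization_eleven, pow_one, hP]), Sylow.coe_ofCard _ _⟩
  obtain ⟨hN, hC⟩ := Cfsg.Agent.Lib.helper46.m11_sylow_eleven hG P'
  rw [hP'] at hN hC
  refine ⟨hC, hN, ?_⟩
  obtain ⟨ε, b, S, b₀, f₀, hdata⟩ := exceptional_data (p := 11) (e := 5) (by norm_num)
    P hP hC (by rw [hN]) (by norm_num)
  rcases Cfsg.Agent.Lib.helper1.m11_pattern hG P ε b S b₀ f₀ hdata with hI | hII | hIII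
  · exact hI
  · exact (Cfsg.Agent.Lib.helper77.m11_not_patII hG P hP hC hN hII).elim
  · obtain ⟨ψ, hdeg, hval⟩ := hIII
    exfalso
    obtain ⟨x, hx, hx1⟩ : ∃ x ∈ P, x ≠ 1 := by
      by_contra hcon
      push Not at hcon
      have hbot : P = ⊥ := by
        rw [Subgroup.eq_bot_iff_forall]
        exact hcon
      rw [hbot, Subgroup.card_bot] at hP
      norm_num at hP
    have hnp : ¬ (Nat.card G).Prime := by rw [hG]; norm_num
    have hψ : ψ ≠ trivIrr G := by
      intro h
      rw [h, charDegree_trivIrr] at hdeg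
      norm_num at hdeg
    apply Cfsg.Agent.Lib.helper42.irr_apply_ne_degree_of_simple hnp ψ hψ x hx1
    rw [hval x hx hx1, Cfsg.Agent.Lib.helper82.irr_one_eq, hdeg]
    norm_num

/-- A subgroup of order `5` of a simple group of order `7920` is self-centralizing with
normalizer of order `20`. -/
theorem m11_core_five (hG : Nat.card G = 7920) (Q : Subgroup G) (hQ : Nat.card Q = 5) :
    Subgroup.centralizer (Q : Set G) ≤ Q ∧
      Nat.card (Subgroup.normalizer (Q : Set G)) = 20 := by
  classical
  have hp11 : Fact (Nat.Prime 11) := ⟨by norm_num⟩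
  have hp5 : Fact (Nat.Prime 5) := ⟨by norm_num⟩
  obtain ⟨P⟩ : Nonempty (Sylow 11 G) := inferInstance
  have hPcard : Nat.card (P : Subgroup G) = 11 := by
    rw [Sylow.card_eq_multiplicity, hG, m11_factorization_eleven, pow_one]
  obtain ⟨-, -, hI⟩ := m11_core hG (P : Subgroup G) hPcard
  obtain ⟨Q', hQ'⟩ : ∃ Q' : Sylow 5 G, (Q' : Subgroup G) = Q :=
    ⟨Sylow.ofCard Q (by rw [hG, m11_factorization_five, pow_one, hQ]), Sylow.coe_ofCard _ _⟩
  have h := Cfsg.Agent.Lib.helper77.m11_sylow_five_of_patI hG (P : Subgroup G) hPcard hI Q'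
  rw [hQ'] at h
  exact h

/-- The irreducible characters of a simple group of order `7920`: a complete duplicate-free list
with degrees `1, 10, 10, 10, 45, 16, 16, 11, 44, 55`. -/
theorem m11_core_list (hG : Nat.card G = 7920) :
    ∃ l : List (IrrCharacter G), l.Nodup ∧ (∀ ψ : IrrCharacter G, ψ ∈ l) ∧
      l.map (fun ψ : IrrCharacter G => charDegree (ψ : G → ℂ)) =
        [1, 10, 10, 10, 45, 16, 16, 11, 44, 55] := by
  classical
  have hp11 : Fact (Nat.Prime 11) := ⟨by norm_num⟩
  have hp5 : Fact (Nat.Prime 5) := ⟨by norm_num⟩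
  obtain ⟨P⟩ : Nonempty (Sylow 11 G) := inferInstance
  have hPcard : Nat.card (P : Subgroup G) = 11 := by
    rw [Sylow.card_eq_multiplicity, hG, m11_factorization_eleven, pow_one]
  obtain ⟨-, -, hI⟩ := m11_core hG (P : Subgroup G) hPcard
  obtain ⟨Q⟩ : Nonempty (Sylow 5 G) := inferInstance
  have hQcard : Nat.card (Q : Subgroup G) = 5 := by
    rw [Sylow.card_eq_multiplicity, hG, m11_factorization_five, pow_one]
  obtain ⟨hQC, hQN⟩ := m11_core_five hG (Q : Subgroup G) hQcard
  exact Cfsg.Agent.Lib.helper17.m11_list_of_patI hG (P : Subgroup G) hI (Q : Subgroup G) hQcard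
    hQC hQN

/-- The ten irreducible characters of a simple group of order `7920` with their values on a
subgroup `P` of order `11`. -/
theorem m11_core_full (hG : Nat.card G = 7920) (P : Subgroup G) (hP : Nat.card P = 11) :
    M11Full P := by
  obtain ⟨-, -, hI⟩ := m11_core hG P hP
  obtain ⟨l, hnd, hall, hdeg⟩ := m11_core_list hG
  exact m11_full_of_list P hI l hnd hall hdeg

end M11Core

end Cfsg.Agent.Lib.helper21
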