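import Mathlib
import Cfsg.Agent.Lib.helper21.SylowCosets

set_option autoImplicit false

namespace Cfsg.Agent.Lib.helper21

open Subgroup MulAction

/-- The numbers of elements of the orders in a finite set `s` add up to at most `|G|`. -/
theorem sum_card_orderOf_le {G : Type*} [Group G] [Finite G] (s : Finset ℕ) :
    ∑ k ∈ s, Nat.card {g : G // orderOf g = k} ≤ Nat.card G := by
  classical
  have : Fintype G := Fintype.ofFinite G
  have h1 : ∑ k ∈ s, Nat.card {g : G // orderOf g = k} =
      ∑ k ∈ s, (Finset.univ.filter (fun g : G => orderOf g = k)).card := by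
    apply Finset.sum_congr rfl
    intro k _
    rw [Nat.card_eq_fintype_card, Fintype.card_subtype]
  rw [h1, ← Finset.card_biUnion, Nat.card_eq_fintype_card]
  · exact Finset.card_le_univ _
  · intro a _ b _ hab
    rw [Function.onFun, Finset.disjoint_filter]
    intro g _ h2 h3
    exact hab (h2.symm.trans h3)

/-- The conjugacy class of an element of order `n` has at most as many elements as there are
elements of order `n`. -/
theorem card_isConj_le_card_orderOf {G : Type*} [Group G] [Finite G] (x : G) :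
    Nat.card {g : G // IsConj x g} ≤ Nat.card {g : G // orderOf g = orderOf x} := by
  apply Nat.card_le_card_of_injective (fun g : {g : G // IsConj x g} =>
    (⟨g.1, by
      obtain ⟨c, hc⟩ := isConj_iff.mp g.2
      have h1 : c * x * c⁻¹ = c⁻¹⁻¹ * x * c⁻¹ := by rw [inv_inv]
      rw [← hc, h1, orderOf_inv_mul_mul]⟩ : {g : G // orderOf g = orderOf x}))
  intro a b hab
  exact Subtype.ext (congrArg (fun z : {g : G // orderOf g = orderOf x} => z.1) hab)

/-- If `x ∈ N` commutes with no nontrivial element of a subgroup `P ≤ N`, then `x` has at least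
`|P|` conjugates inside `N`. -/
theorem card_le_card_isConj_mem {G : Type*} [Group G] [Finite G] (N P : Subgroup G) (hPN : P ≤ N)
    (x : G) (hx : x ∈ N) (hfree : ∀ w ∈ P, x * w = w * x → w = 1) :
    Nat.card P ≤ Nat.card {g : G // IsConj x g ∧ g ∈ N} := by
  apply Nat.card_le_card_of_injective (fun u : P =>
    (⟨(u : G) * x * (u : G)⁻¹, isConj_iff.mpr ⟨u, rfl⟩,
      N.mul_mem (N.mul_mem (hPN u.2) hx) (N.inv_mem (hPN u.2))⟩ :
      {g : G // IsConj x g ∧ g ∈ N}))
  intro u v huv
  have h1 : (u : G) * x * (u : G)⁻¹ = (v : G) * x * (v : G)⁻¹ :=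
    congrArg (fun z : {g : G // IsConj x g ∧ g ∈ N} => z.1) huv
  have h2 : ((v : G)⁻¹ * (u : G)) * x * ((v : G)⁻¹ * (u : G))⁻¹ = x := by
    calc ((v : G)⁻¹ * (u : G)) * x * ((v : G)⁻¹ * (u : G))⁻¹
        = (v : G)⁻¹ * ((u : G) * x * (u : G)⁻¹) * (v : G) := by group
      _ = (v : G)⁻¹ * ((v : G) * x * (v : G)⁻¹) * (v : G) := by rw [h1]
      _ = x := by group
  have h3 : x * ((v : G)⁻¹ * (u : G)) = ((v : G)⁻¹ * (u : G)) * x := by
    calc x * ((v : G)⁻¹ * (u : G))
        = (((v : G)⁻¹ * (u : G)) * x * ((v : G)⁻¹ * (u : G))⁻¹) * ((v : G)⁻¹ * (u : G)) := by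
          rw [h2]
      _ = ((v : G)⁻¹ * (u : G)) * x := by group
  have h4 := hfree _ (P.mul_mem (P.inv_mem v.2) u.2) h3
  exact Subtype.ext (inv_mul_eq_one.mp h4).symm

end Cfsg.Agent.Lib.helper21
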