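import Mathlib

/-!
# S2279 piece GC (racer copy by helper21): the abstract arithmetic step `abs_GC`.
-/

set_option autoImplicit false

namespace Cfsg.Agent.Lib.helper45.RU

variable {F : Type*} [Field F]

/-- GC (racer copy, verbatim statement of `abs_GC`). -/
theorem h21_abs_GC (n : ℕ) (hn : 4 ≤ n) (Ω : ℕ → Set F) (c : F) (p : ℕ) [Fact p.Prime] [CharP F p]
    (e n' : ℕ) (hnp : n = p ^ e * n') (hn' : ¬ p ∣ n')
    (hluc : ¬ p ∣ (n + p ^ e - 1).choose (p ^ e))
    (m : ℕ) (hm : 0 < m) (hcm : c ^ m = 1)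
    (h0 : ∀ k, k + 2 ≤ n → (0 : F) ∈ Ω k)
    (hadd : ∀ k, k + 2 ≤ n → ∀ x y, x ∈ Ω k → y ∈ Ω k → x + y ∈ Ω k)
    (hc0 : c ∈ Ω 0) (hA : c ^ (n - 1) ∈ Ω (n - 2))
    (hB : ∀ y, y ∈ Ω 0 → c ^ n * y ∈ Ω 0)
    (hmul : ∀ x y, c * x ∈ Ω 0 → c * y ∈ Ω 0 → c * (x * y) ∈ Ω 0)
    (hwrap : ∀ i i', i + 2 ≤ n → i' + 2 ≤ n → n ≤ i + i' + 1 →
      ∀ x y, x ∈ Ω i → y ∈ Ω i' → x * y ∈ Ω (i + i' + 1 - n))
    (hshift : ∀ j i', 1 ≤ j → i' + j + 2 ≤ n → ∀ x y, x ∈ Ω 0 → y ∈ Ω i' →
      ((n + j - 2).choose (j - 1) : F) * x * y ∈ Ω (i' + j)) :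
    c * c ^ (p ^ e) ∈ Ω 0 := by
  have hp : p.Prime := Fact.out
  have hpe : 1 ≤ p ^ e := Nat.one_le_pow _ _ hp.pos
  by_cases h1 : n' = 1
  · subst h1
    have hnP : n = p ^ e := by simpa using hnp
    have h := hB c hc0
    rw [hnP] at h
    rwa [mul_comm] at h
  have hn'0 : n' ≠ 0 := by
    rintro rfl
    simp at hnp
    omega
  have hj3 : p ^ e + 3 ≤ n := by
    have hn'2 : 2 ≤ n' := by omega
    rcases Nat.lt_or_ge n' 3 with h3 | h3
    · have hn2 : n' = 2 := by omega
      subst hn2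
      have hp2 : p ≠ 2 := by
        rintro rfl
        exact hn' (dvd_refl 2)
      have hp3 : 3 ≤ p := by
        have := hp.two_le
        omega
      rcases Nat.eq_zero_or_pos e with he | he
      · subst he
        simp at hnp
        omega
      · have hle : p ≤ p ^ e := Nat.le_self_pow (by omega) p
        omega
    · have hle : p ^ e * 3 ≤ p ^ e * n' := Nat.mul_le_mul_left _ h3
      rcases Nat.lt_or_ge (p ^ e) 2 with hP | hP
      · have hP1 : p ^ e = 1 := by omega
        rw [hP1] at hnp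
        omega
      · omega
  obtain ⟨P, hPdef⟩ : ∃ P, P = p ^ e := ⟨_, rfl⟩
  rw [← hPdef] at hluc hj3 hpe ⊢
  obtain ⟨j, hjdef⟩ : ∃ j, j = P + 1 := ⟨_, rfl⟩
  -- step 1: the shift
  have hs := hshift j 0 (by omega) (by omega) c c hc0 hc0
  have hidx : n + j - 2 = n + P - 1 := by omega
  have hj1 : j - 1 = P := by omega
  rw [hidx, hj1, zero_add] at hs
  -- closure under natural multiples
  have hnsmul : ∀ k, k + 2 ≤ n → ∀ (a : ℕ) (x : F), x ∈ Ω k → (a : F) * x ∈ Ω k := by
    intro k hk a x hx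
    induction a with
    | zero => simpa using h0 k hk
    | succ a ih =>
      have h := hadd k hk _ _ ih hx
      have he : ((a + 1 : ℕ) : F) * x = (a : F) * x + x := by
        push_cast
        ring
      rw [he]
      exact h
  -- an inverse of the binomial coefficient
  obtain ⟨b, hbdef⟩ : ∃ b, b = (n + P - 1).choose P := ⟨_, rfl⟩
  rw [← hbdef] at hs hluc
  obtain ⟨b', hb'⟩ : ∃ b' : ℕ, (b' : F) * (b : F) = 1 := by
    have hcop : Nat.Coprime b p := ((Nat.Prime.coprime_iff_not_dvd hp).2 hluc).symm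
    obtain ⟨b', -, hb'⟩ := Nat.exists_mul_mod_eq_one_of_coprime hcop hp.one_lt
    refine ⟨b', ?_⟩
    have h := Nat.div_add_mod (b * b') p
    rw [hb'] at h
    have h2 : ((b * b' : ℕ) : F) = ((p * (b * b' / p) + 1 : ℕ) : F) := by rw [h]
    push_cast at h2
    rw [CharP.cast_eq_zero F p, zero_mul, zero_add] at h2
    rw [mul_comm]
    exact h2
  have hcc : c * c ∈ Ω j := by
    have h := hnsmul j (by omega) b' _ hs
    have he : (b' : F) * ((b : F) * c * c) = c * c := by
      rw [← mul_assoc, ← mul_assoc, hb', one_mul]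
    rw [he] at h
    exact h
  -- wrap down j times
  have hdown : ∀ k, k ≤ j → c * c * (c ^ (n - 1)) ^ k ∈ Ω (j - k) := by
    intro k
    induction k with
    | zero =>
      intro _
      simpa using hcc
    | succ k ih =>
      intro hk
      have h := hwrap (j - k) (n - 2) (by omega) (by omega) (by omega) _ _ (ih (by omega)) hA
      have hidx2 : j - k + (n - 2) + 1 - n = j - (k + 1) := by omega
      rw [hidx2] at h
      have he : c * c * (c ^ (n - 1)) ^ (k + 1) = c * c * (c ^ (n - 1)) ^ k * c ^ (n - 1) := by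
        rw [pow_succ]
        ring
      rw [he]
      exact h
  have hN := hdown j le_rfl
  rw [Nat.sub_self] at hN
  obtain ⟨N, hNdef⟩ : ∃ N, N = j * (n - 1) + 1 := ⟨_, rfl⟩
  have hcN : c * c ^ N ∈ Ω 0 := by
    have he : c * c ^ N = c * c * (c ^ (n - 1)) ^ j := by
      rw [hNdef, ← pow_mul]
      ring
    rw [he]
    exact hN
  have hR : ∀ k, c * (c ^ N) ^ k ∈ Ω 0 := by
    intro k
    induction k with
    | zero => simpa using hc0
    | succ k ih =>
      have h := hmul _ _ ih hcN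
      rw [pow_succ]
      exact h
  have hBk : ∀ k (y : F), y ∈ Ω 0 → (c ^ n) ^ k * y ∈ Ω 0 := by
    intro k
    induction k with
    | zero =>
      intro y hy
      simpa using hy
    | succ k ih =>
      intro y hy
      have h := hB _ (ih y hy)
      have he : (c ^ n) ^ (k + 1) * y = c ^ n * ((c ^ n) ^ k * y) := by
        rw [pow_succ']
        ring
      rw [he]
      exact h
  have hfin := hBk j _ (hR (m - 1))
  have hkey : (c ^ n) ^ j * (c * (c ^ N) ^ (m - 1)) = c * c ^ P := by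
    obtain ⟨m₁, rfl⟩ : ∃ m₁, m = m₁ + 1 := ⟨m - 1, by omega⟩
    obtain ⟨a, ha⟩ : ∃ a, n = a + 1 := ⟨n - 1, by omega⟩
    have ha' : n - 1 = a := by omega
    have hnj : n * j = N + P := by
      rw [hNdef, hjdef, ha', ha]
      ring
    simp only [Nat.add_sub_cancel]
    rw [← pow_mul, ← pow_mul, hnj]
    have he : c ^ (N + P) * (c * c ^ (N * m₁)) = c * c ^ P * (c ^ (m₁ + 1)) ^ N := by
      rw [← pow_mul]
      ring
    rw [he, hcm, one_pow, mul_one]
  rw [hkey] at hfin
  exact hfin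

end Cfsg.Agent.Lib.helper45.RU
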