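import Mathlib

set_option autoImplicit false

namespace Cfsg.Agent.Lib.helper21.S2113

/-- PIECE TWOM (racing copy by helper21): an element of order 7 acting fixed-point-freely on a
self-centralising `2³`. -/
theorem helper21_two_model {G : Type*} [Group G] [Finite G] (S : Subgroup G) (hcard : Nat.card S = 8)
    (hexp : ∀ x ∈ S, x * x = 1) (hcent : Subgroup.centralizer (S : Set G) = S)
    (hnorm : Nat.card (Subgroup.normalizer (S : Set G)) = 168) :
    ∃ g : G, (∀ x ∈ S, g * x * g⁻¹ ∈ S) ∧ g ^ 7 = 1 ∧ ∀ x ∈ S, g * x * g⁻¹ = x → x = 1 := by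
  classical
  have : Fact (Nat.Prime 7) := ⟨by norm_num⟩
  have h7 : 7 ∣ Nat.card (Subgroup.normalizer (S : Set G)) := by rw [hnorm]; norm_num
  obtain ⟨n, hn⟩ := exists_prime_orderOf_dvd_card' 7 h7
  have hg7 : (n : G) ^ 7 = 1 := by
    have := pow_orderOf_eq_one n
    rw [hn] at this
    exact_mod_cast congrArg Subtype.val this
  have hg1 : (n : G) ≠ 1 := by
    intro h
    have : n = 1 := Subtype.ext h
    rw [this, orderOf_one] at hn
    norm_num at hn
  have hgS : ∀ x ∈ S, (n : G) * x * (n : G)⁻¹ ∈ S := fun x hx =>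
    (Subgroup.mem_normalizer_iff.1 n.2 x).1 hx
  refine ⟨(n : G), hgS, hg7, ?_⟩
  set g : G := (n : G) with hg
  let _ : Fintype S := Fintype.ofFinite S
  let f : Function.End S := fun x => ⟨g * x * g⁻¹, hgS x x.2⟩
  have hfpow : ∀ k : ℕ, ∀ x : S, ((f ^ k) x : G) = g ^ k * x * (g ^ k)⁻¹ := by
    intro k
    induction k with
    | zero =>
      intro x
      have h0 : (f ^ 0) x = x := by rw [pow_zero]; rfl
      rw [h0]; simp
    | succ k ih =>
      intro x
      have h1 : (f ^ (k + 1)) x = f ((f ^ k) x) := by rw [pow_succ']; rfl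
      rw [h1]
      show g * ((f ^ k) x : G) * g⁻¹ = _
      rw [ih x, pow_succ']
      group
  have hf7 : f ^ 7 ^ 1 = 1 := by
    funext x
    show (f ^ 7 ^ 1) x = x
    apply Subtype.ext
    rw [pow_one, hfpow 7 x, hg7]
    simp
  have hmod := Equiv.Perm.card_fixedPoints_modEq (p := 7) (n := 1) hf7
  have hcS : Fintype.card S = 8 := by rw [← Nat.card_eq_fintype_card]; exact hcard
  rw [hcS] at hmod
  have hle : Fintype.card (Function.fixedPoints f) ≤ 8 := by
    rw [← hcS]; exact Fintype.card_subtype_le _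
  have hone : (1 : S) ∈ Function.fixedPoints f := by
    show f 1 = 1
    apply Subtype.ext
    show g * ((1 : S) : G) * g⁻¹ = ((1 : S) : G)
    simp
  have hpos : 0 < Fintype.card (Function.fixedPoints f) :=
    Fintype.card_pos_iff.2 ⟨⟨1, hone⟩⟩
  have hcases : Fintype.card (Function.fixedPoints f) = 1 ∨
      Fintype.card (Function.fixedPoints f) = 8 := by
    have h := hmod
    unfold Nat.ModEq at h
    omega
  rcases hcases with h1 | h8
  · intro x hx hfix
    have hsub : Subsingleton (Function.fixedPoints f) :=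
      Fintype.card_le_one_iff_subsingleton.1 (le_of_eq h1)
    have hxm : (⟨x, hx⟩ : S) ∈ Function.fixedPoints f := by
      show f ⟨x, hx⟩ = ⟨x, hx⟩
      exact Subtype.ext hfix
    have := hsub.elim ⟨⟨x, hx⟩, hxm⟩ ⟨1, hone⟩
    have h2 : (⟨x, hx⟩ : S) = 1 := congrArg Subtype.val this
    exact congrArg Subtype.val h2
  · exfalso
    have hall : ∀ x : S, x ∈ Function.fixedPoints f := by
      have huniv : (Function.fixedPoints f) = Set.univ := by
        rw [Set.eq_univ_iff_ncard, ← Nat.card_coe_set_eq, Nat.card_eq_fintype_card, h8, hcard]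
      intro x; rw [huniv]; trivial
    have hgc : g ∈ Subgroup.centralizer (S : Set G) := by
      rw [Subgroup.mem_centralizer_iff]
      intro h hh
      have := hall ⟨h, hh⟩
      have h2 : g * h * g⁻¹ = h := congrArg Subtype.val this
      calc h * g = (g * h * g⁻¹) * g := by rw [h2]
        _ = g * h := by group
    rw [hcent] at hgc
    have hgg := hexp g hgc
    apply hg1
    have e1 : g = g ^ 7 * ((g * g) * (g * g) * (g * g))⁻¹ := by
      rw [eq_mul_inv_iff_mul_eq]
      simp only [pow_succ, pow_zero, one_mul, mul_assoc]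
    rw [e1, hg7, hgg]; simp

end Cfsg.Agent.Lib.helper21.S2113
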