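import Mathlib

/-!
# S2687 piece FC-32, matrix part

Over a field of characteristic 2 containing a primitive cube root of unity `ω`, a `3 × 3` matrix
commuting with a conjugate of `diag(1, ω, ω²)` whose 8th power is scalar is itself scalar; the
explicit conjugating matrices for the 3-cycle permutation matrix `c`, `d c` and `d² c`.
-/

set_option autoImplicit false

namespace Cfsg.Agent.Lib.helper21.S2687

open Matrix

universe u

variable {F : Type u} [Field F]

/-- `diag(1, ω, ω²)` -/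
def dM (ω : F) : Matrix (Fin 3) (Fin 3) F := !![1,0,0; 0,ω,0; 0,0,ω^2]

/-- the permutation matrix of a 3-cycle -/
def cM : Matrix (Fin 3) (Fin 3) F := !![0,1,0; 0,0,1; 1,0,0]

/-- eigenvector matrix of `cM` -/
def v1 (ω : F) : Matrix (Fin 3) (Fin 3) F := !![1,1,1; 1,ω,ω^2; 1,ω^2,ω]
/-- inverse of `v1` -/
def v1' (ω : F) : Matrix (Fin 3) (Fin 3) F := !![1,1,1; 1,ω^2,ω; 1,ω,ω^2]
/-- eigenvector matrix of `dM * cM` -/
def v2 (ω : F) : Matrix (Fin 3) (Fin 3) F := !![1,1,1; 1,ω,ω^2; ω^2,ω,1]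
/-- inverse of `v2` -/
def v2' (ω : F) : Matrix (Fin 3) (Fin 3) F := !![1,1,ω; 1,ω^2,ω^2; 1,ω,1]
/-- eigenvector matrix of `dM * dM * cM` -/
def v3 (ω : F) : Matrix (Fin 3) (Fin 3) F := !![1,1,1; 1,ω,ω^2; ω,1,ω^2]
/-- inverse of `v3` -/
def v3' (ω : F) : Matrix (Fin 3) (Fin 3) F := !![1,1,ω^2; 1,ω^2,1; 1,ω,ω]

theorem dM_eq_diag (ω : F) : dM ω = Matrix.diagonal ![1, ω, ω^2] := by
  ext i j
  fin_cases i <;> fin_cases j <;> simp [dM]

theorem v1_mul (h2 : (2:F) = 0) (ω : F) (hω : ω^2 + ω + 1 = 0) : v1 ω * v1' ω = 1 := by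
  ext i j
  fin_cases i <;> fin_cases j <;>
    simp [v1, v1', Matrix.mul_apply, Fin.sum_univ_three] <;> grind

theorem v2_mul (h2 : (2:F) = 0) (ω : F) (hω : ω^2 + ω + 1 = 0) : v2 ω * v2' ω = 1 := by
  ext i j
  fin_cases i <;> fin_cases j <;>
    simp [v2, v2', Matrix.mul_apply, Fin.sum_univ_three] <;> grind

theorem v3_mul (h2 : (2:F) = 0) (ω : F) (hω : ω^2 + ω + 1 = 0) : v3 ω * v3' ω = 1 := by
  ext i j
  fin_cases i <;> fin_cases j <;>
    simp [v3, v3', Matrix.mul_apply, Fin.sum_univ_three] <;> grind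

theorem cM_eq (h2 : (2:F) = 0) (ω : F) (hω : ω^2 + ω + 1 = 0) :
    (cM : Matrix (Fin 3) (Fin 3) F) = v1 ω * dM ω * v1' ω := by
  ext i j
  fin_cases i <;> fin_cases j <;>
    simp [v1, v1', dM, cM, Matrix.mul_apply, Fin.sum_univ_three] <;> grind

theorem dcM_eq (h2 : (2:F) = 0) (ω : F) (hω : ω^2 + ω + 1 = 0) :
    dM ω * (cM : Matrix (Fin 3) (Fin 3) F) = v2 ω * dM ω * v2' ω := by
  ext i j
  fin_cases i <;> fin_cases j <;>
    simp [v2, v2', dM, cM, Matrix.mul_apply, Fin.sum_univ_three] <;> grind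

theorem ddcM_eq (h2 : (2:F) = 0) (ω : F) (hω : ω^2 + ω + 1 = 0) :
    dM ω * dM ω * (cM : Matrix (Fin 3) (Fin 3) F) = v3 ω * dM ω * v3' ω := by
  ext i j
  fin_cases i <;> fin_cases j <;>
    simp [v3, v3', dM, cM, Matrix.mul_apply, Fin.sum_univ_three] <;> grind

theorem dM_cube (h2 : (2:F) = 0) (ω : F) (hω : ω^2 + ω + 1 = 0) :
    dM ω * dM ω * dM ω = 1 := by
  ext i j
  fin_cases i <;> fin_cases j <;>
    simp [dM, Matrix.mul_apply, Fin.sum_univ_three] <;> grind

theorem cM_dM (h2 : (2:F) = 0) (ω : F) (hω : ω^2 + ω + 1 = 0) :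
    (cM : Matrix (Fin 3) (Fin 3) F) * dM ω = ω • (dM ω * cM) := by
  ext i j
  fin_cases i <;> fin_cases j <;>
    simp [dM, cM, Matrix.mul_apply, Fin.sum_univ_three] <;> grind

theorem dM_det (h2 : (2:F) = 0) (ω : F) (hω : ω^2 + ω + 1 = 0) : (dM ω).det = 1 := by
  rw [Matrix.det_fin_three]
  simp [dM]
  grind

theorem cM_det : (cM : Matrix (Fin 3) (Fin 3) F).det = 1 := by
  rw [Matrix.det_fin_three]
  simp [cM]

theorem omega_ne_one (h2 : (2:F) = 0) (ω : F) (hω : ω^2 + ω + 1 = 0) : ω ≠ 1 := by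
  intro h
  rw [h] at hω
  have : (1:F) = 0 := by linear_combination hω - h2
  exact one_ne_zero this

theorem omega_ne_zero (ω : F) (hω : ω^2 + ω + 1 = 0) : ω ≠ 0 := by
  intro h
  rw [h] at hω
  simp at hω

theorem omega_cube (h2 : (2:F) = 0) (ω : F) (hω : ω^2 + ω + 1 = 0) : ω ^ 3 = 1 := by
  linear_combination (ω - 1) * hω

theorem dvec_inj (h2 : (2:F) = 0) (ω : F) (hω : ω^2 + ω + 1 = 0) :
    Function.Injective (![1, ω, ω^2] : Fin 3 → F) := by
  have h1 := omega_ne_one h2 ω hω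
  have h0 := omega_ne_zero ω hω
  have h3 : ω ^ 2 ≠ 1 := by
    intro h
    apply h0
    linear_combination hω - h - h2
  have h4 : ω ^ 2 ≠ ω := by
    intro h
    have : ω * (ω - 1) = 0 := by linear_combination h
    rcases mul_eq_zero.mp this with h5 | h5
    · exact h0 h5
    · exact h1 (sub_eq_zero.mp h5)
  intro i j hij
  fin_cases i <;> fin_cases j
  · rfl
  · exact absurd hij.symm h1
  · exact absurd hij.symm h3
  · exact absurd hij h1
  · rfl
  · exact absurd hij.symm h4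
  · exact absurd hij h3
  · exact absurd hij h4
  · rfl

theorem eq_of_pow8 (h2 : (2:F) = 0) (a b : F) (h : a ^ 8 = b ^ 8) : a = b := by
  have h1 : (a + b) ^ 8 = 0 := by grind
  have h3 : a + b = 0 := by simpa using h1
  linear_combination h3 - b * h2

/-- A matrix commuting with a conjugate of `diag(1, ω, ω²)` whose 8th power is scalar is scalar. -/
theorem scalar_of_comm_conj (h2 : (2:F) = 0) (ω : F) (hω : ω^2 + ω + 1 = 0)
    (V V' Y S : Matrix (Fin 3) (Fin 3) F) (hVV' : V * V' = 1) (hY : Y = V * dM ω * V')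
    (hSY : S * Y = Y * S) (ρ : F) (hS8 : S ^ 8 = ρ • (1 : Matrix (Fin 3) (Fin 3) F)) :
    ∃ a : F, S = a • (1 : Matrix (Fin 3) (Fin 3) F) := by
  have hV'V : V' * V = 1 := mul_eq_one_comm.mp hVV'
  obtain ⟨S', hS'⟩ : ∃ S' : Matrix (Fin 3) (Fin 3) F, S' = V' * S * V := ⟨_, rfl⟩
  have hS : S = V * S' * V' := by
    rw [hS']
    calc S = (V * V') * S * (V * V') := by rw [hVV', one_mul, mul_one]
      _ = V * (V' * S * V) * V' := by simp only [mul_assoc]
  have hcomm : S' * dM ω = dM ω * S' := by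
    rw [hS']
    calc V' * S * V * dM ω = V' * (S * (V * dM ω * V')) * V := by
          simp only [mul_assoc]; rw [hV'V, mul_one]
      _ = V' * ((V * dM ω * V') * S) * V := by rw [← hY, hSY]
      _ = (V' * V) * dM ω * (V' * S * V) := by simp only [mul_assoc]
      _ = dM ω * (V' * S * V) := by rw [hV'V, one_mul]
  have hoff : ∀ i j, i ≠ j → S' i j = 0 := by
    intro i j hij
    have h1 := congrFun (congrFun hcomm i) j
    rw [dM_eq_diag, Matrix.mul_diagonal, Matrix.diagonal_mul] at h1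
    have h3 : S' i j * ((![1, ω, ω^2] : Fin 3 → F) j - (![1, ω, ω^2] : Fin 3 → F) i) = 0 := by
      linear_combination h1
    rcases mul_eq_zero.mp h3 with h4 | h4
    · exact h4
    · exact absurd (dvec_inj h2 ω hω (sub_eq_zero.mp h4)).symm hij
  have hdiag : S' = Matrix.diagonal (fun i => S' i i) := by
    ext i j
    by_cases hij : i = j
    · subst hij; simp
    · rw [Matrix.diagonal_apply_ne _ hij]; exact hoff i j hij
  have hS'8 : S' ^ 8 = ρ • (1 : Matrix (Fin 3) (Fin 3) F) := by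
    have h1 : ∀ k : ℕ, S' ^ k = V' * S ^ k * V := by
      intro k
      induction k with
      | zero => simp [hV'V]
      | succ k ih =>
        rw [pow_succ, ih, pow_succ, hS']
        calc V' * S ^ k * V * (V' * S * V) = V' * S ^ k * (V * V') * S * V := by
              simp only [mul_assoc]
          _ = V' * (S ^ k * S) * V := by rw [hVV', mul_one]; simp only [mul_assoc]
    rw [h1, hS8]
    simp [hV'V]
  rw [hdiag, Matrix.diagonal_pow, Matrix.smul_one_eq_diagonal] at hS'8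
  have h8 : ∀ i, S' i i ^ 8 = ρ := by
    intro i
    have := congrFun (Matrix.diagonal_injective hS'8) i
    simpa using this
  have heq : ∀ i, S' i i = S' 0 0 := by
    intro i
    exact eq_of_pow8 h2 _ _ ((h8 i).trans (h8 0).symm)
  refine ⟨S' 0 0, ?_⟩
  have hS'sc : S' = S' 0 0 • (1 : Matrix (Fin 3) (Fin 3) F) := by
    rw [Matrix.smul_one_eq_diagonal]
    conv_lhs => rw [hdiag]
    congr 1
    funext i
    exact heq i
  rw [hS, hS'sc]
  simp [hVV']

end Cfsg.Agent.Lib.helper21.S2687
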