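import Cfsg.Agent.Lib.helper48.LBRefl
import Cfsg.Agent.Lib.helper50.PSUTransfer
import Cfsg.Agent.Lib.helper50.PSUF4
import Cfsg.Agent.Lib.helper48.PSUOut
import Cfsg.Agent.S0283
import Cfsg.Agent.Lib.helper21.S2687FC32Mat
import Cfsg.Agent.Lib.helper39.S2687FCCNT

/-!
# S2687 piece FC-32: the exceptional case `PSU_3(8)`, `p = 3`

The fixed points of a field automorphism of order 3 of `PSU_3(8)` have no nontrivial invariant
subgroup of order prime to 3 (`O_2(PGU_3(2)) = 1`), by an explicit orbit count with the elements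
`d = diag(1, ω, ω²)` and `c` = 3-cycle permutation matrix.
-/

set_option autoImplicit false

namespace Cfsg.Agent.Lib.helper21.S2687

open Matrix Cfsg
open Cfsg.Agent.Lib.helper50
open Cfsg.Agent.Lib.helper48.LB
open Cfsg.Agent.Lib.helper48.AbsBal (fixG)
open Cfsg.Agent.Lib.helper99 (suMat suMat_mul suMat_one suMat_inj suMat_det suMat_inv_mul mkSU)

universe u v

section
variable {F : Type u} [Field F] [Fintype F]

theorem two_eq_zero_of_card (hF : Fintype.card F = 8 ^ 2) : (2 : F) = 0 := by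
  obtain ⟨r, hr⟩ := CharP.exists F
  haveI := hr
  obtain ⟨k, hrp, hk⟩ := FiniteField.card F r
  have h1 : r ∣ 2 ^ 6 := by
    have h3 : r ∣ r ^ (k : ℕ) := dvd_pow_self r k.ne_zero
    rw [← hk, hF] at h3
    norm_num at h3 ⊢
    exact h3
  have h2 : r = 2 := (Nat.prime_dvd_prime_iff_eq hrp Nat.prime_two).mp (hrp.dvd_of_dvd_pow h1)
  subst h2
  exact_mod_cast CharP.cast_eq_zero F 2

theorem exists_omega (hF : Fintype.card F = 8 ^ 2) : ∃ ω : F, ω ^ 2 + ω + 1 = 0 := by
  classical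
  have hcard : Fintype.card Fˣ = 63 := by rw [Fintype.card_units, hF]; norm_num
  have : Fact (Nat.Prime 3) := ⟨Nat.prime_three⟩
  obtain ⟨u, hu⟩ := exists_prime_orderOf_dvd_card 3
    (by rw [hcard]; norm_num : 3 ∣ Fintype.card Fˣ)
  refine ⟨(u : F), ?_⟩
  have h3 : (u : F) ^ 3 = 1 := by
    have h := pow_orderOf_eq_one u
    rw [hu] at h
    have h' := congrArg (fun x : Fˣ => (x : F)) h
    simpa using h'
  have hne : (u : F) ≠ 1 := by
    intro h
    have h' : u = 1 := Units.ext h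
    rw [h', orderOf_one] at hu
    omega
  have h4 : ((u : F) - 1) * ((u : F) ^ 2 + (u : F) + 1) = 0 := by linear_combination h3
  rcases mul_eq_zero.mp h4 with h | h
  · exact absurd (sub_eq_zero.mp h) hne
  · exact h

omit [Fintype F] in
theorem sigma_omega (h2 : (2:F) = 0) (ω : F) (hω : ω ^ 2 + ω + 1 = 0) (σ : F ≃+* F)
    (hσ : orderOf σ = 3) : σ ω = ω := by
  have ht : (σ ω) ^ 2 + σ ω + 1 = 0 := by
    have h := congrArg σ hω
    simpa using h
  have h3 : σ (σ (σ ω)) = ω := by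
    have h := pow_orderOf_eq_one σ
    rw [hσ] at h
    have h' := congrArg (fun e : F ≃+* F => e ω) h
    simpa [pow_succ, RingAut.mul_apply] using h'
  have hprod : (σ ω - ω) * (σ ω - ω ^ 2) = 0 := by
    linear_combination ht - (σ ω) * hω + (ω - 1) * hω
  rcases mul_eq_zero.mp hprod with h | h
  · exact sub_eq_zero.mp h
  · exfalso
    have h5 : σ ω = ω ^ 2 := sub_eq_zero.mp h
    have h4 : σ (σ ω) = ω := by
      rw [h5, map_pow, h5]
      linear_combination ω * (omega_cube h2 ω hω)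
    rw [h4, h5] at h3
    have h6 : ω * (ω - 1) = 0 := by linear_combination h3
    rcases mul_eq_zero.mp h6 with h7 | h7
    · exact omega_ne_zero ω hω h7
    · exact omega_ne_one h2 ω hω (sub_eq_zero.mp h7)

omit [Fintype F] in
theorem dM_isom (h2 : (2:F) = 0) (ω : F) (hω : ω ^ 2 + ω + 1 = 0) (u v : Fin 3 → F) :
    hermForm 3 F 8 (dM ω *ᵥ u) (dM ω *ᵥ v) = hermForm 3 F 8 u v := by
  simp only [hermForm, Fin.sum_univ_three, dM, Matrix.mulVec, dotProduct]
  simp
  grind

omit [Fintype F] in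
theorem cM_isom (u v : Fin 3 → F) :
    hermForm 3 F 8 ((cM : Matrix (Fin 3) (Fin 3) F) *ᵥ u) (cM *ᵥ v) = hermForm 3 F 8 u v := by
  simp only [hermForm, Fin.sum_univ_three, cM, Matrix.mulVec, dotProduct]
  simp
  ring

omit [Fintype F] in
theorem suMat_pow' {n q : ℕ} (s : ↥(SU n F q)) (k : ℕ) : suMat (s ^ k) = suMat s ^ k := by
  induction k with
  | zero => rw [pow_zero, pow_zero]; rfl
  | succ k ih => rw [pow_succ, pow_succ, suMat_mul, ih]

omit [Fintype F] in
theorem central_of_scalar {n q : ℕ} (z : ↥(SU n F q)) (a : F)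
    (hz : suMat z = a • (1 : Matrix (Fin n) (Fin n) F)) : z ∈ Subgroup.center ↥(SU n F q) := by
  rw [Subgroup.mem_center_iff]
  intro g
  apply suMat_inj
  rw [suMat_mul, suMat_mul, hz, Matrix.mul_smul, Matrix.smul_mul, mul_one, one_mul]

omit [Fintype F] in
theorem mk_eq_of_smul {n q : ℕ} (s t : ↥(SU n F q)) (a : F) (h : suMat s = a • suMat t) :
    (QuotientGroup.mk s : PSU n F q) = QuotientGroup.mk t := by
  symm
  rw [QuotientGroup.eq]
  apply central_of_scalar _ a
  rw [suMat_mul, h, Matrix.mul_smul, suMat_inv_mul]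

/-- Claim (a): an element of `PSU_3(8)` of order dividing 8 commuting with the image of a
conjugate of `diag(1, ω, ω²)` is trivial. -/
theorem claim_a (hF : Fintype.card F = 8 ^ 2) (h2 : (2:F) = 0) (ω : F) (hω : ω ^ 2 + ω + 1 = 0)
    (V V' : Matrix (Fin 3) (Fin 3) F) (hVV' : V * V' = 1)
    (y : ↥(SU 3 F 8)) (hy : suMat y = V * dM ω * V')
    (k : PSU 3 F 8) (hk : k * QuotientGroup.mk y = QuotientGroup.mk y * k) (hk8 : k ^ 8 = 1) :
    k = 1 := by
  induction k using QuotientGroup.induction_on with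
  | H s =>
    rw [← QuotientGroup.mk_mul, ← QuotientGroup.mk_mul] at hk
    have hz := QuotientGroup.eq.mp hk
    obtain ⟨ζ, hζ⟩ := central_scalar hF 0 _ hz
    have hmat : suMat y * suMat s = ζ • (suMat s * suMat y) := by
      have h1 : y * s = (s * y) * ((s * y)⁻¹ * (y * s)) := by group
      have h3 := congrArg suMat h1
      rw [suMat_mul y s, suMat_mul (s * y) _, suMat_mul s y] at h3
      rw [h3]
      have h4 : suMat ((s * y)⁻¹ * (y * s)) = ζ • (1 : Matrix (Fin 3) (Fin 3) F) := hζ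
      rw [h4, Matrix.mul_smul, mul_one]
    have hζ3 : ζ ^ 3 = 1 := by
      have h1 := congrArg Matrix.det hmat
      rw [Matrix.det_mul, Matrix.det_smul, Matrix.det_mul, suMat_det, suMat_det] at h1
      simpa using h1.symm
    rw [← QuotientGroup.mk_pow] at hk8
    have hz8 := (QuotientGroup.eq_one_iff _).mp hk8
    obtain ⟨ρ, hρ⟩ := central_scalar hF 0 _ hz8
    have hS8 : suMat s ^ 8 = ρ • (1 : Matrix (Fin 3) (Fin 3) F) := by
      rw [← suMat_pow']; exact hρ
    have hρ3 : ρ ^ 3 = 1 := by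
      have h1 := congrArg Matrix.det hS8
      rw [Matrix.det_pow, suMat_det, Matrix.det_smul] at h1
      simpa using h1.symm
    have hρ0 : ρ ≠ 0 := by
      intro h
      rw [h] at hρ3
      simp at hρ3
    have hpowk : ∀ k : ℕ, suMat y * suMat s ^ k = ζ ^ k • (suMat s ^ k * suMat y) := by
      intro k
      induction k with
      | zero => simp
      | succ k ih =>
        calc suMat y * suMat s ^ (k + 1) = (suMat y * suMat s ^ k) * suMat s := by
              rw [pow_succ, mul_assoc]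
          _ = (ζ ^ k • (suMat s ^ k * suMat y)) * suMat s := by rw [ih]
          _ = ζ ^ k • (suMat s ^ k * (suMat y * suMat s)) := by rw [Matrix.smul_mul, mul_assoc]
          _ = ζ ^ k • (suMat s ^ k * (ζ • (suMat s * suMat y))) := by rw [hmat]
          _ = ζ ^ (k + 1) • (suMat s ^ (k + 1) * suMat y) := by
              rw [Matrix.mul_smul, smul_smul, ← mul_assoc, pow_succ ζ k, pow_succ (suMat s) k]
    have hζ8 : ζ ^ 8 = 1 := by
      have h1 := hpowk 8
      rw [hS8, Matrix.mul_smul, mul_one, Matrix.smul_mul, one_mul, smul_smul] at h1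
      have h4 : (ρ - ζ ^ 8 * ρ) • suMat y = 0 := by
        rw [sub_smul, ← h1, sub_self]
      have h5 := congrArg Matrix.det h4
      rw [Matrix.det_smul, suMat_det] at h5
      simp only [Fintype.card_fin, mul_one, Matrix.det_zero] at h5
      have h6 : ρ - ζ ^ 8 * ρ = 0 := by simpa using h5
      have h7 : ρ * (1 - ζ ^ 8) = 0 := by linear_combination h6
      rcases mul_eq_zero.mp h7 with h8 | h8
      · exact absurd h8 hρ0
      · exact (sub_eq_zero.mp h8).symm
    have hζ1 : ζ = 1 := by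
      have h1 : ζ ^ 9 = 1 := by
        have : ζ ^ 9 = (ζ ^ 3) ^ 3 := by ring
        rw [this, hζ3, one_pow]
      have h3 : ζ ^ 9 = ζ ^ 8 * ζ := by ring
      rw [h3, hζ8, one_mul] at h1
      exact h1
    rw [hζ1, one_smul] at hmat
    obtain ⟨a, ha⟩ := scalar_of_comm_conj h2 ω hω V V' (suMat y) (suMat s) hVV' hy hmat.symm ρ hS8
    exact (QuotientGroup.eq_one_iff _).mpr (central_of_scalar s a ha)

theorem card_key (N : ℕ) (h1 : N ∣ 8) (h2 : N % 3 = 1) (h3 : N ≠ 1) : N = 4 := by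
  have hle : N ≤ 8 := Nat.le_of_dvd (by norm_num) h1
  interval_cases N <;> first | rfl | omega

/-- FC-32 with the order bound `|Fix| ∣ 648 = |GU_3(2)|` as a hypothesis. -/
theorem field_noCore_32_of {q : ℕ} (hF : Fintype.card F = q ^ 2) {p : ℕ} [Fact p.Prime]
    (hp2 : p ≠ 2) (hq₀ : q = 2 ^ p) (σ : F ≃+* F) (hσ : orderOf σ = p)
    (hcnt : Nat.card (fixG (fieldPSU σ : MulAut (PSU 3 F q))) ∣ 648)
    (hdvd : p ∣ Nat.card (fixG (fieldPSU σ : MulAut (PSU 3 F q)))) :
    NoCore p (fieldPSU σ : MulAut (PSU 3 F q)) := by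
  have hp : p.Prime := Fact.out
  have hp3 : p = 3 := by
    have h1 : p ∣ 2 ^ 3 * 3 ^ 4 := by
      have h := hdvd.trans hcnt
      norm_num at h ⊢
      exact h
    rcases (Nat.Prime.dvd_mul hp).mp h1 with h | h
    · exact absurd ((Nat.prime_dvd_prime_iff_eq hp Nat.prime_two).mp (hp.dvd_of_dvd_pow h)) hp2
    · exact (Nat.prime_dvd_prime_iff_eq hp Nat.prime_three).mp (hp.dvd_of_dvd_pow h)
  subst hp3
  have hq8 : q = 8 := by rw [hq₀]; norm_num
  subst hq8
  have h2 := two_eq_zero_of_card hF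
  obtain ⟨ω, hω⟩ := exists_omega hF
  have hσω := sigma_omega h2 ω hω σ hσ
  haveI : Finite (PSU 3 F 8) := Cfsg.Agent.Lib.helper50.PSUA.finite_PSU
  intro M hM hinv hcop
  by_contra hne
  obtain ⟨⟨m, hmM⟩, hm1'⟩ := Subgroup.ne_bot_iff_exists_ne_one.mp hne
  have hm1 : m ≠ 1 := fun h => hm1' (Subtype.ext h)
  obtain ⟨x, hx⟩ : ∃ x : MulAut (PSU 3 F 8), x = fieldPSU σ := ⟨_, rfl⟩
  rw [← hx] at hM hinv hcnt
  have hM8 : Nat.card M ∣ 8 := by
    have h1 : Nat.card M ∣ 648 :=
      (Subgroup.card_dvd_of_le (show M ≤ fixG x from fun k hk => hM k hk)).trans hcnt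
    have h3 : (Nat.card M).Coprime (3 ^ 4) := Nat.Coprime.pow_right 4 hcop
    have h648 : (648 : ℕ) = 8 * 3 ^ 4 := by norm_num
    rw [h648] at h1
    exact Nat.Coprime.dvd_of_dvd_mul_right h3 h1
  have hpow8 : ∀ k ∈ M, k ^ 8 = 1 := by
    intro k hk
    have h1 : orderOf (⟨k, hk⟩ : M) ∣ 8 := (orderOf_dvd_natCard _).trans hM8
    have h3 := orderOf_dvd_iff_pow_eq_one.mp h1
    have h4 := congrArg (fun z : M => (z : PSU 3 F 8)) h3
    simpa using h4
  -- the elements `d`, `c`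
  obtain ⟨d, hd⟩ : ∃ d : ↥(SU 3 F 8), suMat d = dM ω :=
    ⟨mkSU (dM ω) (dM_det h2 ω hω) (dM_isom h2 ω hω), rfl⟩
  obtain ⟨c, hc⟩ : ∃ c : ↥(SU 3 F 8), suMat c = (cM : Matrix (Fin 3) (Fin 3) F) :=
    ⟨mkSU cM cM_det cM_isom, rfl⟩
  have hd3 : d * d * d = 1 := by
    apply suMat_inj
    rw [suMat_mul, suMat_mul, hd, suMat_one]
    exact dM_cube h2 ω hω
  have hfd : fieldSU σ d = d := by
    apply suMat_inj
    have h1 : suMat (fieldSU σ d) = (suMat d).map σ := rfl
    rw [h1, hd]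
    ext i j
    fin_cases i <;> fin_cases j <;> simp [dM, hσω]
  have hfc : fieldSU σ c = c := by
    apply suMat_inj
    have h1 : suMat (fieldSU σ c) = (suMat c).map σ := rfl
    rw [h1, hc]
    ext i j
    fin_cases i <;> fin_cases j <;> simp [cM]
  obtain ⟨D, hD⟩ : ∃ D : PSU 3 F 8, D = QuotientGroup.mk d := ⟨_, rfl⟩
  obtain ⟨C, hC⟩ : ∃ C : PSU 3 F 8, C = QuotientGroup.mk c := ⟨_, rfl⟩
  have hxD : x D = D := by rw [hx, hD, fieldPSU_mk, hfd]
  have hxC : x C = C := by rw [hx, hC, fieldPSU_mk, hfc]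
  have hD3 : D * D * D = 1 := by
    rw [hD, ← QuotientGroup.mk_mul, ← QuotientGroup.mk_mul, hd3, QuotientGroup.mk_one]
  have hDD : D * D = D⁻¹ := by rw [eq_inv_iff_mul_eq_one]; exact hD3
  have hconjD : ∀ k ∈ M, D * k * D⁻¹ ∈ M := fun k hk =>
    hinv (MulAut.conj D) (conj_comm_of_fixed x hxD) k hk
  have hconjC : ∀ k ∈ M, C * k * C⁻¹ ∈ M := fun k hk =>
    hinv (MulAut.conj C) (conj_comm_of_fixed x hxC) k hk
  -- claim (a) for `d`, `c`, `d c`, `d² c`
  have hA0 : ∀ k : PSU 3 F 8, k * D = D * k → k ^ 8 = 1 → k = 1 := by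
    intro k h1 h8
    rw [hD] at h1
    exact claim_a hF h2 ω hω 1 1 (one_mul 1) d (by rw [hd, one_mul, mul_one]) k h1 h8
  have hA1 : ∀ k : PSU 3 F 8, k * C = C * k → k ^ 8 = 1 → k = 1 := by
    intro k h1 h8
    rw [hC] at h1
    exact claim_a hF h2 ω hω (v1 ω) (v1' ω) (v1_mul h2 ω hω) c
      (by rw [hc]; exact cM_eq h2 ω hω) k h1 h8
  have hA2 : ∀ k : PSU 3 F 8, k * (D * C) = (D * C) * k → k ^ 8 = 1 → k = 1 := by
    intro k h1 h8
    rw [hD, hC, ← QuotientGroup.mk_mul] at h1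
    exact claim_a hF h2 ω hω (v2 ω) (v2' ω) (v2_mul h2 ω hω) (d * c)
      (by rw [suMat_mul, hd, hc]; exact dcM_eq h2 ω hω) k h1 h8
  have hA3 : ∀ k : PSU 3 F 8, k * (D * D * C) = (D * D * C) * k → k ^ 8 = 1 → k = 1 := by
    intro k h1 h8
    rw [hD, hC, ← QuotientGroup.mk_mul, ← QuotientGroup.mk_mul] at h1
    exact claim_a hF h2 ω hω (v3 ω) (v3' ω) (v3_mul h2 ω hω) (d * d * c)
      (by rw [suMat_mul, suMat_mul, hd, hc]; exact ddcM_eq h2 ω hω) k h1 h8
  -- `|M| = 4`
  have hcard4 : Nat.card M = 4 := by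
    classical
    haveI : Fintype M := Fintype.ofFinite M
    obtain ⟨f, hf⟩ : ∃ f : Function.End M, ∀ k : M, (f k : PSU 3 F 8) = D * k.1 * D⁻¹ :=
      ⟨fun k => ⟨D * k.1 * D⁻¹, hconjD k.1 k.2⟩, fun _ => rfl⟩
    have hf3 : f ^ 3 ^ 1 = 1 := by
      funext k
      apply Subtype.ext
      have h1 : (f ^ 3 ^ 1) k = f (f (f k)) := rfl
      have h0 : (1 : Function.End M) k = k := rfl
      rw [h1, h0, hf, hf, hf]
      have h3 : D * (D * (D * k.1 * D⁻¹) * D⁻¹) * D⁻¹ = (D * D * D) * k.1 * (D * D * D)⁻¹ := by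
        group
      rw [h3, hD3]
      simp
    have : Fact (Nat.Prime 3) := ⟨Nat.prime_three⟩
    have hmod := Equiv.Perm.card_fixedPoints_modEq (p := 3) (n := 1) hf3
    rw [Fintype.card_eq_nat_card, Fintype.card_eq_nat_card] at hmod
    have hfix : Nat.card (Function.fixedPoints f) = 1 := by
      rw [Nat.card_eq_one_iff_unique]
      refine ⟨⟨?_⟩, ⟨⟨1, ?_⟩⟩⟩
      · rintro ⟨a, ha⟩ ⟨b, hb⟩
        have key : ∀ k : M, f k = k → k = 1 := by
          intro k hk
          have h1 : D * k.1 * D⁻¹ = k.1 := by rw [← hf, hk]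
          have h3 : k.1 * D = D * k.1 := by
            rw [mul_inv_eq_iff_eq_mul] at h1; exact h1.symm
          exact Subtype.ext (hA0 k.1 h3 (hpow8 k.1 k.2))
        apply Subtype.ext
        show a = b
        rw [key a ha, key b hb]
      · show f 1 = 1
        apply Subtype.ext
        rw [hf]
        simp
    rw [hfix] at hmod
    exact card_key _ hM8 hmod (fun h => hne (Subgroup.card_eq_one.mp h))
  -- the three conjugates of `m`
  obtain ⟨m1, hm1def⟩ : ∃ m1 : PSU 3 F 8, m1 = D * m * D⁻¹ := ⟨_, rfl⟩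
  obtain ⟨m2, hm2def⟩ : ∃ m2 : PSU 3 F 8, m2 = D * m1 * D⁻¹ := ⟨_, rfl⟩
  have hm1M : m1 ∈ M := by rw [hm1def]; exact hconjD m hmM
  have hm2M : m2 ∈ M := by rw [hm2def]; exact hconjD m1 hm1M
  have hm1ne : m1 ≠ 1 := by
    intro h
    rw [hm1def] at h
    apply hm1
    have h1 : m = D⁻¹ * (D * m * D⁻¹) * D := by group
    rw [h1, h]; group
  have hm2ne : m2 ≠ 1 := by
    intro h
    rw [hm2def] at h
    apply hm1ne
    have h1 : m1 = D⁻¹ * (D * m1 * D⁻¹) * D := by group
    rw [h1, h]; group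
  have hne01 : m1 ≠ m := by
    intro h
    rw [hm1def] at h
    apply hm1
    have h3 : m * D = D * m := by
      rw [mul_inv_eq_iff_eq_mul] at h; exact h.symm
    exact hA0 m h3 (hpow8 m hmM)
  have hne12 : m2 ≠ m1 := by
    intro h
    rw [hm2def] at h
    apply hm1ne
    have h3 : m1 * D = D * m1 := by
      rw [mul_inv_eq_iff_eq_mul] at h; exact h.symm
    exact hA0 m1 h3 (hpow8 m1 hm1M)
  have hm2eq : m2 = D⁻¹ * m * D := by
    rw [hm2def, hm1def]
    have h1 : D * (D * m * D⁻¹) * D⁻¹ = (D * D) * m * (D * D)⁻¹ := by group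
    rw [h1, hDD, inv_inv]
  have hne02 : m2 ≠ m := by
    intro h
    rw [hm2eq] at h
    apply hm1
    have h3 : m * D = D * m := by
      calc m * D = D * (D⁻¹ * m * D) := by group
        _ = D * m := by rw [h]
    exact hA0 m h3 (hpow8 m hmM)
  have hcne : C * m * C⁻¹ ≠ 1 := by
    intro h
    apply hm1
    have h1 : m = C⁻¹ * (C * m * C⁻¹) * C := by group
    rw [h1, h]; group
  have hcases : C * m * C⁻¹ = m ∨ C * m * C⁻¹ = m1 ∨ C * m * C⁻¹ = m2 := by
    by_contra hcon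
    push Not at hcon
    obtain ⟨hc0, hc1, hc2⟩ := hcon
    classical
    haveI : Fintype M := Fintype.ofFinite M
    obtain ⟨t, ht⟩ : ∃ t : Finset M, t = {⟨1, M.one_mem⟩, ⟨m, hmM⟩, ⟨m1, hm1M⟩, ⟨m2, hm2M⟩,
      ⟨C * m * C⁻¹, hconjC m hmM⟩} := ⟨_, rfl⟩
    have htc : t.card = 5 := by
      rw [ht, Finset.card_insert_of_notMem, Finset.card_insert_of_notMem,
        Finset.card_insert_of_notMem, Finset.card_insert_of_notMem, Finset.card_singleton]
      all_goals
        simp only [Finset.mem_insert, Finset.mem_singleton, Subtype.mk.injEq, not_or]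
      all_goals
        first
        | exact ⟨hm1.symm, hm1ne.symm, hm2ne.symm, hcne.symm⟩
        | exact ⟨hne01.symm, hne02.symm, fun h => hc0 h.symm⟩
        | exact ⟨hne12.symm, fun h => hc1 h.symm⟩
        | exact fun h => hc2 h.symm
    have hle := Finset.card_le_univ t
    rw [htc, ← Nat.card_eq_fintype_card, hcard4] at hle
    omega
  rcases hcases with h | h | h
  · apply hm1
    have h3 : m * C = C * m := by
      rw [mul_inv_eq_iff_eq_mul] at h; exact h.symm
    exact hA1 m h3 (hpow8 m hmM)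
  · apply hm1
    rw [hm1def] at h
    have hCm : C * m = D * m * D⁻¹ * C := by rw [← h]; group
    have h3 : m * (D * D * C) = (D * D * C) * m := by
      calc m * (D * D * C) = m * (D⁻¹ * C) := by rw [hDD]
        _ = D⁻¹ * (D * m * D⁻¹ * C) := by group
        _ = D⁻¹ * (C * m) := by rw [hCm]
        _ = (D * D * C) * m := by rw [hDD]; group
    exact hA3 m h3 (hpow8 m hmM)
  · apply hm1
    rw [hm2eq] at h
    have hCm : C * m = D⁻¹ * m * D * C := by rw [← h]; group
    have h3 : m * (D * C) = (D * C) * m := by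
      calc m * (D * C) = D * (D⁻¹ * m * D * C) := by group
        _ = D * (C * m) := by rw [hCm]
        _ = (D * C) * m := by group
    exact hA2 m h3 (hpow8 m hmM)

end

variable {n q : ℕ} {F : Type u} [Field F] [Fintype F]

/-- **S2687 piece FC-32**: the exceptional case `PSU_3(2^p)`. -/
theorem field_noCore_32 (hF : Fintype.card F = q ^ 2) {p : ℕ} [Fact p.Prime] (hp2 : p ≠ 2)
    (hq₀ : q = 2 ^ p) (σ : F ≃+* F) (hσ : orderOf σ = p)
    (hdvd : p ∣ Nat.card (fixG (fieldPSU σ : MulAut (PSU 3 F q)))) :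
    NoCore p (fieldPSU σ : MulAut (PSU 3 F q)) := by
  have hp : p.Prime := Fact.out
  have hcnt := Cfsg.Agent.Lib.helper39.S2687.card_fix_dvd hF (le_refl 3) hp hp2 hq₀ σ hσ
  have h648 : 2 ^ (3 * (3 - 1) / 2) * ∏ i ∈ Finset.range 3,
      (if Even i then 2 ^ (i + 1) + 1 else 2 ^ (i + 1) - 1) = 648 := by decide
  rw [h648] at hcnt
  exact field_noCore_32_of hF hp2 hq₀ σ hσ hcnt hdvd

end Cfsg.Agent.Lib.helper21.S2687
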