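import Mathlib
import Cfsg.Agent.Lib.helper69.SNDefs

/-!
# S4073 piece E1-B (`sn_sylow2_fusion_noncenter`), insurance copy by helper21
-/

set_option autoImplicit false

open Cfsg.Agent.Lib.helper69.SNG
open scoped Pointwise

namespace Cfsg.Agent.Lib.helper21.SNG

universe u

/-- A `p`-subgroup `R` of a subgroup `H` containing a Sylow `p`-subgroup `P` of `G` is conjugate
into `P` by an element of `H`. -/
theorem helper21_pGroup_conj_into_sylow {G : Type u} [Group G] [Finite G] {p : ℕ} [Fact p.Prime]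
    (P : Sylow p G) (H : Subgroup G) (hP : (P : Subgroup G) ≤ H) {R : Subgroup G}
    (hR : IsPGroup p R) (hRH : R ≤ H) : ∃ h ∈ H, ∀ y ∈ R, h⁻¹ * y * h ∈ (P : Subgroup G) := by
  have hR' : IsPGroup p (R.subgroupOf H) := hR.comap_subtype
  obtain ⟨Q', hQ'⟩ := hR'.exists_le_sylow
  obtain ⟨h, hh⟩ := MulAction.exists_smul_eq H (P.subtype hP) Q'
  refine ⟨h, h.2, fun y hy => ?_⟩
  have h1 : (⟨y, hRH hy⟩ : H) ∈ Q' := hQ' (Subgroup.mem_subgroupOf.mpr hy)
  rw [← hh] at h1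
  have h1' : (⟨y, hRH hy⟩ : H) ∈ ((h • (P.subtype hP) : Sylow p H) : Subgroup H) := h1
  rw [Sylow.coe_subgroup_smul, Subgroup.mem_pointwise_smul_iff_inv_smul_mem] at h1'
  have h2 : h⁻¹ * (⟨y, hRH hy⟩ : H) * h ∈ ((P.subtype hP : Sylow p H) : Subgroup H) := by
    simpa [MulAut.smul_def, MulAut.conj_apply] using h1'
  have h3 : h⁻¹ * (⟨y, hRH hy⟩ : H) * h ∈ (P : Subgroup G).subgroupOf H := h2
  rw [Subgroup.mem_subgroupOf] at h3
  simpa using h3

/-- A subgroup of index two (given by cardinalities) is normalized by the big group. -/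
theorem helper21_le_normalizer_of_two {G : Type u} [Group G] [Finite G] (M T : Subgroup G)
    (hMT : M ≤ T) (h2 : 2 * Nat.card M = Nat.card T) :
    T ≤ Subgroup.normalizer (M : Set G) := by
  have hidx : (M.subgroupOf T).index = 2 := by
    have h0 : Nat.card (M.subgroupOf T) = Nat.card M :=
      Nat.card_congr (Subgroup.subgroupOfEquivOfLe hMT).toEquiv
    have h1 : Nat.card (M.subgroupOf T) * (M.subgroupOf T).index = Nat.card T :=
      (M.subgroupOf T).card_mul_index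
    have hpos : 0 < Nat.card M := Nat.card_pos
    rw [h0, ← h2, mul_comm 2] at h1
    exact Nat.eq_of_mul_eq_mul_left hpos h1
  have hn : (M.subgroupOf T).Normal := Subgroup.normal_of_index_eq_two hidx
  intro t ht
  rw [Subgroup.mem_normalizer_iff]
  intro m
  constructor
  · intro hm
    have h1 : (⟨t, ht⟩ : T) * ⟨m, hMT hm⟩ * (⟨t, ht⟩ : T)⁻¹ ∈ M.subgroupOf T :=
      hn.conj_mem _ (Subgroup.mem_subgroupOf.mpr hm) _
    rw [Subgroup.mem_subgroupOf] at h1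
    simpa using h1
  · intro hm
    have h1 : (⟨t, ht⟩ : T)⁻¹ * ⟨t * m * t⁻¹, hMT hm⟩ * ((⟨t, ht⟩ : T)⁻¹)⁻¹ ∈ M.subgroupOf T :=
      hn.conj_mem _ (Subgroup.mem_subgroupOf.mpr hm) _
    rw [Subgroup.mem_subgroupOf] at h1
    have h2 : t⁻¹ * (t * m * t⁻¹) * t = m := by group
    simpa [h2] using h1

/-- **[E1-B]** -/
theorem sn_sylow2_fusion_noncenter {G : Type u} [Group G] [Finite G] [IsSimpleGroup G]
    (hna : ¬ IsMulCommutative G) (h : SN G) (S : Sylow 2 G) (hS : ¬ IsMulCommutative S)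
    (hP2N : ∀ (K : Subgroup G), K ≠ ⊤ → ∀ T : Sylow 2 G, (T : Subgroup G) ≤ K →
      ∃ O : Subgroup G, O ≤ K ∧ K ≤ Subgroup.normalizer (O : Set G) ∧ Odd (Nat.card O) ∧
        O ⊔ (T : Subgroup G) = K)
    (z : G) (hzS : z ∈ S) (hz1 : z ≠ 1)
    (hz : z ∈ Subgroup.centralizer ((S : Subgroup G) : Set G)) (g : G)
    (hgS : g * z * g⁻¹ ∈ S)
    (hM : 2 * Nat.card ↥((S : Subgroup G) ⊓ Subgroup.centralizer ({g * z * g⁻¹} : Set G))
      = Nat.card S) : False := by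
  classical
  obtain ⟨z', hz'⟩ : ∃ z' : G, z' = g * z * g⁻¹ := ⟨_, rfl⟩
  rw [← hz'] at hgS hM
  obtain ⟨L, hL⟩ : ∃ L : Subgroup G, L = Subgroup.centralizer ({z'} : Set G) := ⟨_, rfl⟩
  rw [← hL] at hM
  obtain ⟨M₁, hM₁⟩ : ∃ M₁ : Subgroup G, M₁ = (S : Subgroup G) ⊓ L := ⟨_, rfl⟩
  rw [← hM₁] at hM
  have hmemL : ∀ y : G, y ∈ L ↔ z' * y = y * z' := by
    intro y
    rw [hL, Subgroup.mem_centralizer_iff]
    constructor
    · intro hy; exact hy z' rfl
    · intro hy w hw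
      rw [Set.mem_singleton_iff] at hw
      subst hw; exact hy
  have hzc : ∀ s ∈ (S : Subgroup G), s * z = z * s := fun s hs =>
    (Subgroup.mem_centralizer_iff.mp hz) s hs
  have hM₁S : M₁ ≤ (S : Subgroup G) := by rw [hM₁]; exact inf_le_left
  have hM₁L : M₁ ≤ L := by rw [hM₁]; exact inf_le_right
  have hzM : z ∈ M₁ := by
    rw [hM₁]
    exact ⟨hzS, (hmemL z).mpr (hzc z' hgS)⟩
  have hz'M : z' ∈ M₁ := by
    rw [hM₁]
    exact ⟨hgS, (hmemL z').mpr rfl⟩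
  -- the conjugate Sylow subgroup `S₁ = g S g⁻¹` lies in `L`
  have hS₁L : ((g • S : Sylow 2 G) : Subgroup G) ≤ L := by
    intro y hy
    rw [Sylow.coe_subgroup_smul, Subgroup.mem_pointwise_smul_iff_inv_smul_mem] at hy
    have hy' : g⁻¹ * y * g ∈ (S : Subgroup G) := by
      simpa [MulAut.smul_def, MulAut.conj_apply] using hy
    rw [hmemL]
    have h1 := hzc _ hy'
    -- g⁻¹ y g z = z g⁻¹ y g
    rw [hz']
    have h2 : y = g * (g⁻¹ * y * g) * g⁻¹ := by group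
    rw [h2]
    calc g * z * g⁻¹ * (g * (g⁻¹ * y * g) * g⁻¹) = g * (z * (g⁻¹ * y * g)) * g⁻¹ := by group
      _ = g * ((g⁻¹ * y * g) * z) * g⁻¹ := by rw [h1]
      _ = g * (g⁻¹ * y * g) * g⁻¹ * (g * z * g⁻¹) := by group
  have hM₁p : IsPGroup 2 M₁ := S.isPGroup'.to_le hM₁S
  obtain ⟨k, hkL, hk⟩ := helper21_pGroup_conj_into_sylow (g • S : Sylow 2 G) L hS₁L hM₁p hM₁L
  -- `S₂ = k S₁ k⁻¹`
  obtain ⟨S₂, hS₂⟩ : ∃ S₂ : Sylow 2 G, S₂ = k • (g • S : Sylow 2 G) := ⟨_, rfl⟩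
  have hmemS₂ : ∀ y : G, y ∈ (S₂ : Subgroup G) ↔ g⁻¹ * (k⁻¹ * y * k) * g ∈ (S : Subgroup G) := by
    intro y
    rw [hS₂, Sylow.coe_subgroup_smul, Subgroup.mem_pointwise_smul_iff_inv_smul_mem,
      Sylow.coe_subgroup_smul, Subgroup.mem_pointwise_smul_iff_inv_smul_mem]
    simp [MulAut.smul_def, MulAut.conj_apply, mul_assoc]
  have hM₁S₂ : M₁ ≤ (S₂ : Subgroup G) := by
    intro m hm
    rw [hmemS₂]
    have h1 := hk m hm
    rw [Sylow.coe_subgroup_smul, Subgroup.mem_pointwise_smul_iff_inv_smul_mem] at h1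
    simpa [MulAut.smul_def, MulAut.conj_apply, mul_assoc] using h1
  have hkz : z' * k = k * z' := (hmemL k).mp hkL
  have hS₂c : ∀ y ∈ (S₂ : Subgroup G), z' * y = y * z' := by
    intro y hy
    rw [hmemS₂] at hy
    have h1 := hzc _ hy
    have h2 : k⁻¹ * z' * k = z' := by
      rw [mul_assoc, hkz, ← mul_assoc, inv_mul_cancel, one_mul]
    have h3 : y = k * (g * (g⁻¹ * (k⁻¹ * y * k) * g) * g⁻¹) * k⁻¹ := by group
    have h4 : z' = k * (g * z * g⁻¹) * k⁻¹ := by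
      rw [← hz', ← hkz, mul_inv_cancel_right]
    rw [h3]
    set w := g⁻¹ * (k⁻¹ * y * k) * g with hw
    calc z' * (k * (g * w * g⁻¹) * k⁻¹)
        = k * (g * z * g⁻¹) * k⁻¹ * (k * (g * w * g⁻¹) * k⁻¹) := by rw [← h4]
      _ = k * (g * (z * w) * g⁻¹) * k⁻¹ := by group
      _ = k * (g * (w * z) * g⁻¹) * k⁻¹ := by rw [h1]
      _ = k * (g * w * g⁻¹) * k⁻¹ * (k * (g * z * g⁻¹) * k⁻¹) := by group
      _ = k * (g * w * g⁻¹) * k⁻¹ * z' := by rw [← h4]
  -- cardinalities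
  have hcardS₂ : Nat.card (S₂ : Subgroup G) = Nat.card (S : Subgroup G) := by
    rw [Sylow.card_eq_multiplicity S₂, Sylow.card_eq_multiplicity S]
  -- the normalizer
  have hSN : (S : Subgroup G) ≤ Subgroup.normalizer (M₁ : Set G) :=
    helper21_le_normalizer_of_two M₁ S hM₁S hM
  have hS₂N : (S₂ : Subgroup G) ≤ Subgroup.normalizer (M₁ : Set G) :=
    helper21_le_normalizer_of_two M₁ S₂ hM₁S₂ (by rw [hcardS₂]; exact hM)
  have hNtop : Subgroup.normalizer (M₁ : Set G) ≠ ⊤ := by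
    intro htop
    have hnorm : M₁.Normal := Subgroup.normalizer_eq_top_iff.mp htop
    rcases hnorm.eq_bot_or_eq_top with hb | ht
    · rw [hb, Subgroup.mem_bot] at hzM
      exact hz1 hzM
    · have h1 : (S : Subgroup G) = M₁ := le_antisymm (by rw [ht]; exact le_top) hM₁S
      have h2 : Nat.card (S : Subgroup G) = Nat.card M₁ := by rw [h1]
      have hpos : 0 < Nat.card M₁ := Nat.card_pos
      have h3 : 2 * Nat.card M₁ = Nat.card M₁ := by rw [hM]; exact h2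
      omega
  obtain ⟨O, hON, hNO, hOodd, hOS⟩ := hP2N _ hNtop S hSN
  -- `O` centralizes `M₁`
  have hOM : ∀ o ∈ O, ∀ m ∈ M₁, o * m = m * o := by
    intro o ho m hm
    have hc1 : o * m * o⁻¹ * m⁻¹ ∈ O := by
      have hmN : m ∈ Subgroup.normalizer (O : Set G) := hNO (hSN (hM₁S hm))
      have h1 : m * o⁻¹ * m⁻¹ ∈ O :=
        (Subgroup.mem_normalizer_iff.mp hmN o⁻¹).mp (O.inv_mem ho)
      have h2 : o * m * o⁻¹ * m⁻¹ = o * (m * o⁻¹ * m⁻¹) := by group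
      rw [h2]; exact O.mul_mem ho h1
    have hc2 : o * m * o⁻¹ * m⁻¹ ∈ M₁ := by
      have hoN : o ∈ Subgroup.normalizer (M₁ : Set G) := hON ho
      have h1 : o * m * o⁻¹ ∈ M₁ := (Subgroup.mem_normalizer_iff.mp hoN m).mp hm
      exact M₁.mul_mem h1 (M₁.inv_mem hm)
    have hcop : (Nat.card O).Coprime (Nat.card M₁) := by
      obtain ⟨n, hn⟩ := hM₁p.exists_card_eq
      rw [hn]
      exact Nat.Coprime.pow_right n (Nat.coprime_two_right.mpr hOodd)
    have hinf : O ⊓ M₁ = ⊥ := (Subgroup.disjoint_of_coprime_natCard hcop).eq_bot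
    have h1 : o * m * o⁻¹ * m⁻¹ ∈ O ⊓ M₁ := ⟨hc1, hc2⟩
    rw [hinf, Subgroup.mem_bot] at h1
    have h2 : o * m = (o * m * o⁻¹ * m⁻¹) * (m * o) := by group
    rw [h2, h1, one_mul]
  -- conjugate `S` into `S₂` inside the normalizer
  obtain ⟨n, hnN, hn⟩ := helper21_pGroup_conj_into_sylow S₂ _ hS₂N S.isPGroup' hSN
  -- decompose `n⁻¹ = o * s`
  have hn' : n⁻¹ ∈ O ⊔ (S : Subgroup G) := by rw [hOS]; exact Subgroup.inv_mem _ hnN
  have hSO : (S : Subgroup G) ≤ Subgroup.normalizer (O : Set G) := hSN.trans hNO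
  have hset := Subgroup.coe_mul_of_right_le_normalizer_left O (S : Subgroup G) hSO
  have hn'' : n⁻¹ ∈ ((O : Set G) * ((S : Subgroup G) : Set G)) := by
    rw [← hset]; exact hn'
  obtain ⟨o, ho, s₀, hs₀, hos⟩ := Set.mem_mul.mp hn''
  -- `z'` centralizes `S`
  have hfinal : ∀ s ∈ (S : Subgroup G), z' * s = s * z' := by
    intro s hs
    -- apply `hn` to `s₀⁻¹ * s * s₀ ∈ S`
    have hs' : s₀⁻¹ * s * s₀ ∈ (S : Subgroup G) :=
      Subgroup.mul_mem _ (Subgroup.mul_mem _ (Subgroup.inv_mem _ hs₀) hs) hs₀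
    have h1 := hn _ hs'
    have h2 : n⁻¹ * (s₀⁻¹ * s * s₀) * n = o * s * o⁻¹ := by
      have hn2 : n = (o * s₀)⁻¹ := by rw [hos, inv_inv]
      rw [hn2]; group
    rw [h2] at h1
    have h3 := hS₂c _ h1
    have ho' : o * z' = z' * o := hOM o ho z' hz'M
    -- z' * (o s o⁻¹) = (o s o⁻¹) * z'  and o commutes with z'
    have h4 : z' * s = o⁻¹ * (z' * (o * s * o⁻¹)) * o := by
      have : o⁻¹ * (z' * (o * s * o⁻¹)) * o = o⁻¹ * (z' * o) * s := by group
      rw [this, ← ho']; group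
    have h5 : s * z' = o⁻¹ * ((o * s * o⁻¹) * z') * o := by
      have : o⁻¹ * ((o * s * o⁻¹) * z') * o = s * (o⁻¹ * (z' * o)) := by group
      rw [this, ← ho']; group
    rw [h4, h5, h3]
  have hSL : (S : Subgroup G) ≤ L := fun s hs => (hmemL s).mpr (hfinal s hs)
  have h1 : M₁ = (S : Subgroup G) := by rw [hM₁]; exact inf_eq_left.mpr hSL
  have hpos : 0 < Nat.card M₁ := Nat.card_pos
  have h2 : Nat.card (S : Subgroup G) = Nat.card M₁ := by rw [h1]
  have h3 : 2 * Nat.card M₁ = Nat.card M₁ := by rw [hM]; exact h2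
  omega

end Cfsg.Agent.Lib.helper21.SNG
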