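import Mathlib

set_option autoImplicit false

namespace Cfsg.Agent.Lib.helper44.SUW

open Matrix

/-- R1COUNT core (helper21): the SLTR and FNORM1 conclusions are hypotheses. -/
theorem helper21_rank_one_count_core {K : Type*} [Field K] [Fintype K] [DecidableEq K] {q m : ℕ}
    (hK : Fintype.card K = q ^ 2) (σ : K →+* K) (hσ : ∀ x, σ x = x ^ q)
    (hSL : ∀ x y : Fin m → K, x ≠ 0 → y ≠ 0 →
      ∃ B : Matrix (Fin m) (Fin m) K, B.det = 1 ∧ B *ᵥ x = y)
    (hN1 : Nat.card {z : K // z * σ z = 1} ≤ q + 1)
    (S : Set (Matrix (Fin m) (Fin m) K))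
    (hstab : ∀ Y ∈ S, ∀ B : Matrix (Fin m) (Fin m) K, B.det = 1 → (B.map σ)ᵀ * Y * B ∈ S)
    (c : K) (z : Fin m → K) (hc : c ≠ 0) (hz : z ≠ 0)
    (hmem : c • Matrix.vecMulVec z (fun j => σ (z j)) ∈ S) :
    (q ^ (m + m) - 1) / (q + 1) ≤ Nat.card S := by
  classical
  have hσσ : ∀ x, σ (σ x) = x := by
    intro x
    rw [hσ, hσ, ← pow_mul, ← sq, ← hK, FiniteField.pow_card]
  let f : (Fin m → K) → Matrix (Fin m) (Fin m) K :=
    fun w => c • Matrix.vecMulVec w (fun j => σ (w j))
  -- step 1: every `f w` (`w ≠ 0`) is in `S`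
  have hall : ∀ w : Fin m → K, w ≠ 0 → f w ∈ S := by
    intro w hw
    obtain ⟨B', hB', hBz⟩ := hSL z w hz hw
    set B : Matrix (Fin m) (Fin m) K := (B'ᵀ).map σ with hB
    have hBmap : (B.map σ)ᵀ = B' := by
      ext i j
      simp [hB, Matrix.map_apply, hσσ]
    have hdet : B.det = 1 := by
      have hd := RingHom.map_det σ B'ᵀ
      rw [RingHom.mapMatrix_apply] at hd
      rw [hB, ← hd, Matrix.det_transpose, hB', map_one]
    have h1 := hstab _ hmem B hdet
    rw [hBmap] at h1
    have hwi : ∀ i, w i = ∑ k, B' i k * z k := by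
      intro i; rw [← hBz]; simp [Matrix.mulVec, dotProduct]
    have e : B' * (c • Matrix.vecMulVec z (fun j => σ (z j))) * B = f w := by
      ext i j
      have lhs : (B' * (c • Matrix.vecMulVec z (fun j => σ (z j))) * B) i j =
          ∑ l, ∑ k, B' i k * (c * (z k * σ (z l))) * σ (B' j l) := by
        simp only [Matrix.mul_apply, Matrix.smul_apply, Matrix.vecMulVec_apply, smul_eq_mul, hB,
          Matrix.map_apply, Matrix.transpose_apply, Finset.sum_mul]
      have rhs : f w i j = ∑ k, ∑ l, B' i k * (c * (z k * σ (z l))) * σ (B' j l) := by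
        simp only [f, Matrix.smul_apply, Matrix.vecMulVec_apply, smul_eq_mul]
        rw [hwi i, hwi j, map_sum, Finset.sum_mul, Finset.mul_sum]
        refine Finset.sum_congr rfl (fun k _ => ?_)
        rw [Finset.mul_sum, Finset.mul_sum]
        refine Finset.sum_congr rfl (fun l _ => ?_)
        rw [map_mul]; ring
      rw [lhs, rhs, Finset.sum_comm]
    rw [e] at h1; exact h1
  -- step 2: fibres
  let s : Finset (Fin m → K) := Finset.univ.filter (fun w => w ≠ 0)
  have hfib : ∀ a ∈ s.image f, (s.filter (fun x => f x = a)).card ≤ q + 1 := by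
    intro a ha
    obtain ⟨w0, hw0, rfl⟩ := Finset.mem_image.1 ha
    have hw0' : w0 ≠ 0 := (Finset.mem_filter.1 hw0).2
    calc (s.filter (fun x => f x = f w0)).card
        ≤ (Finset.univ.image (fun ζ : {ζ : K // ζ * σ ζ = 1} => ζ.1 • w0)).card := by
          apply Finset.card_le_card
          intro w hw
          rw [Finset.mem_filter] at hw
          obtain ⟨hws, hfw⟩ := hw
          have hwne : w ≠ 0 := (Finset.mem_filter.1 hws).2
          have hent : ∀ i j, w i * σ (w j) = w0 i * σ (w0 j) := by
            intro i j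
            have h2 := congrFun (congrFun hfw i) j
            simp only [f, Matrix.smul_apply, Matrix.vecMulVec_apply, smul_eq_mul] at h2
            exact mul_left_cancel₀ hc h2
          obtain ⟨i0, hi0⟩ := Function.ne_iff.1 hwne
          have hi0' : w i0 ≠ 0 := by simpa using hi0
          have hσw : σ (w i0) ≠ 0 := (map_ne_zero σ).2 hi0'
          have hw0i : w0 i0 ≠ 0 := by
            intro h0
            have h3 := hent i0 i0
            rw [h0, zero_mul] at h3
            exact mul_ne_zero hi0' hσw h3
          have hσw0 : σ (w0 i0) ≠ 0 := (map_ne_zero σ).2 hw0i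
          rw [Finset.mem_image]
          refine ⟨⟨σ (w0 i0) / σ (w i0), ?_⟩, Finset.mem_univ _, ?_⟩
          · rw [map_div₀, hσσ, hσσ]
            have h3 := hent i0 i0
            field_simp
            linear_combination -h3
          · funext i
            have h3 := hent i i0
            simp only [Pi.smul_apply, smul_eq_mul]
            field_simp
            linear_combination -h3
      _ ≤ Fintype.card {ζ : K // ζ * σ ζ = 1} := by
          refine Finset.card_image_le.trans ?_
          rw [Finset.card_univ]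
      _ = Nat.card {ζ : K // ζ * σ ζ = 1} := Nat.card_eq_fintype_card.symm
      _ ≤ q + 1 := hN1
  -- step 3: counting
  have hscard : s.card = q ^ (m + m) - 1 := by
    have h1 : s = Finset.univ.erase (0 : Fin m → K) := by
      ext w; simp [s]
    rw [h1, Finset.card_erase_of_mem (Finset.mem_univ _), Finset.card_univ, Fintype.card_fun,
      Fintype.card_fin, hK, ← pow_mul, two_mul]
  have h2 : s.card ≤ (q + 1) * (s.image f).card := Finset.card_le_mul_card_image s (q + 1) hfib
  have h3 : (s.image f).card ≤ Nat.card S := by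
    rw [Nat.card_coe_set_eq, ← Set.ncard_coe_finset]
    apply Set.ncard_le_ncard _ (Set.toFinite S)
    intro a ha
    rw [Finset.mem_coe, Finset.mem_image] at ha
    obtain ⟨w, hw, rfl⟩ := ha
    exact hall w (Finset.mem_filter.1 hw).2
  rw [← hscard]
  apply Nat.div_le_of_le_mul
  exact h2.trans (Nat.mul_le_mul_left _ h3)

end Cfsg.Agent.Lib.helper44.SUW
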