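import Mathlib
import Cfsg.Agent.Lib.helper4.BurnsidePQ
import Cfsg.Agent.Lib.helper75.SimpleOrd
import Cfsg.Agent.Lib.helper21.SylowTest
import Cfsg.Agent.Lib.helper21.DihInv
import Cfsg.Agent.Lib.helper21.PrimeTICor
import Cfsg.Agent.S0904

set_option autoImplicit false

/-!
# A verified sieve for the orders of non-abelian finite simple groups (helper21)

`NS n` says that no non-abelian finite simple group has order `n`.  Each criterion below reduces
`NS n` to a decidable arithmetic statement that is checked by kernel evaluation.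
-/

namespace Cfsg.Agent.Lib.helper21

universe u

/-- There is no non-abelian finite simple group of order `n` (in the universe `u`). -/
def NS (n : ℕ) : Prop :=
  ∀ (G : Type u) [Group G] [Finite G] [IsSimpleGroup G],
    (¬ ∀ a b : G, a * b = b * a) → Nat.card G ≠ n

/-- A candidate `(d, e)` for the number of Sylow subgroups is refuted by the fixed points of an
element of prime order `r` of the centralizer (`c = |C(P)| / p`). -/
def SvRefuted (p d c : ℕ) : Prop :=
  ∃ r ∈ [2, 3, 5, 7, 11, 13],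
    r ∣ c ∧ ∀ f < d, f % p = 1 → f % r = d % r → (r = 2 ∧ f % 4 ≠ d % 4)

instance (p d c : ℕ) : Decidable (SvRefuted p d c) := by unfold SvRefuted; infer_instance

/-- All indices `e = |N(P) : C(P)|` are refuted. -/
def SvECheck (p d k : ℕ) : Prop :=
  ∀ e < p, e ∣ p - 1 → e ≠ 1 → e ∣ k → SvRefuted p d (k / e)

instance (p d k : ℕ) : Decidable (SvECheck p d k) := by unfold SvECheck; infer_instance

/-- The check for a prime `p` dividing `n = p m` exactly once. -/
def SvL13 (n p m : ℕ) : Prop :=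
  ∀ d < m + 1, d ∣ m → d % p = 1 → d ≠ 1 → 2 * n ∣ d.factorial → SvECheck p d (m / d)

instance (n p m : ℕ) : Decidable (SvL13 n p m) := by unfold SvL13; infer_instance

/-- The check for a Sylow subgroup of arbitrary order. -/
def SvL2 (n p m : ℕ) : Prop :=
  ∀ d < m + 1, d ∣ m → d % p = 1 → d ≠ 1 → ¬ 2 * n ∣ d.factorial

instance (n p m : ℕ) : Decidable (SvL2 n p m) := by unfold SvL2; infer_instance

/-- Inner check for an abelian Sylow subgroup. -/
def SvL4T (p a m d : ℕ) : Prop :=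
  ∀ t < m + 1, t ∣ p ^ a - 1 → t ≠ 1 → ¬ t * d ∣ m

instance (p a m d : ℕ) : Decidable (SvL4T p a m d) := by unfold SvL4T; infer_instance

/-- The check for an abelian Sylow subgroup of order `p ^ a`, `a ≤ 2`. -/
def SvL4 (n p a m : ℕ) : Prop :=
  ∀ d < m + 1, d ∣ m → d % p = 1 → d ≠ 1 → 2 * n ∣ d.factorial → SvL4T p a m d

instance (n p a m : ℕ) : Decidable (SvL4 n p a m) := by unfold SvL4; infer_instance

/-- The tests for a dihedral normalizer. -/
def SvBTDih (n r m t : ℕ) : Prop :=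
  4 * n ≤ r * t ^ 2 ∨ ∃ s < m + 1, s * s = m

instance (n r m t : ℕ) : Decidable (SvBTDih n r m t) := by unfold SvBTDih; infer_instance

/-- The check for one index `e = |N(P) : P|`. -/
def SvBTE (n r m t e : ℕ) : Prop :=
  (m / e) % r = 1 → 2 * n ∣ (m / e).factorial → e = 2 ∧ SvBTDih n r m t

instance (n r m t e : ℕ) : Decidable (SvBTE n r m t e) := by unfold SvBTE; infer_instance

/-- The check for a group of order `n = m r` with three prime divisors, `r` exactly dividing
`n` (Brauer–Tuan); `t` is a power of `2` dividing `n`. -/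
def SvBT (n r m t : ℕ) : Prop :=
  ∀ e < r, e ∣ r - 1 → e ≠ 1 → e ∣ m → SvBTE n r m t e

instance (n r m t : ℕ) : Decidable (SvBT n r m t) := by unfold SvBT; infer_instance

/-- Exceptional characters, `|N(P)| = 2 p`: the number of Sylow subgroups. -/
def SvExc2A (p m : ℕ) : Prop :=
  ∀ d < m + 1, d ∣ m → d % p = 1 → d ≠ 1 → d * 2 = m

instance (p m : ℕ) : Decidable (SvExc2A p m) := by unfold SvExc2A; infer_instance

/-- Exceptional characters, `|N(P)| = 2 p`: the degree `f` of the non-exceptional character. -/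
def SvExc2F (n p f : ℕ) : Prop :=
  (f % p = 1 → ¬ ((f + 1) ∣ n ∧ 1 + f ^ 2 + 4 * (f + 1) ^ 2 ≤ n)) ∧
    (f % p = p - 1 → ¬ ((f - 1) ∣ n ∧ 1 < f - 1 ∧ 1 + f ^ 2 + 4 * (f - 1) ^ 2 ≤ n))

instance (n p f : ℕ) : Decidable (SvExc2F n p f) := by unfold SvExc2F; infer_instance

/-- The check for exceptional characters, `|N(P)| = 2 p`. -/
def SvExc2 (n p m : ℕ) : Prop :=
  SvExc2A p m ∧ ∀ f < n + 1, 1 < f → f ∣ n → SvExc2F n p f

instance (n p m : ℕ) : Decidable (SvExc2 n p m) := by unfold SvExc2; infer_instance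

section

variable {G : Type u} [Group G] [Finite G]

omit [Finite G] in
theorem sv_two_lt_card [Finite G] [IsSimpleGroup G] (hna : ¬ ∀ a b : G, a * b = b * a) :
    2 < Nat.card G := by
  by_contra hcon
  apply hna
  have h1 : 1 < Nat.card G := Finite.one_lt_card
  have h2 : Nat.card G = 2 := by omega
  have : Fact (Nat.Prime 2) := ⟨Nat.prime_two⟩
  have hcyc : IsCyclic G := isCyclic_of_prime_card h2
  intro a b
  exact hcyc.isMulCommutative.is_comm.comm a b

end

/-- Burnside: groups of order `p ^ a q ^ b`. -/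
theorem ns_two (n p q a b : ℕ) (hp : p.Prime) (hq : q.Prime) (hn : n = p ^ a * q ^ b) :
    NS.{u} n := by
  intro G _ _ _ hna hc
  exact hna (IsSimpleGroup.comm_iff_isSolvable.mpr
    (Cfsg.Agent.Lib.helper4.isSolvable_of_card_eq_prime_pow_mul_prime_pow p q a b hp hq
      (hc.trans hn)))

/-- Sylow subgroups of arbitrary order. -/
theorem ns_L2 (n p a m : ℕ) (hp : p.Prime) (ha : 1 ≤ a) (hn : n = p ^ a * m) (hpm : ¬ p ∣ m)
    (hm : m ≠ 1) (hcheck : SvL2 n p m) : NS.{u} n := by
  intro G _ _ _ hna hc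
  obtain ⟨d, hdm, hmod, hd1, hfac⟩ := simple_sylow_test' p a m hp ha (hc.trans hn) hpm hm
  have hmpos : 0 < m := by
    rcases Nat.eq_zero_or_pos m with h | h
    · exfalso
      have : 0 < Nat.card G := Nat.card_pos
      rw [hc, hn, h, mul_zero] at this
      exact lt_irrefl _ this
    · exact h
  exact hcheck d (Nat.lt_succ_of_le (Nat.le_of_dvd hmpos hdm)) hdm hmod hd1 (by rwa [hn])

/-- Abelian Sylow subgroups of order `p` or `p ^ 2`. -/
theorem ns_L4 (n p a m : ℕ) (hp : p.Prime) (ha : a = 1 ∨ a = 2) (hn : n = p ^ a * m)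
    (hpm : ¬ p ∣ m) (hm : m ≠ 1) (hcheck : SvL4 n p a m) : NS.{u} n := by
  intro G _ _ _ hna hc
  obtain ⟨t, d, ht, htd, htdm, hmod, hd1, hfac⟩ :=
    simple_sylow_test p a m hp ha (hc.trans hn) hpm hm
  have hmpos : 0 < m := by
    rcases Nat.eq_zero_or_pos m with h | h
    · exfalso
      have : 0 < Nat.card G := Nat.card_pos
      rw [hc, hn, h, mul_zero] at this
      exact lt_irrefl _ this
    · exact h
  have hdm : d ∣ m := (Dvd.intro_left t rfl).trans htdm
  have htm : t ∣ m := (Dvd.intro d rfl).trans htdm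
  exact hcheck d (Nat.lt_succ_of_le (Nat.le_of_dvd hmpos hdm)) hdm hmod hd1 (by rwa [hn]) t
    (Nat.lt_succ_of_le (Nat.le_of_dvd hmpos htm)) htd ht.one_lt.ne' htdm

/-- A prime dividing the order exactly once: Sylow counting, Burnside transfer, the embedding in
the alternating group and the fixed points of elements of the centralizer. -/
theorem ns_L13 (n p m : ℕ) (hp : p.Prime) (hn : n = p * m) (hpm : ¬ p ∣ m) (hm : 1 < m)
    (hcheck : SvL13 n p m) : NS.{u} n := by
  intro G _ _ _ hna hc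
  haveI := Fact.mk hp
  obtain ⟨P⟩ : Nonempty (Sylow p G) := inferInstance
  obtain ⟨hPcard, hn1, hmod, ⟨k, hstab, hdk⟩, ⟨e, he, he1, hCe⟩⟩ :=
    Cfsg.Agent.Lib.helper75.sylow_setup m (hc.trans hn) hpm hm P
  obtain ⟨-, -, hPbot, hPtop, -⟩ :=
    simple_sylow_basic 1 m le_rfl (by rw [hc, hn, pow_one]) hpm (by omega) P
  have h3 : 2 < Nat.card G := sv_two_lt_card hna
  have h2n : 2 * n ∣ (Nat.card (Sylow p G)).factorial := by
    rw [← hc]
    exact two_mul_card_dvd_factorial_card_sylow_of_simple hna P hPbot hPtop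
  obtain ⟨d, hd⟩ : ∃ d, d = Nat.card (Sylow p G) := ⟨_, rfl⟩
  rw [← hd] at hn1 hmod hdk h2n
  have hdm : d ∣ m := ⟨k, hdk.symm⟩
  have hmpos : 0 < m := by omega
  have hdpos : 0 < d := Nat.pos_of_dvd_of_pos hdm hmpos
  have hmd : m / d = k := Nat.div_eq_of_eq_mul_right hdpos hdk.symm
  have hp1 : 0 < p - 1 := by have := hp.two_le; omega
  have helt : e < p := by have := Nat.le_of_dvd hp1 he; omega
  have hcop : Nat.Coprime e p := by
    have h1 : Nat.Coprime (p - 1) p := by
      have h2 : Nat.Coprime (p - 1) (p - 1 + 1) := (Nat.coprime_self_add_right).mpr (by simp)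
      rwa [Nat.sub_add_cancel hp.one_le] at h2
    exact Nat.Coprime.coprime_dvd_left he h1
  have hek : e ∣ k := by
    have h1 : e ∣ p * k := by rw [← hstab, ← hCe]; exact Dvd.intro_left _ rfl
    exact hcop.dvd_of_dvd_mul_left h1
  have hE := hcheck d (Nat.lt_succ_of_le (Nat.le_of_dvd hmpos hdm)) hdm hmod hn1 h2n
  rw [hmd] at hE
  obtain ⟨r, hr, hrc, hf⟩ := hE e helt he he1 hek
  have hrp : r.Prime := by
    simp only [List.mem_cons, List.not_mem_nil, or_false] at hr
    rcases hr with rfl | rfl | rfl | rfl | rfl | rfl <;> norm_num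
  haveI := Fact.mk hrp
  have hepos : 0 < e := Nat.pos_of_dvd_of_pos he hp1
  have hCcard : Nat.card (Subgroup.centralizer ((P : Subgroup G) : Set G)) = p * (k / e) := by
    obtain ⟨c, rfl⟩ := hek
    rw [Nat.mul_div_cancel_left c hepos]
    have h1 : Nat.card (Subgroup.centralizer ((P : Subgroup G) : Set G)) * e = (p * c) * e := by
      rw [hCe, hstab]; ring
    exact Nat.eq_of_mul_eq_mul_right hepos h1
  have hrC : r ∣ Nat.card (Subgroup.centralizer ((P : Subgroup G) : Set G)) := by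
    rw [hCcard]; exact Dvd.dvd.mul_left hrc p
  obtain ⟨x, hxC, hxo⟩ := Cfsg.Agent.Lib.helper75.exists_mem_orderOf_prime _ r hrC
  have hn1' : Nat.card (Sylow p G) ≠ 1 := by rw [← hd]; exact hn1
  by_cases hr2 : r = 2
  · subst hr2
    obtain ⟨h1, h4, hlt⟩ :=
      Cfsg.Agent.Lib.helper75.sylow_involution_counts P hn1' h3 x hxo hxC
    rw [← hd] at h4 hlt
    obtain ⟨-, hne⟩ := hf _ hlt h1 (by omega)
    exact hne h4
  · obtain ⟨h1, hr', hlt⟩ := Cfsg.Agent.Lib.helper75.sylow_prime_counts P hn1' x r hxo hxC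
    rw [← hd] at hr' hlt
    exact hr2 (hf _ hlt h1 hr').1

/-- Brauer–Tuan: a group of order `p ^ a q ^ b r`, with the tests for a dihedral normalizer. -/
theorem ns_BT (n p q r a b k : ℕ) (hp : p.Prime) (hq : q.Prime) (hr : r.Prime) (hpq : p ≠ q)
    (hpr : p ≠ r) (hqr : q ≠ r) (hn : n = p ^ a * q ^ b * r) (hm : 1 < p ^ a * q ^ b)
    (hk : 2 ^ k ∣ n) (hcheck : SvBT n r (p ^ a * q ^ b) (2 ^ k)) : NS.{u} n := by
  intro G _ _ _ hna hc
  haveI := Fact.mk hr
  obtain ⟨P⟩ : Nonempty (Sylow r G) := inferInstance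
  obtain ⟨m, hmdef⟩ : ∃ m, m = p ^ a * q ^ b := ⟨_, rfl⟩
  rw [← hmdef] at hn hm hcheck
  have hrm : ¬ r ∣ m := by
    rw [hmdef]
    intro h
    rcases (Nat.Prime.dvd_mul hr).mp h with h | h
    · exact hpr ((Nat.prime_dvd_prime_iff_eq hr hp).mp (hr.dvd_of_dvd_pow h)).symm
    · exact hqr ((Nat.prime_dvd_prime_iff_eq hr hq).mp (hr.dvd_of_dvd_pow h)).symm
  have hcard : Nat.card G = r * m := by rw [hc, hn, mul_comm]
  obtain ⟨hPcard, hn1, hmod, ⟨k', hstab, hdk⟩, ⟨e, he, he1, hCe⟩⟩ :=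
    Cfsg.Agent.Lib.helper75.sylow_setup m hcard hrm hm P
  obtain ⟨-, -, hPbot, hPtop, -⟩ :=
    simple_sylow_basic 1 m le_rfl (by rw [hcard, pow_one]) hrm (by omega) P
  have hCP : Subgroup.centralizer ((P : Subgroup G) : Set G) = (P : Subgroup G) :=
    Cfsg.Agent.S0904.result p q r a b hp hq hpq hpr hqr (by rw [hc, hn, hmdef]) P
  have hCcard : Nat.card (Subgroup.centralizer ((P : Subgroup G) : Set G)) = r := by
    rw [hCP]; exact hPcard
  rw [hCcard] at hCe
  have hek : e = k' := by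
    rw [hstab] at hCe
    exact Nat.eq_of_mul_eq_mul_left hr.pos hCe
  subst hek
  have h2n : 2 * n ∣ (Nat.card (Sylow r G)).factorial := by
    rw [← hc]
    exact two_mul_card_dvd_factorial_card_sylow_of_simple hna P hPbot hPtop
  have hr1 : 0 < r - 1 := by have := hr.two_le; omega
  have helt : e < r := by have := Nat.le_of_dvd hr1 he; omega
  have hepos : 0 < e := Nat.pos_of_dvd_of_pos he hr1
  have hem : e ∣ m := ⟨Nat.card (Sylow r G), by rw [← hdk, mul_comm]⟩
  have hme : m / e = Nat.card (Sylow r G) :=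
    Nat.div_eq_of_eq_mul_right hepos (by rw [← hdk, mul_comm])
  obtain ⟨he2, hor⟩ := hcheck e helt he he1 hem (by rw [hme]; exact hmod) (by rw [hme]; exact h2n)
  subst he2
  have hr2 : r ≠ 2 := by omega
  have hN : Nat.card (Subgroup.normalizer ((P : Subgroup G) : Set G)) = r * 2 := by
    rw [Sylow.stabilizer_eq_normalizer] at hstab; exact hstab
  rcases hor with h | ⟨s, -, hs⟩
  · have h1 := dihinv_two_part hr hr2 (P : Subgroup G) hPcard hCP.le hN k (by rw [hc]; exact hk)
    rw [hc] at h1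
    omega
  · have := Fintype.ofFinite G
    exact Cfsg.Agent.Lib.helper32.dih_prime_not_sq hr hr2 (P : Subgroup G) hPcard hCP.le hN s
      (by rw [hcard, ← hs, pow_two])

/-- Exceptional characters for a self-centralizing Sylow subgroup of prime order `p > 7` whose
normalizer has order `2 p`. -/
theorem ns_Exc2 (n p m : ℕ) (hp : p.Prime) (h7 : 7 < p) (hn : n = p * m) (hpm : ¬ p ∣ m)
    (hm : m ≠ 1) (hcheck : SvExc2 n p m) : NS.{u} n := by
  intro G _ _ _ hna hc
  have hmpos : 0 < m := by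
    rcases Nat.eq_zero_or_pos m with h | h
    · exfalso
      have : 0 < Nat.card G := Nat.card_pos
      rw [hc, hn, h, mul_zero] at this
      exact lt_irrefl _ this
    · exact h
  obtain ⟨δ, ε, f₁, f₀, hδ, hε, hf₁, hf₁d, hf₀, hf₀d, hcong, hdeg, hsq⟩ :=
    simple_exceptional_two p m hp (hc.trans hn) hpm hm
      (fun d hdm hmod hd1 =>
        hcheck.1 d (Nat.lt_succ_of_le (Nat.le_of_dvd hmpos hdm)) hdm hmod hd1) h7
  rw [← hn] at hf₁d hf₀d hsq
  have hnpos : 0 < n := by rw [hn]; exact Nat.mul_pos hp.pos hmpos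
  have hf₁n : f₁ < n + 1 := Nat.lt_succ_of_le (Nat.le_of_dvd hnpos hf₁d)
  obtain ⟨hA, hB⟩ := hcheck.2 f₁ hf₁n hf₁ hf₁d
  rcases hδ with rfl | rfl
  · -- `f₁ ≡ 1`, `f₀ = f₁ + 1`
    have hε1 : ε = 1 := by
      rcases hε with h | h
      · exact h
      · rw [h] at hdeg; exfalso; have : (0 : ℤ) < f₀ := by exact_mod_cast (by omega : 0 < f₀)
        have : (0 : ℤ) < f₁ := by exact_mod_cast (by omega : 0 < f₁)
        linarith
    subst hε1
    have hf₀eq : f₀ = f₁ + 1 := by
      have : (f₀ : ℤ) = (f₁ : ℤ) + 1 := by linarith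
      exact_mod_cast this
    have hmodp : f₁ % p = 1 := by
      have h1 : (p : ℤ) ∣ ((f₁ - 1 : ℕ) : ℤ) := by
        rw [Nat.cast_sub hf₁.le]; simpa using hcong
      have h2 : p ∣ f₁ - 1 := by exact_mod_cast h1
      obtain ⟨c, hc'⟩ := h2
      have h3 : f₁ = 1 + p * c := by omega
      rw [h3, Nat.add_mul_mod_self_left]
      exact Nat.mod_eq_of_lt hp.one_lt
    apply hA hmodp
    rw [hf₀eq] at hf₀d hsq
    exact ⟨hf₀d, hsq⟩
  · -- `f₁ ≡ -1`, `f₀ = f₁ - 1`
    have hε1 : ε = -1 := by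
      rcases hε with h | h
      · rw [h] at hdeg; exfalso; have : (0 : ℤ) < f₀ := by exact_mod_cast (by omega : 0 < f₀)
        have : (1 : ℤ) < f₁ := by exact_mod_cast hf₁
        linarith
      · exact h
    subst hε1
    have hf₀eq : f₀ = f₁ - 1 := by
      have : (f₀ : ℤ) = (f₁ : ℤ) - 1 := by linarith
      omega
    have hmodp : f₁ % p = p - 1 := by
      have h1 : (p : ℤ) ∣ ((f₁ + 1 : ℕ) : ℤ) := by
        push_cast; simpa using hcong
      have h2 : p ∣ f₁ + 1 := by exact_mod_cast h1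
      obtain ⟨c, hc'⟩ := h2
      have hcpos : 0 < c := by
        rcases Nat.eq_zero_or_pos c with h | h
        · rw [h] at hc'; omega
        · exact h
      obtain ⟨c', rfl⟩ : ∃ c', c = c' + 1 := ⟨c - 1, by omega⟩
      have h3 : f₁ = (p - 1) + p * c' := by
        have := hp.one_le
        have h4 : p * (c' + 1) = p * c' + p := by ring
        omega
      rw [h3, Nat.add_mul_mod_self_left]
      exact Nat.mod_eq_of_lt (by have := hp.one_le; omega)
    apply hB hmodp
    rw [hf₀eq] at hf₀d hsq hf₀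
    exact ⟨hf₀d, hf₀, hsq⟩

end Cfsg.Agent.Lib.helper21
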