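import Mathlib
import Cfsg.Agent.Lib.helper75.SimpleOrdA
import Cfsg.Agent.Lib.helper69.TwoSylowTrick
import Cfsg.Agent.Lib.helper4.Burnside2

set_option autoImplicit false

/-!
# Centralizers of elements of prime order centralizing a Sylow subgroup of prime order (helper21)

* `sylow_prime_centralizer_card`: `P` a Sylow `p`-subgroup of order `p`, `x ∈ C(P)` of prime
  order `r ∤ p - 1`.  Then `x` centralizes every Sylow `p`-subgroup it normalizes, `C(x)` is
  transitive on the fixed points of `x`, and `|C(x)| = f s` with `f` the number of fixed points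
  and `p ∣ s`, `r ∣ s`, `s ∣ |N(P)|`.
* `no_prime_pow_class`: in a simple group of composite order, no centralizer of a nonidentity
  element has prime power index (Burnside).
-/

namespace Cfsg.Agent.Lib.helper21

open MulAction
open scoped Pointwise

section SimpleOrdB

variable {S : Type*} [Group S] [Finite S] {p : ℕ} [Fact p.Prime]

/-- An element of prime order `r ∤ p - 1` centralizing a Sylow `p`-subgroup of order `p`. -/
theorem sylow_prime_centralizer_card (P : Sylow p S) (hP : Nat.card P = p) (x : S) (r : ℕ)
    (hr : r.Prime) (hx : orderOf x = r) (hrp : ¬ r ∣ p - 1)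
    (hxC : x ∈ Subgroup.centralizer ((P : Subgroup S) : Set S)) :
    ∃ s : ℕ, Nat.card (Subgroup.centralizer ({x} : Set S)) =
        Nat.card {ω : Sylow p S // x • ω = ω} * s ∧ p ∣ s ∧ r ∣ s ∧
        s ∣ Nat.card (stabilizer S P) := by
  have hR : ∀ R : Sylow p S, Nat.card R = p := fun R => by
    rw [R.card_eq_multiplicity, ← P.card_eq_multiplicity]
    exact hP
  have hxP : x • P = P :=
    Sylow.smul_eq_iff_mem_normalizer.mpr (Subgroup.centralizer_le_normalizer _ hxC)
  have hcent : ∀ R : Sylow p S, x • R = R → ∀ z ∈ (R : Subgroup S), z * x = x * z := by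
    intro R hRfix z hz
    have hxN : x ∈ Subgroup.normalizer ((R : Subgroup S) : Set S) :=
      Sylow.smul_eq_iff_mem_normalizer.mp hRfix
    have hT : Subgroup.zpowers x ≤ Subgroup.normalizer ((R : Subgroup S) : Set S) :=
      (Subgroup.zpowers_le).mpr hxN
    have h1 := Cfsg.Agent.Lib.helper69.relIndex_centralizer_dvd_pred_of_le R (hR R)
      (Subgroup.zpowers x) hT
    have h2 : (Subgroup.centralizer ((R : Subgroup S) : Set S)).relIndex (Subgroup.zpowers x) ∣
        r := by
      have h := Subgroup.relIndex_dvd_card (Subgroup.centralizer ((R : Subgroup S) : Set S))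
        (Subgroup.zpowers x)
      rwa [Nat.card_zpowers, hx] at h
    have h3 : (Subgroup.centralizer ((R : Subgroup S) : Set S)).relIndex (Subgroup.zpowers x) =
        1 := by
      rcases (Nat.dvd_prime hr).mp h2 with h | h
      · exact h
      · rw [h] at h1
        exact absurd h1 hrp
    have h4 : Subgroup.zpowers x ≤ Subgroup.centralizer ((R : Subgroup S) : Set S) :=
      Subgroup.relIndex_eq_one.mp h3
    have h5 := h4 (Subgroup.mem_zpowers x)
    exact Subgroup.mem_centralizer_iff.mp h5 z hz
  have horb := Cfsg.Agent.Lib.helper75.fixed_eq_orbit_centralizer x P hxP hcent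
  have hncard : (orbit (Subgroup.centralizer ({x} : Set S)) P).ncard =
      Nat.card {ω : Sylow p S // x • ω = ω} := by
    rw [horb]
    exact (Nat.card_coe_set_eq _).symm
  have h1 := Subgroup.card_mul_index (stabilizer (Subgroup.centralizer ({x} : Set S)) P)
  rw [MulAction.index_stabilizer, hncard] at h1
  have hst : stabilizer (Subgroup.centralizer ({x} : Set S)) P =
      ((Subgroup.centralizer ({x} : Set S)) ⊓ stabilizer S P).subgroupOf
        (Subgroup.centralizer ({x} : Set S)) := by
    ext y
    rw [MulAction.mem_stabilizer_iff, Subgroup.mem_subgroupOf, Subgroup.mem_inf,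
      MulAction.mem_stabilizer_iff]
    constructor
    · intro h
      exact ⟨y.2, h⟩
    · intro h
      exact h.2
  have hcard : Nat.card (stabilizer (Subgroup.centralizer ({x} : Set S)) P) =
      Nat.card ((Subgroup.centralizer ({x} : Set S)) ⊓ stabilizer S P : Subgroup S) := by
    rw [hst]
    exact Nat.card_congr (Subgroup.subgroupOfEquivOfLe inf_le_left).toEquiv
  refine ⟨Nat.card (stabilizer (Subgroup.centralizer ({x} : Set S)) P), by rw [← h1, mul_comm],
    ?_, ?_, ?_⟩
  · have hle : (P : Subgroup S) ≤ (Subgroup.centralizer ({x} : Set S)) ⊓ stabilizer S P := by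
      intro y hy
      refine ⟨?_, Cfsg.Agent.Lib.helper75.sylow_le_stabilizer' P hy⟩
      show y ∈ Subgroup.centralizer ({x} : Set S)
      rw [Subgroup.mem_centralizer_iff]
      rintro _ rfl
      exact (Subgroup.mem_centralizer_iff.mp hxC y hy).symm
    have h2 := Subgroup.card_dvd_of_le hle
    rw [hP] at h2
    rw [hcard]
    exact h2
  · rw [hcard]
    have hle : Subgroup.zpowers x ≤ (Subgroup.centralizer ({x} : Set S)) ⊓ stabilizer S P := by
      rw [Subgroup.zpowers_le]
      refine ⟨?_, ?_⟩
      · show x ∈ Subgroup.centralizer ({x} : Set S)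
        rw [Subgroup.mem_centralizer_iff]
        rintro _ rfl
        rfl
      · show x ∈ stabilizer S P
        rw [MulAction.mem_stabilizer_iff]
        exact hxP
    have h2 := Subgroup.card_dvd_of_le hle
    rwa [Nat.card_zpowers, hx] at h2
  · rw [hcard]
    exact Subgroup.card_dvd_of_le inf_le_right

omit [Fact p.Prime] in
/-- **Burnside.**  In a finite simple group whose order is not a prime, no nonidentity element
has a centralizer of prime power index. -/
theorem no_prime_pow_class [IsSimpleGroup S] (hS : ¬ (Nat.card S).Prime) (q k : ℕ)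
    (hq : q.Prime) (g : S) (hg : g ≠ 1)
    (hclass : (Subgroup.centralizer ({g} : Set S)).index = q ^ k) : False :=
  hS (Cfsg.Agent.Lib.helper4.prime_card_of_simple_of_class_prime_pow q k hq g hg hclass)

end SimpleOrdB

end Cfsg.Agent.Lib.helper21
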