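import Mathlib
import Cfsg.Agent.Lib.helper21.Sieve
import Cfsg.Agent.Lib.helper21.FrobFull

set_option autoImplicit false

/-!
# No simple group of order 720 (helper21)

A Sylow `5`-subgroup `P` is self-centralizing (Brauer–Tuan) with normalizer of order `20`.  The
generalized character `(1_P - λ)^G` gives four non-principal characters of degrees
`≡ ±1 (mod 5)`; the class equation for the involutions of `N(P)` together with the second
orthogonality relation yields a contradiction in all cases (finite check `sv720_all`).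
-/

namespace Cfsg.Agent.Lib.helper21

open Cfsg Cfsg.Agent.Lib.helper4
open scoped ComplexConjugate

universe u

def sv720pp (f u : ℕ) : ℕ := if f = 6 ∨ f = 16 then (144 / f) * (u * u) else 0
def sv720nn (f u : ℕ) : ℕ := if f = 6 ∨ f = 16 then 0 else (144 / f) * (u * u)
def sv720dp (f : ℕ) : ℕ := if f = 6 ∨ f = 16 then f else 0
def sv720dn (f : ℕ) : ℕ := if f = 6 ∨ f = 16 then 0 else f

def Sv720Inner (N Pp L : ℕ) : Prop :=
  L * L + N ≤ 144 + Pp → ∀ c < 29, ¬ (c * c + N = 144 + Pp ∧ L ≤ c)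
instance (N Pp L : ℕ) : Decidable (Sv720Inner N Pp L) := by unfold Sv720Inner; infer_instance

def Sv720C (f1 f2 f3 f4 u1 u2 u3 u4 : ℕ) : Prop :=
  Sv720Inner (sv720nn f1 u1 + sv720nn f2 u2 + sv720nn f3 u3 + sv720nn f4 u4)
    (sv720pp f1 u1 + sv720pp f2 u2 + sv720pp f3 u3 + sv720pp f4 u4)
    (1 + u1 * u1 + u2 * u2 + u3 * u3 + u4 * u4)
instance (f1 f2 f3 f4 u1 u2 u3 u4 : ℕ) : Decidable (Sv720C f1 f2 f3 f4 u1 u2 u3 u4) := by
  unfold Sv720C; infer_instance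

def Sv720U4 (f1 f2 f3 f4 u1 u2 u3 : ℕ) : Prop :=
  ∀ u4 < 6, u4 % 2 = f4 % 2 → Sv720C f1 f2 f3 f4 u1 u2 u3 u4
instance (f1 f2 f3 f4 u1 u2 u3 : ℕ) : Decidable (Sv720U4 f1 f2 f3 f4 u1 u2 u3) := by
  unfold Sv720U4; infer_instance
def Sv720U3 (f1 f2 f3 f4 u1 u2 : ℕ) : Prop :=
  ∀ u3 < 6, u3 % 2 = f3 % 2 → Sv720U4 f1 f2 f3 f4 u1 u2 u3
instance (f1 f2 f3 f4 u1 u2 : ℕ) : Decidable (Sv720U3 f1 f2 f3 f4 u1 u2) := by
  unfold Sv720U3; infer_instance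
def Sv720U2 (f1 f2 f3 f4 u1 : ℕ) : Prop :=
  ∀ u2 < 6, u2 % 2 = f2 % 2 → Sv720U3 f1 f2 f3 f4 u1 u2
instance (f1 f2 f3 f4 u1 : ℕ) : Decidable (Sv720U2 f1 f2 f3 f4 u1) := by
  unfold Sv720U2; infer_instance
def Sv720U1 (f1 f2 f3 f4 : ℕ) : Prop :=
  ∀ u1 < 6, u1 % 2 = f1 % 2 → Sv720U2 f1 f2 f3 f4 u1
instance (f1 f2 f3 f4 : ℕ) : Decidable (Sv720U1 f1 f2 f3 f4) := by
  unfold Sv720U1; infer_instance
def Sv720F (f1 f2 f3 f4 : ℕ) : Prop :=
  1 + sv720dp f1 + sv720dp f2 + sv720dp f3 + sv720dp f4 =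
      sv720dn f1 + sv720dn f2 + sv720dn f3 + sv720dn f4 →
    1 + f1 * f1 + f2 * f2 + f3 * f3 + f4 * f4 ≤ 720 → Sv720U1 f1 f2 f3 f4
instance (f1 f2 f3 f4 : ℕ) : Decidable (Sv720F f1 f2 f3 f4) := by
  unfold Sv720F; infer_instance
def Sv720F3 (f1 f2 f3 : ℕ) : Prop := ∀ f4 ∈ [4, 6, 9, 16, 24], Sv720F f1 f2 f3 f4
instance (f1 f2 f3 : ℕ) : Decidable (Sv720F3 f1 f2 f3) := by unfold Sv720F3; infer_instance
def Sv720F2 (f1 f2 : ℕ) : Prop := ∀ f3 ∈ [4, 6, 9, 16, 24], Sv720F3 f1 f2 f3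
instance (f1 f2 : ℕ) : Decidable (Sv720F2 f1 f2) := by unfold Sv720F2; infer_instance
def Sv720F1 (f1 : ℕ) : Prop := ∀ f2 ∈ [4, 6, 9, 16, 24], Sv720F2 f1 f2
instance (f1 : ℕ) : Decidable (Sv720F1 f1) := by unfold Sv720F1; infer_instance
def Sv720All : Prop := ∀ f1 ∈ [4, 6, 9, 16, 24], Sv720F1 f1
instance : Decidable Sv720All := by unfold Sv720All; infer_instance

theorem sv720_all : Sv720All := by decide +kernel

theorem sv720pp_le (f u : ℕ) : sv720pp f u ≤ 24 * (u * u) := by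
  unfold sv720pp
  split_ifs with h
  · rcases h with rfl | rfl
    · norm_num
    · norm_num
      omega
  · omega

theorem sv720_deg (f : ℕ) (b : ℤ) (hb : b = 1 ∨ b = -1) (hf1 : 1 < f) (hfd : f ∣ 720)
    (hle : f * f ≤ 719) (hc : (5 : ℤ) ∣ (f : ℤ) - b) :
    f ∈ [4, 6, 9, 16, 24] ∧ b = (if f = 6 ∨ f = 16 then 1 else -1) := by
  have h26 : f ≤ 26 := by nlinarith
  interval_cases f <;> rcases hb with rfl | rfl <;>
    first
    | omega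
    | (refine ⟨by decide, by decide⟩)

theorem sv720_degmul (f : ℕ) (b : ℤ) (hf : f ∈ [4, 6, 9, 16, 24])
    (hb : b = (if f = 6 ∨ f = 16 then 1 else -1)) :
    b * (f : ℤ) = (sv720dp f : ℤ) - (sv720dn f : ℤ) := by
  simp only [List.mem_cons, List.not_mem_nil, or_false] at hf
  rcases hf with rfl | rfl | rfl | rfl | rfl <;> simp [sv720dp, sv720dn] at hb ⊢ <;> rw [hb] <;>
    norm_num

theorem sv720_term (f u : ℕ) (b s : ℤ) (I x1 xJ : ℂ) (hf : f ∈ [4, 6, 9, 16, 24])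
    (hb : b = (if f = 6 ∨ f = 16 then 1 else -1)) (hs : s ^ 2 = (u : ℤ) ^ 2) (hx1 : x1 = f)
    (hxJ : xJ = s) :
    (b : ℂ) * (x1 * (I * xJ / x1) ^ 2) =
      I ^ 2 * (((sv720pp f u : ℕ) : ℂ) - ((sv720nn f u : ℕ) : ℂ)) / 144 := by
  have hsC : (s : ℂ) ^ 2 = (u : ℂ) ^ 2 := by exact_mod_cast hs
  subst hx1 hxJ
  have h1 : (I * (s : ℂ) / (f : ℂ)) ^ 2 = I ^ 2 * (u : ℂ) ^ 2 / (f : ℂ) ^ 2 := by
    rw [div_pow, mul_pow, hsC]
  rw [h1]
  simp only [List.mem_cons, List.not_mem_nil, or_false] at hf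
  rcases hf with rfl | rfl | rfl | rfl | rfl <;> simp [sv720pp, sv720nn] at hb ⊢ <;>
    rw [hb] <;> push_cast <;> ring

/-- There is no simple group of order `720`. -/
theorem ns_720 : NS.{u} 720 := by
  intro G _ _ _ hna hc
  classical
  have := Fintype.ofFinite G
  have := Fintype.ofFinite (IrrCharacter G)
  have h5 : Nat.Prime 5 := by norm_num
  haveI : Fact (Nat.Prime 5) := ⟨h5⟩
  haveI : Fact (Nat.Prime 2) := ⟨Nat.prime_two⟩
  obtain ⟨P⟩ : Nonempty (Sylow 5 G) := inferInstance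
  obtain ⟨hPcard, hn1, hmod, ⟨k, hstab, hdk⟩, ⟨e, he, he1, hCe⟩⟩ :=
    Cfsg.Agent.Lib.helper75.sylow_setup 144 (by rw [hc]) (by norm_num) (by norm_num) P
  have hCP : Subgroup.centralizer ((P : Subgroup G) : Set G) = (P : Subgroup G) :=
    Cfsg.Agent.S0904.result 2 3 5 4 2 (by norm_num) (by norm_num) (by norm_num) (by norm_num)
      (by norm_num) (by rw [hc]; norm_num) P
  have hCcard : Nat.card (Subgroup.centralizer ((P : Subgroup G) : Set G)) = 5 := by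
    rw [hCP]; exact hPcard
  rw [hCcard] at hCe
  have hek : k = e := by omega
  rw [hek] at hstab hdk
  have he4 : e = 4 := by
    have hle : e ≤ 4 := Nat.le_of_dvd (by norm_num) he
    interval_cases e <;> omega
  rw [he4] at hstab
  have hN : Nat.card (Subgroup.normalizer ((P : Subgroup G) : Set G)) = 5 * 4 := by
    rw [Sylow.stabilizer_eq_normalizer] at hstab; exact hstab
  obtain ⟨b, hb1, hbsq, hbdeg, hbcong, hbcls⟩ :=
    frob_theta h5 (P : Subgroup G) hPcard hCP.le hN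
  have hbcong' := hbcong (by norm_num)
  obtain ⟨J, hJN, hJo⟩ := Cfsg.Agent.Lib.helper75.exists_mem_orderOf_prime
    (Subgroup.normalizer ((P : Subgroup G) : Set G)) 2 (by rw [hN]; norm_num)
  have hJJ : J * J = 1 := by rw [← pow_two, ← hJo]; exact pow_orderOf_eq_one J
  have hcls := hbcls J 5 (fun y hy hy1 => by
    have := frob_classProd h5 (by norm_num) (P : Subgroup G) hPcard hCP.le J hJN hJo y hy hy1
    exact_mod_cast this)
  rw [hc] at hcls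
  obtain ⟨oneG, honeG⟩ : ∃ oneG : IrrCharacter G, oneG = ⟨fun _ => 1, isIrrCharacter_one⟩ :=
    ⟨_, rfl⟩
  rw [← honeG] at hb1
  have honeGval : (oneG : G → ℂ) = fun _ => 1 := by rw [honeG]
  have hnp : ¬ (Nat.card G).Prime := by rw [hc]; norm_num
  have hdegone : charDegree (oneG : G → ℂ) = 1 := by
    have h := Cfsg.Agent.Lib.helper82.irr_one_eq oneG
    rw [honeGval] at h
    have h' : ((1 : ℕ) : ℂ) = (charDegree (fun _ : G => (1 : ℂ)) : ℂ) := by simpa using h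
    rw [honeGval]
    exact (Nat.cast_injective h').symm
  have hgt : ∀ ψ : IrrCharacter G, ψ ≠ oneG → 1 < charDegree (ψ : G → ℂ) := by
    intro ψ hψ
    apply one_lt_charDegree_of_simple hnp
    intro h
    exact hψ (Subtype.ext (by rw [h, honeGval]))
  have hdvd : ∀ ψ : IrrCharacter G, charDegree (ψ : G → ℂ) ∣ 720 := fun ψ => by
    rw [← hc]; exact Cfsg.Agent.Lib.helper82.irr_degree_dvd_card ψ
  have hsqsum : ∑ ψ : IrrCharacter G, charDegree (ψ : G → ℂ) * charDegree (ψ : G → ℂ) = 720 := by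
    have h := sum_irr_degree_sq (G := G)
    rw [hc] at h
    have h' : ((∑ ψ : IrrCharacter G, charDegree (ψ : G → ℂ) * charDegree (ψ : G → ℂ) : ℕ) : ℂ) =
        ((720 : ℕ) : ℂ) := by
      rw [← h]
      push_cast
      exact Finset.sum_congr rfl (fun ψ _ => by
        rw [Cfsg.Agent.Lib.helper82.irr_one_eq ψ]; ring)
    exact Nat.cast_injective h'
  obtain ⟨T, hT⟩ : ∃ T : Finset (IrrCharacter G), T = Finset.univ.erase oneG := ⟨_, rfl⟩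
  have hT4 : ∑ ψ ∈ T, b ψ ^ 2 = 4 := by
    rw [← Finset.add_sum_erase Finset.univ _ (Finset.mem_univ oneG), hb1, ← hT] at hbsq
    push_cast at hbsq
    linarith
  have hne : ∀ ψ ∈ T, ψ ≠ oneG := fun ψ hψ => by
    rw [hT] at hψ; exact Finset.ne_of_mem_erase hψ
  choose sv hsv using fun ψ : IrrCharacter G => irr_involution_parity ψ J hJJ
  rcases exists_of_sum_sq_eq_four T b hT4 with ⟨x, hx, hx2, hrest⟩ |
    ⟨ψ₁, h₁, ψ₂, h₂, ψ₃, h₃, ψ₄, h₄, h12, h13, h14, h23, h24, h34, hb₁, hb₂, hb₃, hb₄, hrest⟩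
  · have hsum : ∑ ψ, b ψ * (charDegree (ψ : G → ℂ) : ℤ) =
        1 + b x * (charDegree (x : G → ℂ) : ℤ) := by
      rw [← Finset.add_sum_erase Finset.univ _ (Finset.mem_univ oneG), hb1, hdegone, ← hT,
        ← Finset.add_sum_erase T _ hx,
        Finset.sum_eq_zero (fun w hw => by
          rw [hrest w (Finset.mem_of_mem_erase hw) (Finset.ne_of_mem_erase hw), zero_mul])]
      push_cast
      ring
    rw [hsum] at hbdeg
    rcases hx2 with h | h <;> rw [h] at hbdeg <;> omega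
  · have hsub : ({ψ₁, ψ₂, ψ₃, ψ₄} : Finset (IrrCharacter G)) ⊆ T := by
      intro ψ hψ
      simp only [Finset.mem_insert, Finset.mem_singleton] at hψ
      rcases hψ with rfl | rfl | rfl | rfl <;> assumption
    have hsplit : ∀ (M : Type) [AddCommMonoid M] (F : IrrCharacter G → M),
        (∀ ψ, b ψ = 0 → F ψ = 0) →
        ∑ ψ, F ψ = F oneG + (F ψ₁ + (F ψ₂ + (F ψ₃ + F ψ₄))) := by
      intro M _ F hF
      rw [← Finset.add_sum_erase Finset.univ _ (Finset.mem_univ oneG), ← hT]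
      congr 1
      rw [← Finset.sum_subset hsub (fun ψ hψT hψ => by
        simp only [Finset.mem_insert, Finset.mem_singleton, not_or] at hψ
        exact hF ψ (hrest ψ hψT hψ.1 hψ.2.1 hψ.2.2.1 hψ.2.2.2))]
      rw [Finset.sum_insert (by simp [h12, h13, h14]), Finset.sum_insert (by simp [h23, h24]),
        Finset.sum_insert (by simp [h34]), Finset.sum_singleton]
    have hsub5 : ∀ F : IrrCharacter G → ℕ,
        F oneG + (F ψ₁ + (F ψ₂ + (F ψ₃ + F ψ₄))) ≤ ∑ ψ, F ψ := by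
      intro F
      rw [← Finset.add_sum_erase Finset.univ _ (Finset.mem_univ oneG), ← hT]
      apply Nat.add_le_add_left
      have h := Finset.sum_le_sum_of_subset (f := F) hsub
      rw [Finset.sum_insert (by simp [h12, h13, h14]), Finset.sum_insert (by simp [h23, h24]),
        Finset.sum_insert (by simp [h34]), Finset.sum_singleton] at h
      exact h
    obtain ⟨f₁, hf₁⟩ : ∃ f, f = charDegree (ψ₁ : G → ℂ) := ⟨_, rfl⟩
    obtain ⟨f₂, hf₂⟩ : ∃ f, f = charDegree (ψ₂ : G → ℂ) := ⟨_, rfl⟩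
    obtain ⟨f₃, hf₃⟩ : ∃ f, f = charDegree (ψ₃ : G → ℂ) := ⟨_, rfl⟩
    obtain ⟨f₄, hf₄⟩ : ∃ f, f = charDegree (ψ₄ : G → ℂ) := ⟨_, rfl⟩
    have hdegeq : 1 + (b ψ₁ * f₁ + (b ψ₂ * f₂ + (b ψ₃ * f₃ + b ψ₄ * f₄))) = 0 := by
      have h := hsplit ℤ (fun ψ => b ψ * (charDegree (ψ : G → ℂ) : ℤ))
        (fun ψ h0 => by rw [h0, zero_mul])
      rw [hbdeg, hb1, hdegone] at h
      rw [hf₁, hf₂, hf₃, hf₄]
      push_cast at h ⊢
      linarith
    have hsqle : 1 + f₁ * f₁ + f₂ * f₂ + f₃ * f₃ + f₄ * f₄ ≤ 720 := by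
      have h := hsub5 (fun ψ => charDegree (ψ : G → ℂ) * charDegree (ψ : G → ℂ))
      rw [hsqsum, hdegone] at h
      rw [hf₁, hf₂, hf₃, hf₄]
      omega
    have hD₁ := sv720_deg f₁ (b ψ₁) hb₁ (by rw [hf₁]; exact hgt ψ₁ (hne ψ₁ h₁))
      (by rw [hf₁]; exact hdvd ψ₁)
      (by nlinarith [Nat.zero_le (f₂ * f₂), Nat.zero_le (f₃ * f₃), Nat.zero_le (f₄ * f₄)])
      (by rw [hf₁]; exact hbcong' ψ₁)
    have hD₂ := sv720_deg f₂ (b ψ₂) hb₂ (by rw [hf₂]; exact hgt ψ₂ (hne ψ₂ h₂))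
      (by rw [hf₂]; exact hdvd ψ₂)
      (by nlinarith [Nat.zero_le (f₁ * f₁), Nat.zero_le (f₃ * f₃), Nat.zero_le (f₄ * f₄)])
      (by rw [hf₂]; exact hbcong' ψ₂)
    have hD₃ := sv720_deg f₃ (b ψ₃) hb₃ (by rw [hf₃]; exact hgt ψ₃ (hne ψ₃ h₃))
      (by rw [hf₃]; exact hdvd ψ₃)
      (by nlinarith [Nat.zero_le (f₁ * f₁), Nat.zero_le (f₂ * f₂), Nat.zero_le (f₄ * f₄)])
      (by rw [hf₃]; exact hbcong' ψ₃)
    have hD₄ := sv720_deg f₄ (b ψ₄) hb₄ (by rw [hf₄]; exact hgt ψ₄ (hne ψ₄ h₄))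
      (by rw [hf₄]; exact hdvd ψ₄)
      (by nlinarith [Nat.zero_le (f₁ * f₁), Nat.zero_le (f₂ * f₂), Nat.zero_le (f₃ * f₃)])
      (by rw [hf₄]; exact hbcong' ψ₄)
    have hdegnat : 1 + sv720dp f₁ + sv720dp f₂ + sv720dp f₃ + sv720dp f₄ =
        sv720dn f₁ + sv720dn f₂ + sv720dn f₃ + sv720dn f₄ := by
      have e₁ := sv720_degmul f₁ (b ψ₁) hD₁.1 hD₁.2
      have e₂ := sv720_degmul f₂ (b ψ₂) hD₂.1 hD₂.2
      have e₃ := sv720_degmul f₃ (b ψ₃) hD₃.1 hD₃.2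
      have e₄ := sv720_degmul f₄ (b ψ₄) hD₄.1 hD₄.2
      rw [e₁, e₂, e₃, e₄] at hdegeq
      omega
    -- values at the involution
    obtain ⟨u₁, hu₁⟩ : ∃ u, u = (sv ψ₁).natAbs := ⟨_, rfl⟩
    obtain ⟨u₂, hu₂⟩ : ∃ u, u = (sv ψ₂).natAbs := ⟨_, rfl⟩
    obtain ⟨u₃, hu₃⟩ : ∃ u, u = (sv ψ₃).natAbs := ⟨_, rfl⟩
    obtain ⟨u₄, hu₄⟩ : ∃ u, u = (sv ψ₄).natAbs := ⟨_, rfl⟩
    have hsq : ∀ ψ : IrrCharacter G, sv ψ ^ 2 = (((sv ψ).natAbs : ℕ) : ℤ) ^ 2 := fun ψ => by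
      rw [Int.natCast_natAbs, sq_abs]
    have hpar : ∀ ψ : IrrCharacter G,
        (sv ψ).natAbs % 2 = charDegree (ψ : G → ℂ) % 2 := by
      intro ψ
      obtain ⟨-, h2, -⟩ := hsv ψ
      rcases Int.natAbs_eq (sv ψ) with h | h <;> omega
    obtain ⟨I, hI⟩ : ∃ I : ℂ, I = ((Subgroup.centralizer ({J} : Set G)).index : ℂ) := ⟨_, rfl⟩
    obtain ⟨cJ, hcJ⟩ : ∃ cJ : ℕ, cJ = Nat.card (Subgroup.centralizer ({J} : Set G)) := ⟨_, rfl⟩
    have hcI : (cJ : ℂ) * I = 720 := by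
      rw [hcJ, hI]
      have := Subgroup.card_mul_index (Subgroup.centralizer ({J} : Set G))
      rw [hc] at this
      exact_mod_cast this
    have hI0 : I ≠ 0 := by
      intro h
      rw [h, mul_zero] at hcI
      norm_num at hcI
    have hdegc : ∀ ψ : IrrCharacter G, (ψ : G → ℂ) 1 = (charDegree (ψ : G → ℂ) : ℂ) :=
      fun ψ => Cfsg.Agent.Lib.helper82.irr_one_eq ψ
    have ht₁ : (b ψ₁ : ℂ) * ((ψ₁ : G → ℂ) 1 * (centralChar (ψ₁ : G → ℂ) J) ^ 2) =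
        I ^ 2 * (((sv720pp f₁ u₁ : ℕ) : ℂ) - ((sv720nn f₁ u₁ : ℕ) : ℂ)) / 144 := by
      rw [hI]
      exact sv720_term f₁ u₁ (b ψ₁) (sv ψ₁) _ _ _ hD₁.1 hD₁.2 (by rw [hu₁]; exact hsq ψ₁)
        (by rw [hf₁]; exact hdegc ψ₁) (hsv ψ₁).1
    have ht₂ : (b ψ₂ : ℂ) * ((ψ₂ : G → ℂ) 1 * (centralChar (ψ₂ : G → ℂ) J) ^ 2) =
        I ^ 2 * (((sv720pp f₂ u₂ : ℕ) : ℂ) - ((sv720nn f₂ u₂ : ℕ) : ℂ)) / 144 := by
      rw [hI]
      exact sv720_term f₂ u₂ (b ψ₂) (sv ψ₂) _ _ _ hD₂.1 hD₂.2 (by rw [hu₂]; exact hsq ψ₂)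
        (by rw [hf₂]; exact hdegc ψ₂) (hsv ψ₂).1
    have ht₃ : (b ψ₃ : ℂ) * ((ψ₃ : G → ℂ) 1 * (centralChar (ψ₃ : G → ℂ) J) ^ 2) =
        I ^ 2 * (((sv720pp f₃ u₃ : ℕ) : ℂ) - ((sv720nn f₃ u₃ : ℕ) : ℂ)) / 144 := by
      rw [hI]
      exact sv720_term f₃ u₃ (b ψ₃) (sv ψ₃) _ _ _ hD₃.1 hD₃.2 (by rw [hu₃]; exact hsq ψ₃)
        (by rw [hf₃]; exact hdegc ψ₃) (hsv ψ₃).1
    have ht₄ : (b ψ₄ : ℂ) * ((ψ₄ : G → ℂ) 1 * (centralChar (ψ₄ : G → ℂ) J) ^ 2) =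
        I ^ 2 * (((sv720pp f₄ u₄ : ℕ) : ℂ) - ((sv720nn f₄ u₄ : ℕ) : ℂ)) / 144 := by
      rw [hI]
      exact sv720_term f₄ u₄ (b ψ₄) (sv ψ₄) _ _ _ hD₄.1 hD₄.2 (by rw [hu₄]; exact hsq ψ₄)
        (by rw [hf₄]; exact hdegc ψ₄) (hsv ψ₄).1
    have ht₀ : (b oneG : ℂ) * ((oneG : G → ℂ) 1 * (centralChar (oneG : G → ℂ) J) ^ 2) =
        I ^ 2 := by
      rw [hb1, hI]
      unfold centralChar
      rw [honeGval]
      simp
    have hclsplit := hsplit ℂ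
      (fun ψ => (b ψ : ℂ) * ((ψ : G → ℂ) 1 * (centralChar (ψ : G → ℂ) J) ^ 2))
      (fun ψ h0 => by rw [h0]; simp)
    try simp only [] at hclsplit
    rw [← hcls, ht₀, ht₁, ht₂, ht₃, ht₄] at hclsplit
    have hmain : ((cJ * cJ + (sv720nn f₁ u₁ + sv720nn f₂ u₂ + sv720nn f₃ u₃ + sv720nn f₄ u₄) : ℕ)
        : ℂ) = ((144 + (sv720pp f₁ u₁ + sv720pp f₂ u₂ + sv720pp f₃ u₃ + sv720pp f₄ u₄) : ℕ) : ℂ) := by
      have hz : I ^ 2 * (((cJ * cJ + (sv720nn f₁ u₁ + sv720nn f₂ u₂ + sv720nn f₃ u₃ +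
          sv720nn f₄ u₄) : ℕ) : ℂ) - ((144 + (sv720pp f₁ u₁ + sv720pp f₂ u₂ + sv720pp f₃ u₃ +
          sv720pp f₄ u₄) : ℕ) : ℂ)) = 0 := by
        push_cast
        linear_combination ((cJ : ℂ) * I + 720) * hcI + 144 * hclsplit
      rcases mul_eq_zero.mp hz with h | h
      · exact absurd (pow_eq_zero_iff (two_ne_zero) |>.mp h) hI0
      · exact sub_eq_zero.mp h
    have hmainN := Nat.cast_injective hmain
    -- second orthogonality
    have hcol := Cfsg.Agent.Lib.helper83.second_orthogonality_of_isConj (IsConj.refl J)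
    have hcolN : ∑ ψ : IrrCharacter G, (sv ψ).natAbs * (sv ψ).natAbs = cJ := by
      have h' : ((∑ ψ : IrrCharacter G, (sv ψ).natAbs * (sv ψ).natAbs : ℕ) : ℂ) = ((cJ : ℕ) : ℂ) := by
        rw [hcJ, ← hcol, Nat.cast_sum]
        apply Finset.sum_congr rfl
        intro ψ _
        rw [(hsv ψ).1, Nat.cast_mul]
        have h4 : (((sv ψ).natAbs : ℕ) : ℤ) * (((sv ψ).natAbs : ℕ) : ℤ) = sv ψ * sv ψ :=
          Int.natAbs_mul_self' _
        have h5 : ((((sv ψ).natAbs : ℕ) : ℤ) : ℂ) * ((((sv ψ).natAbs : ℕ) : ℤ) : ℂ) =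
            ((sv ψ : ℤ) : ℂ) * ((sv ψ : ℤ) : ℂ) := by
          rw [← Int.cast_mul, ← Int.cast_mul, h4]
        rw [Int.cast_natCast] at h5
        simp only [map_intCast]
        exact h5
      exact Nat.cast_injective h'
    have hsv1 : (sv oneG).natAbs = 1 := by
      have h := (hsv oneG).1
      rw [honeGval] at h
      have h' : ((1 : ℤ) : ℂ) = (sv oneG : ℂ) := by rw [← h]; norm_num
      rw [← Int.cast_injective h']
      rfl
    have hL : 1 + u₁ * u₁ + u₂ * u₂ + u₃ * u₃ + u₄ * u₄ ≤ cJ := by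
      have h := hsub5 (fun ψ => (sv ψ).natAbs * (sv ψ).natAbs)
      rw [hcolN, hsv1] at h
      rw [hu₁, hu₂, hu₃, hu₄]
      omega
    have hp₁ := sv720pp_le f₁ u₁
    have hp₂ := sv720pp_le f₂ u₂
    have hp₃ := sv720pp_le f₃ u₃
    have hp₄ := sv720pp_le f₄ u₄
    have hc29 : cJ < 29 := by
      by_contra hcon
      have h29 : 29 ≤ cJ := by omega
      have h1 : 29 * cJ ≤ cJ * cJ := Nat.mul_le_mul_right cJ h29
      omega
    have hu₁6 : u₁ < 6 := by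
      by_contra hcon
      have h6 : 6 ≤ u₁ := by omega
      have h1 : 6 * 6 ≤ u₁ * u₁ := Nat.mul_le_mul h6 h6
      omega
    have hu₂6 : u₂ < 6 := by
      by_contra hcon
      have h6 : 6 ≤ u₂ := by omega
      have h1 : 6 * 6 ≤ u₂ * u₂ := Nat.mul_le_mul h6 h6
      omega
    have hu₃6 : u₃ < 6 := by
      by_contra hcon
      have h6 : 6 ≤ u₃ := by omega
      have h1 : 6 * 6 ≤ u₃ * u₃ := Nat.mul_le_mul h6 h6
      omega
    have hu₄6 : u₄ < 6 := by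
      by_contra hcon
      have h6 : 6 ≤ u₄ := by omega
      have h1 : 6 * 6 ≤ u₄ * u₄ := Nat.mul_le_mul h6 h6
      omega
    have hchk := sv720_all f₁ hD₁.1 f₂ hD₂.1 f₃ hD₃.1 f₄ hD₄.1 hdegnat hsqle
      u₁ hu₁6 (by rw [hu₁, hf₁]; exact hpar ψ₁) u₂ hu₂6 (by rw [hu₂, hf₂]; exact hpar ψ₂)
      u₃ hu₃6 (by rw [hu₃, hf₃]; exact hpar ψ₃) u₄ hu₄6 (by rw [hu₄, hf₄]; exact hpar ψ₄)
    have hLL : (1 + u₁ * u₁ + u₂ * u₂ + u₃ * u₃ + u₄ * u₄) *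
        (1 + u₁ * u₁ + u₂ * u₂ + u₃ * u₃ + u₄ * u₄) ≤ cJ * cJ := Nat.mul_le_mul hL hL
    exact hchk (by omega) cJ hc29 ⟨by omega, hL⟩

end Cfsg.Agent.Lib.helper21
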