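import Mathlib
import Cfsg.Agent.Lib.helper21.Sieve
import Cfsg.Agent.Lib.helper21.ExcGen
import Cfsg.Agent.Lib.helper21.FrobFull

set_option autoImplicit false

/-!
# No simple group of order 756 (helper21)

A Sylow `7`-subgroup `P` is self-centralizing (Brauer–Tuan) with normalizer of order `21`.  The
theory of exceptional characters (`exceptional_general`, `e = 3`) gives a generalized character
whose non-exceptional constituents have degrees `6` or `27` with coefficient `-1`; the degree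
equation then forces the common degree of the exceptional characters to be `11`, `13`, `32` or
`53`, none of which divides `756`.
-/

namespace Cfsg.Agent.Lib.helper21

open Cfsg Cfsg.Agent.Lib.helper4
open scoped ComplexConjugate

universe u

/-- The arithmetic core for order `756`. -/
theorem sv756_arith (ε b₀ s R m D : ℤ) (f₀ : ℕ) (hε : ε = 1 ∨ ε = -1) (hs : 2 ≤ s)
    (hR : 0 ≤ R) (hm0 : 0 ≤ m) (hmR : m ≤ R) (hD : D = -6 * R - 21 * m)
    (h1 : 1 + s * b₀ ^ 2 + R = 3 + 2 * ε * b₀)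
    (h2 : 1 + s * (b₀ * (f₀ : ℤ)) + D = ε * f₀) :
    f₀ = 11 ∨ f₀ = 13 ∨ f₀ = 32 ∨ f₀ = 53 := by
  have hb : b₀ = 0 ∨ b₀ = ε := by
    have h3 : 2 * b₀ ^ 2 ≤ s * b₀ ^ 2 := by nlinarith [sq_nonneg b₀]
    rcases hε with rfl | rfl
    · have h4 : b₀ ^ 2 ≤ 1 + b₀ := by nlinarith
      have h5 : 0 ≤ b₀ := by nlinarith
      have h6 : b₀ ≤ 1 := by nlinarith
      omega
    · have h4 : b₀ ^ 2 ≤ 1 - b₀ := by nlinarith
      have h5 : b₀ ≤ 0 := by nlinarith
      have h6 : -1 ≤ b₀ := by nlinarith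
      omega
  rcases hb with rfl | rfl
  · rw [hD] at h2
    rcases hε with rfl | rfl <;> norm_num at h1 h2 <;> omega
  · rw [hD] at h2
    rcases hε with rfl | rfl
    · norm_num at h1 h2
      have hs3 : s = 2 ∨ s = 3 ∨ s = 4 := by omega
      rcases hs3 with rfl | rfl | rfl <;> omega
    · norm_num at h1 h2
      have hs3 : s = 2 ∨ s = 3 ∨ s = 4 := by omega
      rcases hs3 with rfl | rfl | rfl <;> omega

theorem ns_756 : NS.{u} 756 := by
  intro G _ _ _ hna hc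
  classical
  have := Fintype.ofFinite G
  have := Fintype.ofFinite (IrrCharacter G)
  have h7 : Nat.Prime 7 := by norm_num
  haveI : Fact (Nat.Prime 7) := ⟨h7⟩
  obtain ⟨P⟩ : Nonempty (Sylow 7 G) := inferInstance
  obtain ⟨hPcard, hn1, hmod, ⟨k, hstab, hdk⟩, ⟨e, he, he1, hCe⟩⟩ :=
    Cfsg.Agent.Lib.helper75.sylow_setup 108 (by rw [hc]) (by norm_num) (by norm_num) P
  have hCP : Subgroup.centralizer ((P : Subgroup G) : Set G) = (P : Subgroup G) :=
    Cfsg.Agent.S0904.result 2 3 7 2 3 (by norm_num) (by norm_num) (by norm_num) (by norm_num)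
      (by norm_num) (by rw [hc]; norm_num) P
  have hCcard : Nat.card (Subgroup.centralizer ((P : Subgroup G) : Set G)) = 7 := by
    rw [hCP]; exact hPcard
  rw [hCcard] at hCe
  have hek : k = e := by omega
  rw [hek] at hstab hdk
  have he3 : e = 3 := by
    have hle : e ≤ 6 := Nat.le_of_dvd (by norm_num) he
    interval_cases e <;> omega
  rw [he3] at hstab
  have hN : Nat.card (Subgroup.normalizer ((P : Subgroup G) : Set G)) = 7 * 3 := by
    rw [Sylow.stabilizer_eq_normalizer] at hstab; exact hstab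
  obtain ⟨ε, b, S, b₀, f₀, hε, hb1, h1S, hS2, -, hSb, hbsq, hbdeg, hbcong, -⟩ :=
    exceptional_general h7 (P : Subgroup G) hPcard hCP.le hN (by norm_num)
  obtain ⟨oneG, honeG⟩ : ∃ oneG : IrrCharacter G, oneG = ⟨fun _ => 1, isIrrCharacter_one⟩ :=
    ⟨_, rfl⟩
  rw [← honeG] at hb1 h1S
  have honeGval : (oneG : G → ℂ) = fun _ => 1 := by rw [honeG]
  have hnp : ¬ (Nat.card G).Prime := by rw [hc]; norm_num
  have hdegone : charDegree (oneG : G → ℂ) = 1 := by
    have h := Cfsg.Agent.Lib.helper82.irr_one_eq oneG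
    rw [honeGval] at h
    have h' : ((1 : ℕ) : ℂ) = (charDegree (fun _ : G => (1 : ℂ)) : ℂ) := by simpa using h
    rw [honeGval]
    exact (Nat.cast_injective h').symm
  have hgt : ∀ ψ : IrrCharacter G, ψ ≠ oneG → 1 < charDegree (ψ : G → ℂ) := by
    intro ψ hψ
    apply one_lt_charDegree_of_simple hnp
    intro h
    exact hψ (Subtype.ext (by rw [h, honeGval]))
  have hdvd : ∀ ψ : IrrCharacter G, charDegree (ψ : G → ℂ) ∣ 756 := fun ψ => by
    rw [← hc]; exact Cfsg.Agent.Lib.helper82.irr_degree_dvd_card ψ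
  have hsqsum : ∑ ψ : IrrCharacter G, charDegree (ψ : G → ℂ) * charDegree (ψ : G → ℂ) = 756 := by
    have h := sum_irr_degree_sq (G := G)
    rw [hc] at h
    have h' : ((∑ ψ : IrrCharacter G, charDegree (ψ : G → ℂ) * charDegree (ψ : G → ℂ) : ℕ) : ℂ) =
        ((756 : ℕ) : ℂ) := by
      rw [← h]
      push_cast
      exact Finset.sum_congr rfl (fun ψ _ => by
        rw [Cfsg.Agent.Lib.helper82.irr_one_eq ψ]; ring)
    exact Nat.cast_injective h'
  have hdeg28 : ∀ ψ : IrrCharacter G, charDegree (ψ : G → ℂ) < 28 := by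
    intro ψ
    have h := Finset.single_le_sum (f := fun ψ : IrrCharacter G =>
      charDegree (ψ : G → ℂ) * charDegree (ψ : G → ℂ)) (fun _ _ => Nat.zero_le _)
      (Finset.mem_univ ψ)
    rw [hsqsum] at h
    by_contra hcon
    have h28 : 28 ≤ charDegree (ψ : G → ℂ) := by omega
    have := Nat.mul_le_mul h28 h28
    try simp only [] at h
    omega
  -- the set of non-exceptional non-principal characters
  obtain ⟨U, hU⟩ : ∃ U : Finset (IrrCharacter G), U = Finset.univ.erase oneG := ⟨_, rfl⟩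
  have hSU : S ⊆ U := by
    intro ψ hψ
    rw [hU]
    exact Finset.mem_erase.mpr ⟨fun h => h1S (h ▸ hψ), Finset.mem_univ _⟩
  obtain ⟨T, hT⟩ : ∃ T : Finset (IrrCharacter G), T = U \ S := ⟨_, rfl⟩
  have hsplit : ∀ F : IrrCharacter G → ℤ,
      ∑ ψ, F ψ = F oneG + (∑ ψ ∈ S, F ψ + ∑ ψ ∈ T, F ψ) := by
    intro F
    rw [← Finset.add_sum_erase Finset.univ _ (Finset.mem_univ oneG), ← hU, hT,
      ← Finset.sum_sdiff hSU]
    ring
  have hTmem : ∀ ψ ∈ T, ψ ≠ oneG ∧ ψ ∉ S := by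
    intro ψ hψ
    rw [hT, Finset.mem_sdiff, hU] at hψ
    exact ⟨Finset.ne_of_mem_erase hψ.1, hψ.2⟩
  obtain ⟨R, hR⟩ : ∃ R : ℤ, R = ∑ ψ ∈ T, b ψ ^ 2 := ⟨_, rfl⟩
  have hR0 : 0 ≤ R := by rw [hR]; exact Finset.sum_nonneg fun _ _ => sq_nonneg _
  have h1 : 1 + (S.card : ℤ) * b₀ ^ 2 + R = 3 + 2 * ε * b₀ := by
    have h := hsplit (fun ψ => b ψ ^ 2)
    try simp only [] at h
    rw [hbsq, hb1, ← hR, Finset.sum_congr rfl (fun ψ hψ => by rw [(hSb ψ hψ).1]),
      Finset.sum_const, nsmul_eq_mul] at h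
    push_cast at h
    linarith
  have hs2 : (2 : ℤ) ≤ (S.card : ℤ) := by exact_mod_cast hS2
  have hR2 : R ≤ 2 := by
    have h3 : 2 * b₀ ^ 2 ≤ (S.card : ℤ) * b₀ ^ 2 := by nlinarith [sq_nonneg b₀]
    rcases hε with rfl | rfl
    · have : 0 ≤ b₀ * (b₀ - 1) := by
        rcases le_or_gt b₀ 0 with h | h <;> nlinarith
      nlinarith
    · have : 0 ≤ b₀ * (b₀ + 1) := by
        rcases le_or_gt b₀ (-1) with h | h <;> nlinarith
      nlinarith
  -- the non-exceptional characters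
  have hTb : ∀ ψ ∈ T, b ψ = 0 ∨ (b ψ = -1 ∧ (charDegree (ψ : G → ℂ) = 6 ∨
      charDegree (ψ : G → ℂ) = 27)) := by
    intro ψ hψ
    have hle : b ψ ^ 2 ≤ R := by
      rw [hR]
      exact Finset.single_le_sum (f := fun ψ => b ψ ^ 2) (fun _ _ => sq_nonneg _) hψ
    have hb3 : b ψ = 0 ∨ b ψ = 1 ∨ b ψ = -1 := by
      have h1' : -1 ≤ b ψ := by nlinarith
      have h2' : b ψ ≤ 1 := by nlinarith
      omega
    have hg := hgt ψ (hTmem ψ hψ).1
    have hl := hdeg28 ψ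
    have hd := hdvd ψ
    have hcg := hbcong ψ (hTmem ψ hψ).2
    obtain ⟨f, hf⟩ : ∃ f, f = charDegree (ψ : G → ℂ) := ⟨_, rfl⟩
    rw [← hf] at hg hl hd hcg ⊢
    rcases hb3 with h | h | h
    · exact Or.inl h
    · rw [h] at hcg
      exfalso
      interval_cases f <;> omega
    · rw [h] at hcg
      right
      refine ⟨h, ?_⟩
      interval_cases f <;> omega
  obtain ⟨c, hc'⟩ : ∃ c : IrrCharacter G → ℤ,
      c = fun ψ : IrrCharacter G => if charDegree (ψ : G → ℂ) = 27 then b ψ ^ 2 else 0 := ⟨_, rfl⟩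
  have hcT : ∀ ψ ∈ T, b ψ * (charDegree (ψ : G → ℂ) : ℤ) = -6 * b ψ ^ 2 - 21 * c ψ ∧
      0 ≤ c ψ ∧ c ψ ≤ b ψ ^ 2 := by
    intro ψ hψ
    have hcv : c ψ = if charDegree (ψ : G → ℂ) = 27 then b ψ ^ 2 else 0 := by rw [hc']
    rw [hcv]
    rcases hTb ψ hψ with h | ⟨h, h6 | h27⟩
    · rw [h]
      simp
    · rw [h, h6]
      norm_num
    · rw [h, h27]
      norm_num
  obtain ⟨m, hm⟩ : ∃ m : ℤ, m = ∑ ψ ∈ T, c ψ := ⟨_, rfl⟩
  have hm0 : 0 ≤ m := by rw [hm]; exact Finset.sum_nonneg fun ψ hψ => (hcT ψ hψ).2.1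
  have hmR : m ≤ R := by rw [hm, hR]; exact Finset.sum_le_sum fun ψ hψ => (hcT ψ hψ).2.2
  obtain ⟨D, hD⟩ : ∃ D : ℤ, D = ∑ ψ ∈ T, b ψ * (charDegree (ψ : G → ℂ) : ℤ) := ⟨_, rfl⟩
  have hDeq : D = -6 * R - 21 * m := by
    rw [hD, hR, hm, Finset.mul_sum, Finset.mul_sum, ← Finset.sum_sub_distrib]
    exact Finset.sum_congr rfl fun ψ hψ => (hcT ψ hψ).1
  have h2 : 1 + (S.card : ℤ) * (b₀ * (f₀ : ℤ)) + D = ε * f₀ := by
    have h := hsplit (fun ψ => b ψ * (charDegree (ψ : G → ℂ) : ℤ))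
    try simp only [] at h
    rw [hbdeg, hb1, hdegone, ← hD, Finset.sum_congr rfl (fun ψ hψ => by
      rw [(hSb ψ hψ).1, (hSb ψ hψ).2]), Finset.sum_const, nsmul_eq_mul] at h
    push_cast at h
    linarith
  have hkey := sv756_arith ε b₀ (S.card : ℤ) R m D f₀ hε hs2 hR0 hm0 hmR hDeq h1 h2
  -- `f₀` is the degree of an exceptional character
  obtain ⟨χ, hχ⟩ : ∃ χ, χ ∈ S := Finset.card_pos.mp (by omega)
  have hf₀ : f₀ ∣ 756 := by
    rw [← (hSb χ hχ).2]; exact hdvd χ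
  rcases hkey with rfl | rfl | rfl | rfl <;> omega

end Cfsg.Agent.Lib.helper21
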