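import Mathlib

set_option autoImplicit false

namespace Cfsg.Agent.Lib.helper21

/-- If a normal subgroup `K` of `G` of index prime to `r` has a normal Sylow `r`-subgroup, then
every Sylow `r`-subgroup of `G` is normal. -/
theorem sylow_normal_of_normal_sylow_of_normal {G : Type*} [Group G] [Finite G] {r : ℕ}
    [Fact r.Prime] (K : Subgroup G) [K.Normal] (Q : Sylow r K) (hQ : (Q : Subgroup K).Normal)
    (hidx : ¬ r ∣ K.index) (R : Sylow r G) : (R : Subgroup G).Normal := by
  have hr : r.Prime := Fact.out
  have : (Q : Subgroup K).Characteristic := Sylow.characteristic_of_normal Q hQ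
  have hN : ((Q : Subgroup K).map K.subtype).Normal := ConjAct.normal_of_characteristic_of_normal
  have hpg : IsPGroup r ((Q : Subgroup K).map K.subtype) := Q.2.map K.subtype
  have hle : (Q : Subgroup K).map K.subtype ≤ (R : Subgroup G) := hpg.le_sylow_of_normal R
  have hcard : Nat.card (R : Subgroup G) ≤ Nat.card ((Q : Subgroup K).map K.subtype) := by
    rw [Subgroup.card_map_of_injective (Subgroup.subtype_injective _), R.card_eq_multiplicity,
      Q.card_eq_multiplicity]
    apply Nat.pow_le_pow_right hr.pos
    have h1 : Nat.card K * K.index = Nat.card G := Subgroup.card_mul_index K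
    have h2 : (Nat.card G).factorization r = (Nat.card K).factorization r + K.index.factorization r := by
      rw [← h1, Nat.factorization_mul Nat.card_pos.ne' (Subgroup.index_ne_zero_of_finite)]
      rfl
    rw [h2, Nat.factorization_eq_zero_of_not_dvd hidx, add_zero]
  have heq : (Q : Subgroup K).map K.subtype = (R : Subgroup G) :=
    Subgroup.eq_of_le_of_card_ge hle hcard
  rw [← heq]
  exact hN

end Cfsg.Agent.Lib.helper21
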