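import Mathlib
import Cfsg.Agent.Lib.helper21.SylowCosets

set_option autoImplicit false

namespace Cfsg.Agent.Lib.helper21

open Subgroup MulAction

/-- If a Sylow `p`-subgroup `P` has order `p`, the number `t` of `P`-orbits on the cosets of
`N(P)` satisfies `t * p = n_p + (p - 1)` (Burnside's lemma). -/
theorem card_orbits_quotient_normalizer_mul {G : Type*} [Group G] [Finite G] {p : ℕ}
    [hp : Fact p.Prime] (P : Sylow p G) (hP : Nat.card (P : Subgroup G) = p) :
    Nat.card (orbitRel.Quotient (P : Subgroup G)
      (G ⧸ normalizer ((P : Subgroup G) : Set G))) * p = Nat.card (Sylow p G) + (p - 1) := by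
  classical
  set N := normalizer ((P : Subgroup G) : Set G) with hN
  have : Fintype (P : Subgroup G) := Fintype.ofFinite _
  have : Fintype (G ⧸ N) := Fintype.ofFinite _
  have : Fintype (orbitRel.Quotient (P : Subgroup G) (G ⧸ N)) := Fintype.ofFinite _
  have hB := MulAction.sum_card_fixedBy_eq_card_orbits_mul_card_group (P : Subgroup G) (G ⧸ N)
  rw [← Nat.card_eq_fintype_card, ← Nat.card_eq_fintype_card (α := (P : Subgroup G)), hP] at hB
  rw [← hB, ← Finset.add_sum_erase Finset.univ _ (Finset.mem_univ (1 : (P : Subgroup G)))]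
  have h1 : Fintype.card (fixedBy (G ⧸ N) (1 : (P : Subgroup G))) = Nat.card (Sylow p G) := by
    rw [Sylow.card_eq_index_normalizer P, ← Nat.card_eq_fintype_card, fixedBy_one_eq_univ,
      Nat.card_coe_set_eq, Set.ncard_univ]
    rfl
  have h2 : ∀ u ∈ Finset.univ.erase (1 : (P : Subgroup G)),
      Fintype.card (fixedBy (G ⧸ N) u) = 1 := by
    intro u hu
    have hu1 : (u : G) ≠ 1 := by
      intro h
      exact (Finset.mem_erase.mp hu).1 (Subtype.ext h)
    have hPu := sylow_eq_zpowers_of_card P hP u.2 hu1
    have ho : orderOf (u : G) = p := by rw [← Nat.card_zpowers, ← hPu, hP]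
    have h3 := card_fixedBy_quotient_normalizer_of_orderOf P hP (u : G) ho
    rw [← Nat.card_eq_fintype_card]
    exact h3
  rw [h1, Finset.sum_congr rfl h2]
  simp only [Finset.sum_const, smul_eq_mul, mul_one, Finset.card_erase_of_mem (Finset.mem_univ _),
    Finset.card_univ]
  rw [← Nat.card_eq_fintype_card, hP]

end Cfsg.Agent.Lib.helper21
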