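import Mathlib
import Cfsg.Agent.Lib.helper21.Orbits
import Cfsg.Agent.Lib.helper37.CoprimeGen
import Cfsg.Agent.Lib.helper13.SylowIn

set_option autoImplicit false

/-!
# Group-theoretic lemmas on trivial-intersection (TI) subgroups acting coprimely

`P` is a `p`-subgroup meeting each conjugate by an element outside its normalizer trivially, and
`Q` is a `P`-invariant subgroup of order prime to `p`.  Then `C_Q(x) = C_Q(P)` for every
`1 ≠ x ∈ P`, hence `|P| |C_Q(P)| < |Q|` unless `P` centralizes `Q`.  We also record the structure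
of a minimal `P`-invariant subgroup not centralized by `P`.
-/

namespace Cfsg.Agent.Lib.helper21

open Subgroup
open scoped Pointwise

section TI

variable {G : Type*} [Group G]

/-- If `k` commutes with a nonidentity element of a TI subgroup `P`, then `k` normalizes `P`. -/
theorem ti_mem_normalizer_of_commute (P : Subgroup G)
    (hTI : ∀ g : G, g ∉ normalizer (P : Set G) → P ⊓ (MulAut.conj g • P) = ⊥)
    {x k : G} (hx : x ∈ P) (hx1 : x ≠ 1) (hk : k * x = x * k) : k ∈ normalizer (P : Set G) := by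
  by_contra h
  have h1 := hTI k h
  have h2 : x ∈ P ⊓ (MulAut.conj k • P) := by
    refine ⟨hx, ?_⟩
    have h3 : MulAut.conj k • x ∈ MulAut.conj k • P := Subgroup.smul_mem_pointwise_smul _ _ _ hx
    have h4 : MulAut.conj k • x = x := by
      rw [MulAut.smul_def, MulAut.conj_apply, hk]; simp
    rwa [h4] at h3
  rw [h1, Subgroup.mem_bot] at h2
  exact hx1 h2

/-- In a TI `p`-subgroup `P` normalizing a `p'`-subgroup `Q`: an element of `Q` commuting with a
nonidentity element of `P` centralizes `P`. -/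
theorem ti_mem_centralizer_of_commute [Finite G] {p : ℕ} [Fact p.Prime] (P Q : Subgroup G)
    (hP : IsPGroup p P) (hQ : (Nat.card Q).Coprime p) (hPQ : P ≤ normalizer (Q : Set G))
    (hTI : ∀ g : G, g ∉ normalizer (P : Set G) → P ⊓ (MulAut.conj g • P) = ⊥)
    {x k : G} (hx : x ∈ P) (hx1 : x ≠ 1) (hkQ : k ∈ Q) (hk : k * x = x * k) :
    k ∈ centralizer (P : Set G) := by
  have hkN := ti_mem_normalizer_of_commute P hTI hx hx1 hk
  rw [Subgroup.mem_centralizer_iff]
  intro y hy
  have hy' : y ∈ P := hy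
  have h1 : k * y * k⁻¹ * y⁻¹ ∈ P :=
    P.mul_mem ((Subgroup.mem_normalizer_iff.mp hkN y).mp hy') (P.inv_mem hy')
  have h2 : k * y * k⁻¹ * y⁻¹ ∈ Q := by
    have h3 : y * k⁻¹ * y⁻¹ ∈ Q :=
      (Subgroup.mem_normalizer_iff.mp (hPQ hy') k⁻¹).mp (Q.inv_mem hkQ)
    have h4 : k * y * k⁻¹ * y⁻¹ = k * (y * k⁻¹ * y⁻¹) := by group
    rw [h4]; exact Q.mul_mem hkQ h3
  have h5 : k * y * k⁻¹ * y⁻¹ = 1 :=
    Cfsg.Agent.Lib.helper13.eq_one_of_mem_pGroup_of_mem_coprime hQ hP h1 h2
  have h6 : k * y * k⁻¹ * y⁻¹ * (y * k) = y * k := by rw [h5, one_mul]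
  rw [← h6]; group

/-- A subgroup acting freely by conjugation on a set has order dividing the size of the set. -/
theorem card_dvd_card_of_free_conj [Finite G] (P : Subgroup G) (X : Set G)
    (hX : ∀ y ∈ P, ∀ g ∈ X, y * g * y⁻¹ ∈ X)
    (hfree : ∀ y ∈ P, ∀ g ∈ X, y * g * y⁻¹ = g → y = 1) : Nat.card P ∣ Nat.card X := by
  classical
  letI : MulAction P X :=
    { smul := fun y g => ⟨(y : G) * g * (y : G)⁻¹, hX y y.2 g g.2⟩
      one_smul := fun g => Subtype.ext (by
        show ((1 : P) : G) * g * ((1 : P) : G)⁻¹ = g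
        simp)
      mul_smul := fun a b g => Subtype.ext (by
        show ((a * b : P) : G) * g * ((a * b : P) : G)⁻¹ = a * (b * g * (b : G)⁻¹) * (a : G)⁻¹
        simp [mul_assoc]) }
  apply dvd_card_of_dvd_card_orbit (H := P) (X := X)
  intro x
  have h2 : MulAction.stabilizer P x = ⊥ := by
    rw [eq_bot_iff]
    intro y hy
    rw [MulAction.mem_stabilizer_iff] at hy
    have h3 : (y : G) * x * (y : G)⁻¹ = x := congrArg Subtype.val hy
    have h4 := hfree y y.2 x x.2 h3
    rw [Subgroup.mem_bot]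
    exact Subtype.ext h4
  have h1 : Nat.card (MulAction.orbit P x) = Nat.card P := by
    rw [Nat.card_congr (MulAction.orbitEquivQuotientStabilizer P x), h2]
    exact Subgroup.index_bot
  rw [h1]

/-- Counting: if a TI `p`-subgroup `P` normalizes but does not centralize the `p'`-subgroup `Q`
then `|P| · |C_Q(P)| < |Q|`. -/
theorem ti_card_mul_card_lt [Finite G] {p : ℕ} [Fact p.Prime] (P Q : Subgroup G)
    (hP : IsPGroup p P) (hQ : (Nat.card Q).Coprime p) (hPQ : P ≤ normalizer (Q : Set G))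
    (hTI : ∀ g : G, g ∉ normalizer (P : Set G) → P ⊓ (MulAut.conj g • P) = ⊥)
    (hnc : ¬ Q ≤ centralizer (P : Set G)) :
    Nat.card P * Nat.card (Q ⊓ centralizer (P : Set G) : Subgroup G) < Nat.card Q := by
  classical
  set C : Subgroup G := Q ⊓ centralizer (P : Set G) with hC
  set X : Set G := {g | g ∈ Q ∧ g ∉ centralizer (P : Set G)} with hXdef
  have h1 : Nat.card P ∣ Nat.card X := by
    apply card_dvd_card_of_free_conj P X
    · rintro y hy g ⟨hgQ, hgC⟩
      refine ⟨(Subgroup.mem_normalizer_iff.mp (hPQ hy) g).mp hgQ, ?_⟩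
      intro h
      apply hgC
      rw [Subgroup.mem_centralizer_iff] at h ⊢
      intro z hz
      have hz' : y * z * y⁻¹ ∈ (P : Set G) := P.mul_mem (P.mul_mem hy hz) (P.inv_mem hy)
      have h2 := h _ hz'
      have h3 : y * (z * g) * y⁻¹ = y * (g * z) * y⁻¹ := by
        calc y * (z * g) * y⁻¹ = (y * z * y⁻¹) * (y * g * y⁻¹) := by group
          _ = (y * g * y⁻¹) * (y * z * y⁻¹) := h2
          _ = y * (g * z) * y⁻¹ := by group
      exact mul_left_cancel (mul_right_cancel h3)
    · rintro y hy g ⟨hgQ, hgC⟩ hyg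
      by_contra hy1
      apply hgC
      apply ti_mem_centralizer_of_commute P Q hP hQ hPQ hTI hy hy1 hgQ
      have h4 : y * g = g * y := by
        calc y * g = y * g * y⁻¹ * y := by group
          _ = g * y := by rw [hyg]
      exact h4.symm
  have hCQ : (C : Set G) ⊆ (Q : Set G) := fun g hg => hg.1
  have hXeq : X = (Q : Set G) \ (C : Set G) := by
    ext g
    simp only [hXdef, hC, Set.mem_ofPred_eq, Set.mem_sdiff, SetLike.mem_coe, Subgroup.mem_inf]
    tauto
  have h2 : Nat.card Q = Nat.card X + Nat.card C := by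
    have h3 := Set.ncard_sdiff_add_ncard_of_subset hCQ (Set.toFinite _)
    rw [← hXeq] at h3
    have h4 : Nat.card Q = (Q : Set G).ncard := (Nat.card_coe_set_eq (Q : Set G))
    have h5 : Nat.card C = (C : Set G).ncard := (Nat.card_coe_set_eq (C : Set G))
    have h6 : Nat.card X = X.ncard := (Nat.card_coe_set_eq X)
    omega
  have h3 : Nat.card C ∣ Nat.card Q := Subgroup.card_dvd_of_le inf_le_left
  obtain ⟨m, hm⟩ := h3
  have hCpos : 0 < Nat.card C := Nat.card_pos
  have hXpos : 0 < Nat.card X := by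
    have : Nonempty X := by
      by_contra hne
      rw [not_nonempty_iff] at hne
      apply hnc
      intro g hg
      by_contra hgc
      exact hne.false ⟨g, hg, hgc⟩
    exact Nat.card_pos
  obtain ⟨k, hk⟩ := (IsPGroup.iff_card).mp hP
  have hcop : (Nat.card P).Coprime (Nat.card C) := by
    rw [hk]
    apply Nat.Coprime.pow_left
    have h7 : (Nat.card Q).Coprime p := hQ
    exact (Nat.Coprime.coprime_dvd_left ⟨m, hm⟩ h7).symm
  have hm1 : 1 ≤ m := by
    rcases Nat.eq_zero_or_pos m with h0 | h0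
    · subst h0
      have : Nat.card Q = 0 := by rw [hm]; simp
      have hQpos : 0 < Nat.card Q := Nat.card_pos
      omega
    · exact h0
  have hX' : Nat.card X = Nat.card C * (m - 1) := by
    have h8 : Nat.card C * m = Nat.card C * (m - 1) + Nat.card C := by
      conv_lhs => rw [show m = (m - 1) + 1 by omega]
      ring
    omega
  have h9 : Nat.card P ∣ m - 1 := by
    rw [hX'] at h1
    exact hcop.dvd_of_dvd_mul_left h1
  have hm2 : 0 < m - 1 := by
    rcases Nat.eq_zero_or_pos (m - 1) with h0 | h0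
    · rw [h0, mul_zero] at hX'; omega
    · exact h0
  have h10 : Nat.card P ≤ m - 1 := Nat.le_of_dvd hm2 h9
  calc Nat.card P * Nat.card C ≤ (m - 1) * Nat.card C := Nat.mul_le_mul_right _ h10
    _ = Nat.card X := by rw [hX']; ring
    _ < Nat.card Q := by omega

/-- Coprime trick: if `y g y⁻¹ = c g` with `c` commuting with the `p`-element `y` and `c` of
order prime to `p`, then `c = 1`. -/
theorem eq_one_of_conj_eq_mul_of_commute [Finite G] {p : ℕ} [Fact p.Prime] (P Q : Subgroup G)
    (hP : IsPGroup p P) (hQ : (Nat.card Q).Coprime p) {y g c : G} (hy : y ∈ P) (hc : c ∈ Q)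
    (hcy : c * y = y * c) (hyg : y * g * y⁻¹ = c * g) : c = 1 := by
  have h1 : ∀ n : ℕ, y ^ n * g * (y ^ n)⁻¹ = c ^ n * g := by
    intro n
    induction n with
    | zero => simp
    | succ n ih =>
      have hcomm : Commute y (c ^ n) := Commute.pow_right (show Commute y c from hcy.symm) n
      calc y ^ (n + 1) * g * (y ^ (n + 1))⁻¹ = y * (y ^ n * g * (y ^ n)⁻¹) * y⁻¹ := by
            rw [pow_succ']; group
        _ = y * (c ^ n * g) * y⁻¹ := by rw [ih]
        _ = c ^ n * (y * g * y⁻¹) := by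
            rw [← mul_assoc, hcomm.eq]; group
        _ = c ^ (n + 1) * g := by rw [hyg, pow_succ]; group
  have h2 : c ^ orderOf y = 1 := by
    have h3 := h1 (orderOf y)
    rw [pow_orderOf_eq_one] at h3
    simp only [one_mul, inv_one, mul_one] at h3
    exact (mul_eq_right.mp h3.symm)
  obtain ⟨k, hk⟩ := (IsPGroup.iff_orderOf.mp hP) ⟨y, hy⟩
  have h3 : orderOf y = p ^ k := by rw [← hk]; exact (Subgroup.orderOf_mk y hy).symm
  have h4 : orderOf c ∣ p ^ k := h3 ▸ orderOf_dvd_of_pow_eq_one h2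
  have h5 : orderOf c ∣ Nat.card Q := by
    have h6 := orderOf_dvd_natCard (⟨c, hc⟩ : Q)
    rwa [Subgroup.orderOf_mk] at h6
  have h6 : (p ^ k).Coprime (Nat.card Q) := Nat.Coprime.pow_left k hQ.symm
  have h7 : orderOf c = 1 := Nat.Coprime.eq_one_of_dvd (Nat.Coprime.coprime_dvd_left h4 h6) h5
  exact orderOf_eq_one_iff.mp h7

/-- A subgroup normalizing `H₁` and `H₂` normalizes their commutator. -/
theorem le_normalizer_commutator_of_le (A H₁ H₂ : Subgroup G)
    (h1 : A ≤ normalizer (H₁ : Set G)) (h2 : A ≤ normalizer (H₂ : Set G)) :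
    A ≤ normalizer ((⁅H₁, H₂⁆ : Subgroup G) : Set G) := by
  rw [Subgroup.le_normalizer_iff]
  intro a ha x hx
  have e1 : (⁅H₁, H₂⁆ : Subgroup G).map (MulAut.conj a).toMonoidHom
      = ⁅H₁.map (MulAut.conj a).toMonoidHom, H₂.map (MulAut.conj a).toMonoidHom⁆ :=
    Subgroup.map_commutator _ _ _
  have e2 : H₁.map (MulAut.conj a).toMonoidHom ≤ H₁ := by
    rintro _ ⟨y, hy, rfl⟩
    simpa using Subgroup.le_normalizer_iff.mp h1 a ha y hy
  have e3 : H₂.map (MulAut.conj a).toMonoidHom ≤ H₂ := by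
    rintro _ ⟨y, hy, rfl⟩
    simpa using Subgroup.le_normalizer_iff.mp h2 a ha y hy
  have e4 := Subgroup.mem_map_of_mem (MulAut.conj a).toMonoidHom hx
  rw [e1] at e4
  have := Subgroup.commutator_mono e2 e3 e4
  simpa using this

/-- Existence of a minimal `P`-invariant subgroup not centralized by `P`. -/
theorem exists_minimal_invariant_not_centralized [Finite G] (P S : Subgroup G)
    (hPS : P ≤ normalizer (S : Set G)) (hnc : ¬ S ≤ centralizer (P : Set G)) :
    ∃ Q : Subgroup G, Q ≤ S ∧ P ≤ normalizer (Q : Set G) ∧ ¬ Q ≤ centralizer (P : Set G) ∧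
      ∀ R : Subgroup G, R ≤ Q → P ≤ normalizer (R : Set G) → R ≠ Q →
        R ≤ centralizer (P : Set G) := by
  classical
  let T : Set (Subgroup G) :=
    {Q | Q ≤ S ∧ P ≤ normalizer (Q : Set G) ∧ ¬ Q ≤ centralizer (P : Set G)}
  have hT : T.Nonempty := ⟨S, le_rfl, hPS, hnc⟩
  obtain ⟨Q, hQT, hQmin⟩ := (Set.toFinite T).exists_minimal hT
  refine ⟨Q, hQT.1, hQT.2.1, hQT.2.2, ?_⟩
  intro R hRQ hPR hne
  by_contra hR
  have hRT : R ∈ T := ⟨hRQ.trans hQT.1, hPR, hR⟩
  exact hne (le_antisymm hRQ (hQmin hRT hRQ))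

/-- For a minimal `P`-invariant `p'`-subgroup `Q` not centralized by the `p`-group `P`:
`[Q, P] = Q`. -/
theorem commutator_eq_of_minimal [Finite G] {p : ℕ} [Fact p.Prime] (P Q : Subgroup G)
    (hP : IsPGroup p P) (hQ : (Nat.card Q).Coprime p) (hPQ : P ≤ normalizer (Q : Set G))
    (hmin : ∀ R : Subgroup G, R ≤ Q → P ≤ normalizer (R : Set G) → R ≠ Q →
        R ≤ centralizer (P : Set G))
    (hnc : ¬ Q ≤ centralizer (P : Set G)) : ⁅Q, P⁆ = Q := by
  have hle : ⁅Q, P⁆ ≤ Q := by
    rw [Subgroup.commutator_le]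
    intro g hg y hy
    rw [commutatorElement_def]
    have h3 : y * g⁻¹ * y⁻¹ ∈ Q :=
      (Subgroup.mem_normalizer_iff.mp (hPQ hy) g⁻¹).mp (Q.inv_mem hg)
    have h4 : g * y * g⁻¹ * y⁻¹ = g * (y * g⁻¹ * y⁻¹) := by group
    rw [h4]; exact Q.mul_mem hg h3
  by_contra hne
  have hN : P ≤ normalizer ((⁅Q, P⁆ : Subgroup G) : Set G) :=
    le_normalizer_commutator_of_le P Q P hPQ Subgroup.le_normalizer
  have hc := hmin _ hle hN hne
  apply hnc
  intro g hg
  rw [Subgroup.mem_centralizer_iff]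
  intro y hy
  have hy' : y ∈ P := hy
  have hcomm : y * g * y⁻¹ * g⁻¹ ∈ ⁅Q, P⁆ := by
    rw [Subgroup.commutator_comm]
    have := Subgroup.commutator_mem_commutator hy' hg
    rwa [commutatorElement_def] at this
  have h1 : y * g * y⁻¹ * g⁻¹ = 1 := by
    apply eq_one_of_conj_eq_mul_of_commute P Q hP hQ hy' (hle hcomm) (g := g)
    · exact (Subgroup.mem_centralizer_iff.mp (hc hcomm) y hy).symm
    · group
  calc y * g = y * g * y⁻¹ * g⁻¹ * (g * y) := by group
    _ = g * y := by rw [h1, one_mul]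

/-- For a minimal `P`-invariant `q`-subgroup `Q` of order prime to `p` not centralized by the
`p`-group `P`: the derived subgroup of `Q` is centralized by `P` and central in `Q`. -/
theorem derived_le_of_minimal [Finite G] {p q : ℕ} [Fact p.Prime] [Fact q.Prime]
    (P Q : Subgroup G)
    (hP : IsPGroup p P) (hQ : (Nat.card Q).Coprime p) (hQq : IsPGroup q Q)
    (hPQ : P ≤ normalizer (Q : Set G))
    (hmin : ∀ R : Subgroup G, R ≤ Q → P ≤ normalizer (R : Set G) → R ≠ Q →
        R ≤ centralizer (P : Set G))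
    (hnc : ¬ Q ≤ centralizer (P : Set G)) :
    ⁅Q, Q⁆ ≤ centralizer (P : Set G) ∧ ⁅Q, Q⁆ ≤ centralizer (Q : Set G) := by
  have hle : ⁅Q, Q⁆ ≤ Q := by
    rw [Subgroup.commutator_le]
    intro g hg h hh
    exact Q.mul_mem (Q.mul_mem (Q.mul_mem hg hh) (Q.inv_mem hg)) (Q.inv_mem hh)
  have hne : ⁅Q, Q⁆ ≠ Q := by
    intro heq
    have hQnt : Nontrivial Q := by
      rw [Subgroup.nontrivial_iff_ne_bot]
      rintro rfl
      exact hnc bot_le
    haveI : Group.IsNilpotent Q := hQq.isNilpotent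
    have h1 : _root_.commutator Q < ⊤ := Group.IsSolvable.commutator_lt_top_of_nontrivial Q
    have h2 : (_root_.commutator Q).map Q.subtype = ⁅Q, Q⁆ := Subgroup.map_subtype_commutator Q
    have h3 : (_root_.commutator Q).map Q.subtype = (⊤ : Subgroup Q).map Q.subtype := by
      rw [h2, heq, ← MonoidHom.range_eq_map, Subgroup.range_subtype]
    have h4 := Subgroup.map_injective Q.subtype_injective h3
    exact (ne_of_lt h1) h4
  have hN : P ≤ normalizer ((⁅Q, Q⁆ : Subgroup G) : Set G) :=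
    le_normalizer_commutator_of_le P Q Q hPQ hPQ
  have hc := hmin _ hle hN hne
  refine ⟨hc, ?_⟩
  have hQP : ⁅Q, P⁆ = Q := commutator_eq_of_minimal P Q hP hQ hPQ hmin hnc
  have hDP : ⁅⁅Q, Q⁆, P⁆ = ⊥ := Subgroup.commutator_eq_bot_iff_le_centralizer.mpr hc
  have h1 : ⁅⁅P, ⁅Q, Q⁆⁆, Q⁆ = ⊥ := by
    rw [Subgroup.commutator_comm P, hDP]
    exact Subgroup.commutator_bot_left Q
  have h2 : ⁅⁅⁅Q, Q⁆, Q⁆, P⁆ = ⊥ := by
    rw [eq_bot_iff, ← hDP]
    exact Subgroup.commutator_mono (Subgroup.commutator_mono hle le_rfl) le_rfl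
  have h3 : ⁅⁅Q, P⁆, ⁅Q, Q⁆⁆ = ⊥ := Subgroup.commutator_commutator_eq_bot_of_rotate h1 h2
  rw [hQP, Subgroup.commutator_comm] at h3
  exact Subgroup.commutator_eq_bot_iff_le_centralizer.mp h3

end TI

section Norm

/-- Norm argument: a finite group `P` acts coprimely on a finite abelian group `A` such that
every proper `P`-invariant subgroup is fixed pointwise, and the action is nontrivial.  Then the
only fixed point is `1`. -/
theorem fixed_eq_one_of_minimal {A P : Type*} [CommGroup A] [Finite A] [Group P] [Finite P]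
    [MulDistribMulAction P A] (hcop : (Nat.card P).Coprime (Nat.card A))
    (hmin : ∀ R : Subgroup A, (∀ y : P, ∀ a ∈ R, y • a ∈ R) → R ≠ ⊤ →
      ∀ y : P, ∀ a ∈ R, y • a = a)
    (hnt : ∃ y : P, ∃ a : A, y • a ≠ a) (a : A) (ha : ∀ y : P, y • a = a) : a = 1 := by
  classical
  haveI : Fintype P := Fintype.ofFinite P
  let N : A →* A := ∏ y : P, MulDistribMulAction.toMonoidHom A y
  have hN : ∀ b : A, N b = ∏ y : P, y • b := by
    intro b
    simp only [N, MonoidHom.finsetProd_apply]
    rfl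
  have hNinv : ∀ (y₀ : P) (b : A), N (y₀ • b) = N b := by
    intro y₀ b
    rw [hN, hN]
    have h1 : ∀ y : P, y • y₀ • b = (y * y₀) • b := fun y => (mul_smul y y₀ b).symm
    simp_rw [h1]
    exact Fintype.prod_equiv (Equiv.mulRight y₀) _ _ (fun y => rfl)
  have hNfixed : ∀ b : A, (∀ y : P, y • b = b) → N b = b ^ Nat.card P := by
    intro b hb
    rw [hN]
    simp_rw [hb]
    rw [Finset.prod_const, Finset.card_univ, Nat.card_eq_fintype_card]
  have hpow : ∀ b : A, b ^ Nat.card P = 1 → b = 1 := by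
    intro b hb
    have h1 : orderOf b ∣ Nat.card P := orderOf_dvd_of_pow_eq_one hb
    have h2 : orderOf b ∣ Nat.card A := orderOf_dvd_natCard b
    have h3 : orderOf b = 1 :=
      Nat.Coprime.eq_one_of_dvd (Nat.Coprime.coprime_dvd_left h1 hcop) h2
    exact orderOf_eq_one_iff.mp h3
  by_cases hker : N.ker = ⊤
  · have h1 : a ∈ N.ker := hker ▸ Subgroup.mem_top a
    rw [MonoidHom.mem_ker, hNfixed a ha] at h1
    exact hpow a h1
  · exfalso
    have hinv : ∀ y : P, ∀ b ∈ N.ker, y • b ∈ N.ker := by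
      intro y b hb
      rw [MonoidHom.mem_ker] at hb ⊢
      rw [hNinv, hb]
    have hfix := hmin N.ker hinv hker
    have hbot : N.ker = ⊥ := by
      rw [eq_bot_iff]
      intro b hb
      have h1 := hNfixed b (fun y => hfix y b hb)
      rw [MonoidHom.mem_ker] at hb
      rw [hb] at h1
      rw [Subgroup.mem_bot]
      exact hpow b h1.symm
    have hinj : Function.Injective N := (MonoidHom.ker_eq_bot_iff N).mp hbot
    obtain ⟨y, b, hyb⟩ := hnt
    exact hyb (hinj (hNinv y b))

variable {G : Type*} [Group G]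

/-- For a minimal `P`-invariant abelian subgroup `Q` of order prime to `|P|` not centralized by
`P`: no nonidentity element of `Q` is centralized by `P`. -/
theorem abelian_inf_centralizer_eq_one [Finite G] (P Q : Subgroup G)
    (hPQ : P ≤ normalizer (Q : Set G)) (hcop : (Nat.card P).Coprime (Nat.card Q))
    (hab : ∀ a ∈ Q, ∀ b ∈ Q, a * b = b * a)
    (hmin : ∀ R : Subgroup G, R ≤ Q → P ≤ normalizer (R : Set G) → R ≠ Q →
        R ≤ centralizer (P : Set G))
    (hnc : ¬ Q ≤ centralizer (P : Set G)) {g : G} (hg : g ∈ Q)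
    (hgc : g ∈ centralizer (P : Set G)) : g = 1 := by
  letI : CommGroup ↥Q :=
    { (inferInstance : Group ↥Q) with
      mul_comm := fun a b => Subtype.ext (hab a a.2 b b.2) }
  letI : MulDistribMulAction ↥P ↥Q := Cfsg.Agent.Lib.helper37.conjMulDistribMulAction P Q hPQ
  have hsmul : ∀ (y : ↥P) (b : ↥Q), ((y • b : ↥Q) : G) = (y : G) * b * (y : G)⁻¹ := fun _ _ => rfl
  have key : (⟨g, hg⟩ : ↥Q) = 1 := by
    apply fixed_eq_one_of_minimal (A := ↥Q) (P := ↥P) hcop
    · intro R hR hne y a haR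
      have h1 : R.map Q.subtype ≤ centralizer (P : Set G) := by
        apply hmin (R.map Q.subtype) (Subgroup.map_subtype_le R)
        · rw [Subgroup.le_normalizer_iff]
          rintro y hy _ ⟨b, hb, rfl⟩
          exact ⟨(⟨y, hy⟩ : ↥P) • b, hR ⟨y, hy⟩ b hb, rfl⟩
        · intro h
          apply hne
          rw [eq_top_iff]
          intro b _
          have h2 : (b : G) ∈ R.map Q.subtype := by rw [h]; exact b.2
          obtain ⟨b', hb', hbb⟩ := h2
          have h3 : b' = b := Subtype.ext hbb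
          exact h3 ▸ hb'
      apply Subtype.ext
      rw [hsmul]
      have h2 := Subgroup.mem_centralizer_iff.mp (h1 ⟨a, haR, rfl⟩) y y.2
      have h2' : (y : G) * (a : G) = (a : G) * (y : G) := h2
      rw [h2']; group
    · by_contra hcon
      apply hnc
      intro b hb
      rw [Subgroup.mem_centralizer_iff]
      intro y hy
      have h3 : (y : G) * b * y⁻¹ = b := by
        by_contra h3
        apply hcon
        refine ⟨⟨y, hy⟩, ⟨b, hb⟩, ?_⟩
        intro h4
        apply h3
        have := congrArg Subtype.val h4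
        rwa [hsmul] at this
      calc y * b = y * b * y⁻¹ * y := by group
        _ = b * y := by rw [h3]
    · intro y
      apply Subtype.ext
      rw [hsmul]
      have h2 : (y : G) * g = g * (y : G) := Subgroup.mem_centralizer_iff.mp hgc y y.2
      show (y : G) * g * (y : G)⁻¹ = g
      rw [h2]; group
  exact congrArg Subtype.val key

end Norm

end Cfsg.Agent.Lib.helper21
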