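import Mathlib
import Cfsg.Prelude.Def_Local
import Cfsg.Agent.Lib.helper21.TIGroup
import Cfsg.Agent.Lib.helper70.PSolvNormal
import Cfsg.Agent.Lib.helper73.PSolv

set_option autoImplicit false

/-!
# `p`-solvable groups with a non-normal TI Sylow `p`-subgroup

If `P` is a TI Sylow `p`-subgroup of the `p`-solvable group `G` and `P` is not normal, then `P`
acts nontrivially on a normal `p'`-subgroup, hence on a `P`-invariant `q`-subgroup of it.
-/

namespace Cfsg.Agent.Lib.helper21

open Subgroup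
open scoped Pointwise

variable {G : Type*} [Group G]

/-- A non-normal TI Sylow `p`-subgroup of a `p`-solvable group does not centralize some normal
`p'`-subgroup. -/
theorem exists_normal_pprime_not_centralized [Finite G] (p : ℕ) [Fact p.Prime]
    (hsolv : Cfsg.IsPSolvable p G) (P : Sylow p G)
    (hTI : ∀ g : G, g ∉ normalizer ((P : Subgroup G) : Set G) →
      (P : Subgroup G) ⊓ (MulAut.conj g • (P : Subgroup G)) = ⊥)
    (hn : ¬ (P : Subgroup G).Normal) :
    ∃ K : Subgroup G, K.Normal ∧ (Nat.card K).Coprime p ∧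
      ¬ K ≤ centralizer ((P : Subgroup G) : Set G) := by
  have hp : p.Prime := Fact.out
  have hdiv : p ∣ Nat.card G := by
    by_contra h
    apply hn
    have h1 : Nat.card (P : Subgroup G) = 1 := by
      rw [Sylow.card_eq_multiplicity, Nat.factorization_eq_zero_of_not_dvd h, pow_zero]
    rw [Subgroup.card_eq_one] at h1
    rw [h1]; infer_instance
  have hsolv' : Cfsg.IsPSolvable p ↥(⊤ : Subgroup G) :=
    Cfsg.Agent.Lib.helper73.isPSolvable_subgroup hp hsolv ⊤
  have hdiv' : p ∣ Nat.card ↥(⊤ : Subgroup G) := by rwa [Subgroup.card_top]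
  obtain ⟨K, M, hKn, hMn, hKM, -, hKc, j, hM⟩ :=
    Cfsg.Agent.Lib.helper70.exists_normal_pprime_p_section p ⊤ hsolv' hdiv'
  refine ⟨K, hKn, hKc, ?_⟩
  intro hKC
  apply hn
  obtain ⟨R⟩ : Nonempty (Sylow p ↥M) := Sylow.nonempty
  set R' : Subgroup G := (R : Subgroup ↥M).map M.subtype with hR'
  have hR'p : IsPGroup p R' := R.isPGroup'.map _
  have hR'M : R' ≤ M := Subgroup.map_subtype_le _
  have hKndvd : ¬ p ∣ Nat.card K := fun h => hp.one_lt.ne' (Nat.eq_one_of_dvd_coprimes hKc h dvd_rfl)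
  have hfac : (Nat.card M).factorization p = j + 1 := by
    rw [hM, Nat.factorization_mul Nat.card_pos.ne' (pow_ne_zero _ hp.ne_zero), Finsupp.add_apply,
      Nat.factorization_eq_zero_of_not_dvd hKndvd, hp.factorization_pow, Finsupp.single_eq_same,
      zero_add]
  have hR'card : Nat.card R' = p ^ (j + 1) := by
    rw [hR', Subgroup.card_map_of_injective M.subtype_injective, Sylow.card_eq_multiplicity, hfac]
  have hMle : M ≤ R' ⊔ K := by
    have h1 : R' ⊔ K ≤ M := sup_le hR'M hKM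
    have h2 : Nat.card M ∣ Nat.card (R' ⊔ K : Subgroup G) := by
      rw [hM]
      apply Nat.Coprime.mul_dvd_of_dvd_of_dvd
      · exact Nat.Coprime.pow_right _ hKc
      · exact Subgroup.card_dvd_of_le le_sup_right
      · rw [← hR'card]; exact Subgroup.card_dvd_of_le le_sup_left
    have h3 : Nat.card M ≤ Nat.card (R' ⊔ K : Subgroup G) := Nat.le_of_dvd Nat.card_pos h2
    exact (Subgroup.eq_of_le_of_card_ge h1 h3).ge
  obtain ⟨P₁, hP₁⟩ := hR'p.exists_le_sylow
  obtain ⟨g, hg⟩ := MulAction.exists_smul_eq G P P₁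
  have hKR : ∀ k ∈ K, ∀ x ∈ R', k * x = x * k := by
    intro k hk x hx
    have hx1 : x ∈ ((g • P : Sylow p G) : Subgroup G) := by rw [hg]; exact hP₁ hx
    have hx2 : g⁻¹ * x * g ∈ (P : Subgroup G) := by
      rw [Sylow.smul_def, Sylow.pointwise_smul_def,
        Subgroup.mem_pointwise_smul_iff_inv_smul_mem] at hx1
      exact hx1
    have hk2 : g⁻¹ * k * g ∈ K := by
      have := hKn.conj_mem k hk g⁻¹
      simpa using this
    have h4 := Subgroup.mem_centralizer_iff.mp (hKC hk2) _ hx2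
    have h5 : g⁻¹ * (x * k) * g = g⁻¹ * (k * x) * g := by
      calc g⁻¹ * (x * k) * g = (g⁻¹ * x * g) * (g⁻¹ * k * g) := by group
        _ = (g⁻¹ * k * g) * (g⁻¹ * x * g) := h4
        _ = g⁻¹ * (k * x) * g := by group
    exact (mul_left_cancel (mul_right_cancel h5)).symm
  have hRn : ∀ g : G, ∀ x ∈ R', g * x * g⁻¹ ∈ R' := by
    intro g x hx
    obtain ⟨y, hy, b, hb, rfl⟩ :=
      Cfsg.Agent.Lib.helper13.exists_mul_normalizer_of_conj_mem_sup K R' hKc hR'p g (by
        intro z hz
        have : g * z * g⁻¹ ∈ M := hMn.conj_mem z (hR'M hz) g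
        exact hMle this)
    have h5 : b * x * b⁻¹ ∈ R' := (Subgroup.mem_normalizer_iff.mp hb x).mp hx
    have h6 : y * b * x * (y * b)⁻¹ = y * (b * x * b⁻¹) * y⁻¹ := by group
    rw [h6, hKR y hy _ h5]
    simpa using h5
  haveI hR'n : R'.Normal := ⟨fun x hx g => hRn g x hx⟩
  have hR'P : R' ≤ (P : Subgroup G) := hR'p.le_sylow_of_normal P
  obtain ⟨x, hx, hx1⟩ : ∃ x ∈ R', x ≠ 1 := by
    by_contra hcon
    have h7 : R' = ⊥ := by
      rw [eq_bot_iff]
      intro x hx
      rw [Subgroup.mem_bot]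
      by_contra hx1
      exact hcon ⟨x, hx, hx1⟩
    rw [h7, Subgroup.card_bot] at hR'card
    have h8 : 1 < p ^ (j + 1) := Nat.one_lt_pow (by omega) hp.one_lt
    omega
  apply Subgroup.normalizer_eq_top_iff.mp
  rw [eq_top_iff]
  intro g _
  by_contra hgN
  have h7 := hTI g hgN
  have h8 : x ∈ (P : Subgroup G) ⊓ MulAut.conj g • (P : Subgroup G) := by
    refine ⟨hR'P hx, ?_⟩
    have h9 : g⁻¹ * x * g ∈ R' := by
      have := hRn g⁻¹ x hx
      simpa using this
    have h10 : MulAut.conj g • (g⁻¹ * x * g) ∈ MulAut.conj g • (P : Subgroup G) :=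
      Subgroup.smul_mem_pointwise_smul _ _ _ (hR'P h9)
    have h11 : MulAut.conj g • (g⁻¹ * x * g) = x := by
      rw [MulAut.smul_def, MulAut.conj_apply]; group
    rwa [h11] at h10
  rw [h7, Subgroup.mem_bot] at h8
  exact hx1 h8

/-- If the `p`-group `P` normalizes but does not centralize the `p'`-group `K`, it normalizes and
does not centralize some `q`-subgroup of `K`. -/
theorem exists_invariant_qgroup_not_centralized [Finite G] (p : ℕ) [Fact p.Prime]
    (P K : Subgroup G) (hP : IsPGroup p P) (hK : (Nat.card K).Coprime p)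
    (hPK : P ≤ normalizer (K : Set G)) (hnc : ¬ K ≤ centralizer (P : Set G)) :
    ∃ (q : ℕ) (S : Subgroup G), q.Prime ∧ S ≤ K ∧ IsPGroup q S ∧ P ≤ normalizer (S : Set G) ∧
      ¬ S ≤ centralizer (P : Set G) := by
  have hp : p.Prime := Fact.out
  by_contra hcon
  apply hnc
  have hKndvd : ¬ p ∣ Nat.card K := fun h => hp.one_lt.ne' (Nat.eq_one_of_dvd_coprimes hK h dvd_rfl)
  set C : Subgroup G := K ⊓ centralizer (P : Set G) with hC
  have h1 : Nat.card K ∣ Nat.card C := by
    rw [← Nat.factorization_prime_le_iff_dvd Nat.card_pos.ne' Nat.card_pos.ne']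
    intro q hq
    haveI : Fact q.Prime := ⟨hq⟩
    obtain ⟨S, hSK, hSq, hPS, hScard⟩ :=
      Cfsg.Agent.Lib.helper37.exists_invariant_sylow p q P K hP hKndvd hPK
    have hSC : S ≤ centralizer (P : Set G) := by
      by_contra hS
      exact hcon ⟨q, S, hq, hSK, hSq, hPS, hS⟩
    have h2 : Nat.card S ∣ Nat.card C := Subgroup.card_dvd_of_le (le_inf hSK hSC)
    rw [hScard] at h2
    exact (hq.pow_dvd_iff_le_factorization Nat.card_pos.ne').mp h2
  have h2 : C = K := Subgroup.eq_of_le_of_card_ge inf_le_left (Nat.le_of_dvd Nat.card_pos h1)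
  rw [← h2]
  exact inf_le_right

end Cfsg.Agent.Lib.helper21
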