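import Mathlib
import Cfsg.Agent.Lib.helper16.U34CDefs
import Cfsg.Agent.Lib.helper7.SUCenter

set_option autoImplicit false

namespace Cfsg.Agent.Lib.helper16.U34C

open Cfsg

/-- centralizers of corresponding elements under a group isomorphism are isomorphic -/
theorem helper21_centralizer_equiv {A B : Type*} [Group A] [Group B] (e : A ≃* B) (a : A) :
    Nonempty (↥(Subgroup.centralizer ({a} : Set A)) ≃* ↥(Subgroup.centralizer ({e a} : Set B))) := by
  refine ⟨
    { toFun := fun g => ⟨e g.1, ?_⟩
      invFun := fun h => ⟨e.symm h.1, ?_⟩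
      left_inv := fun g => Subtype.ext (e.symm_apply_apply g.1)
      right_inv := fun h => Subtype.ext (e.apply_symm_apply h.1)
      map_mul' := fun g h => Subtype.ext (map_mul e g.1 h.1) }⟩
  · have hg := g.2
    rw [Subgroup.mem_centralizer_iff] at hg ⊢
    intro k hk
    rw [Set.mem_singleton_iff] at hk
    have h1 := hg a (Set.mem_singleton a)
    rw [hk, ← map_mul, ← map_mul, h1]
  · have hh := h.2
    rw [Subgroup.mem_centralizer_iff] at hh ⊢
    intro k hk
    rw [Set.mem_singleton_iff] at hk
    have h1 := hh (e a) (Set.mem_singleton _)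
    apply e.injective
    rw [hk, map_mul, map_mul, e.apply_symm_apply, h1]

variable {F : Type*} [Field F] [Fintype F]

/-- PIECE D5 (racing copy by helper21) -/
theorem helper21_psu_of_su (hF : Fintype.card F = 16) (τ : ↥(SU 3 F 4)) (h2 : orderOf τ = 2) :
    ∃ t : Cfsg.PSU 3 F 4, orderOf t = 2 ∧
      Nonempty (↥(Subgroup.centralizer ({t} : Set (Cfsg.PSU 3 F 4))) ≃*
        ↥(Subgroup.centralizer ({τ} : Set ↥(SU 3 F 4)))) := by
  have hc : Subgroup.center (SU 3 F 4) = ⊥ := by
    have h := Cfsg.Agent.Lib.helper7.card_center_SU (F := F) (q := 4) (by rw [hF]; norm_num) 3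
      (by norm_num)
    have h1 : Nat.card (Subgroup.center (SU 3 F 4)) = 1 := by rw [h]; rfl
    exact Subgroup.card_eq_one.1 h1
  let e : Cfsg.PSU 3 F 4 ≃* ↥(SU 3 F 4) :=
    (QuotientGroup.quotientMulEquivOfEq hc).trans QuotientGroup.quotientBot
  refine ⟨e.symm τ, ?_, ?_⟩
  · rw [MulEquiv.orderOf_eq]; exact h2
  · have h := helper21_centralizer_equiv e (e.symm τ)
    rw [e.apply_symm_apply] at h
    exact h

end Cfsg.Agent.Lib.helper16.U34C
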